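import Cfsg.Agent.Lib.OddOrder.S10.TypeV.Basic
import Cfsg.Agent.Lib.OddOrder.S10.Bridge
import Cfsg.Agent.Lib.OddOrder.S10.System

/-!
Peterfalvi (10.9) with partial coherence: the images of `α_{ab}` and of `μ₀ - ζ` from one coefficient, and the
coherence of an irreducible piece together with all the column sums.
-/

set_option autoImplicit false
set_option linter.unusedSectionVars false
set_option linter.style.haveILetI false

namespace CfsgLib.OddOrder.TypeV

open Cfsg CfsgLib.CharTheory CfsgLib.Dade CfsgLib.OddOrder.Found CfsgLib.OddOrder.Ten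
open scoped ComplexConjugate commutatorElement

universe u

variable {G : Type u} [Group G] [Fintype G] {M : Subgroup G} [Fintype M] {K W₁ W₂ : Subgroup M}
  {H : G → Subgroup G} {d : TenData M K W₁ W₂ H} {p : ℕ}

/-- The inner products of `α_{ab}` with the exceptional characters. -/
theorem alpha_inner_mu {ζ : M → ℂ} (hζ : IsTenZeta d ζ) (a : W₁ →* ℂˣ) (b : W₂ →* ℂˣ) (δ n : ℤ)
    (x : W₁ →* ℂˣ) (y : W₂ →* ℂˣ) [DecidableEq (W₁ →* ℂˣ)] [DecidableEq (W₂ →* ℂˣ)] :
    classInner (d.tenAlpha a b δ n ζ) (d.prime.mu (d.prime.row x * d.prime.col y)) =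
      (if x = a ∧ y = b then 1 else 0) - (δ : ℂ) * (if x = a ∧ y = 1 then 1 else 0) := by
  classical
  have hi : ∀ z, classInner (d.prime.mu (d.prime.row a * d.prime.col z))
      (d.prime.mu (d.prime.row x * d.prime.col y)) = if x = a ∧ y = z then (1 : ℂ) else 0 := fun z => by
    rw [classInner_irr (d.prime.isIrr_mu _) (d.prime.isIrr_mu _)]
    by_cases h : x = a ∧ y = z
    · rw [if_pos h, if_pos (by rw [h.1, h.2])]
    · rw [if_neg h, if_neg fun e => h ?_]
      exact ⟨(d.prime.row_col_injective (d.prime.mu_injective e)).1.symm,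
        (d.prime.row_col_injective (d.prime.mu_injective e)).2.symm⟩
  have hz : classInner ζ (d.prime.mu (d.prime.row x * d.prime.col y)) = 0 := by
    rw [← classInner_comm, d.mu_inner_zeta hζ, map_zero]
  simp only [TenData.tenAlpha, classInner_sub_left, classInner_smul_left, hi, hz]
  ring

/-- The column data of a bridge. -/
structure IsCol (d : TenData M K W₁ W₂ H) (b : W₂ →* ℂˣ) (δ n : ℤ) (e : ℕ) : Prop where
  ne : b ≠ 1
  sq : δ * δ = 1
  delta : d.prime.delta (d.prime.col b) = δ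
  deg : d.prime.colChar b 1 = e
  eq : (e : ℤ) = δ + n * Nat.card W₁
  two_le : 2 ≤ n

/-- The image of `α_{ab}`. -/
noncomputable abbrev alphaImg (d : TenData M K W₁ W₂ H) (a : W₁ →* ℂˣ) (b : W₂ →* ℂˣ) (δ n : ℤ) (ζ : M → ℂ) :
    G → ℂ :=
  d.tau (d.tenAlpha a b δ n ζ)

section Alpha

variable {ζ : M → ℂ} (hζ : IsTenZeta d ζ) {b : W₂ →* ℂˣ} {δ n : ℤ} {e : ℕ} (hb : IsCol d b δ n e)
include hζ hb

theorem alpha_supp (a : W₁ →* ℂˣ) : d.Supported (d.tenAlpha a b δ n ζ) :=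
  d.alpha_supported hζ a hb.delta hb.deg hb.eq

theorem alphaImg_gen (a : W₁ →* ℂˣ) : IsGeneralizedCharacter G (alphaImg d a b δ n ζ) :=
  d.tau_gen (alpha_supp hζ hb a) (d.alpha_gen hζ a b δ n)

theorem alphaImg_norm (a : W₁ →* ℂˣ) :
    classInner (alphaImg d a b δ n ζ) (alphaImg d a b δ n ζ) = ((2 + n ^ 2 : ℤ) : ℂ) := by
  classical
  rw [alphaImg, d.tau_inner (alpha_supp hζ hb a) (alpha_supp hζ hb a)]
  conv_lhs => arg 2; rw [TenData.tenAlpha]
  simp only [classInner_sub_right, classInner_smul_right, alpha_inner_mu hζ, d.alpha_inner_zeta hζ, map_intCast,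
    hb.ne, Ne.symm hb.ne, and_false, and_self, if_true, if_false]
  have h2 : (δ : ℂ) * δ = 1 := by exact_mod_cast hb.sq
  push_cast
  linear_combination h2

theorem alphaImg_corner (a x : W₁ →* ℂˣ) (hx : x ≠ a) :
    classInner (alphaImg d a b δ n ζ) (d.eta a b) - classInner (alphaImg d a b δ n ζ) (d.eta a 1) -
      classInner (alphaImg d a b δ n ζ) (d.eta x b) + classInner (alphaImg d a b δ n ζ) (d.eta x 1) =
      2 * (δ : ℂ) := by
  classical
  set X := alphaImg d a b δ n ζ with hX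
  have hs := alpha_supp hζ hb a
  have hzero : ∀ v : M, d.InV v → (X - (δ : ℂ) • (d.eta a b - d.eta a 1)) (v : G) = 0 := fun v hv => by
    rw [Pi.sub_apply, hX, alphaImg, d.tau_inV hs.1 hv, Pi.smul_apply, Pi.sub_apply, d.eta_apply _ _ hv,
      d.eta_apply _ _ hv, TenData.tenAlpha, Pi.sub_apply, Pi.sub_apply, Pi.smul_apply, Pi.smul_apply,
      d.prime.mu_apply _ (w := ⟨v, hv.1⟩) hv.2.2, d.prime.mu_apply _ (w := ⟨v, hv.1⟩) hv.2.2,
      d.prime.delta_row_mul_col, d.prime.delta_row_mul_col, hb.delta, d.prime.col_one, d.prime.mu_one.2,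
      hζ.zero_off v (d.inV_notMem_kernel hv)]
    simp only [smul_eq_mul]
    ring
  have := d.eta_additive (isClassFunction_sub (isGenChar_iff_coeff_int.mp (alphaImg_gen hζ hb a)).1
    (isClassFunction_smul _ (isClassFunction_sub (isGenChar_iff_coeff_int.mp (d.eta_gen a b)).1
      (isGenChar_iff_coeff_int.mp (d.eta_gen a 1)).1))) hzero a x b 1
  simp only [classInner_sub_left, classInner_smul_left, d.eta_orth, hb.ne, Ne.symm hb.ne, Ne.symm hx,
    and_true, and_false, if_true, if_false] at this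
  linear_combination this

/-- **(10.5), from one coefficient.** -/
theorem alphaImg_eq {ψ : G → ℂ} (hψ : IsSignedIrr ψ) (horth : ∀ a b, classInner ψ (d.eta a b) = 0)
    {a : W₁ →* ℂˣ} (hcoef : classInner (alphaImg d a b δ n ζ) ψ = -(n : ℂ)) :
    alphaImg d a b δ n ζ = (δ : ℂ) • (d.eta a b - d.eta a 1) - (n : ℂ) • ψ := by
  classical
  haveI := Fintype.ofFinite (W₁ →* ℂˣ)
  haveI := Fintype.ofFinite (W₂ →* ℂˣ)
  choose c hc using fun x y => classInner_genChar_int (alphaImg_gen hζ hb a) (d.eta_gen x y)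
  have hcorner : ∀ x, x ≠ a → c a b - c a 1 - c x b + c x 1 = 2 * δ := fun x hx => by
    have := alphaImg_corner hζ hb a x hx
    simp only [hc] at this
    exact_mod_cast this
  exact (alpha_image (η := fun x y => d.eta x y) (e := fun _ : Unit => ψ) (a := 0) (q := fun _ => 1)
    (z₀ := ()) (i := a) (j := b) (o := 1) (fun p q p' q' => d.eta_orth p q p' q')
    (fun k l => by rw [classInner_self_signed hψ, if_pos (Subsingleton.elim k l)])
    (fun p q _ => by rw [← classInner_comm, horth, map_zero]) hc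
    (by rw [hcoef]; push_cast; ring) rfl (fun k hk => absurd (Subsingleton.elim k ()) hk)
    (alphaImg_norm hζ hb a) d.three_le_hom₁ hb.ne hb.sq hcorner).2 rfl

end Alpha

/-- An irreducible piece of `S` with a coherent extension whose images avoid every `η`. -/
structure IsPiece (d : TenData M K W₁ W₂ H) (F : Finset (M → ℂ)) (τ₁ : (M → ℂ) → (G → ℂ))
    (q : (M → ℂ) → ℕ) (ζ : M → ℂ) : Prop where
  sub : ↑F ⊆ inducedIrrAbove K (⊥ : Subgroup M)
  irr : ∀ φ ∈ F, IsIrrCharacter M φ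
  deg : ∀ φ ∈ F, φ 1 = ((Nat.card W₁ * q φ : ℕ) : ℂ)
  iso : IsLinearIsometryOn (zspan ↑F) τ₁
  agree : ∀ α ∈ zspanOn ↑F {1}ᶜ, τ₁ α = d.tau α
  orth : ∀ φ ∈ F, ∀ a b, classInner (τ₁ φ) (d.eta a b) = 0
  zeta : IsTenZeta d ζ
  mem : ζ ∈ F

namespace IsPiece

variable {F : Finset (M → ℂ)} {τ₁ : (M → ℂ) → (G → ℂ)} {q : (M → ℂ) → ℕ} {ζ : M → ℂ}
  (P : IsPiece d F τ₁ q ζ)
include P

theorem q_zeta : q ζ = 1 := by
  have h := P.deg ζ P.mem
  rw [P.zeta.deg, Nat.cast_inj] at h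
  exact Nat.eq_of_mul_eq_mul_left Nat.card_pos (by rw [mul_one]; exact h.symm)

theorem signed {φ : M → ℂ} (hφ : φ ∈ F) : IsSignedIrr (τ₁ φ) :=
  signed_image (fun ξ hξ => P.irr ξ hξ) P.iso hφ

theorem zeta_signed : IsSignedIrr (τ₁ ζ) := P.signed P.mem

theorem zeta_orth : ∀ a b, classInner (τ₁ ζ) (d.eta a b) = 0 := P.orth ζ P.mem

theorem comb_mem {φ : M → ℂ} (hφ : φ ∈ F) :
    φ - (q φ : ℤ) • ζ ∈ zspanOn (↑F : Set (M → ℂ)) {1}ᶜ :=
  ⟨Submodule.sub_mem _ (Submodule.subset_span hφ) (Submodule.smul_mem _ _ (Submodule.subset_span P.mem)),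
    fun x hx => by
      rw [show x = 1 by simpa using hx, Pi.sub_apply, Pi.smul_apply, P.deg φ hφ, P.zeta.deg, zsmul_eq_mul]
      push_cast
      ring⟩

theorem comb_image {φ : M → ℂ} (hφ : φ ∈ F) :
    d.tau (φ - (q φ : ℤ) • ζ) = τ₁ φ - (q φ : ℂ) • τ₁ ζ := by
  rw [← P.agree _ (P.comb_mem hφ), Found.isometryOn_sub P.iso (Submodule.subset_span hφ)
    (Submodule.smul_mem _ _ (Submodule.subset_span P.mem)), P.iso.2.1 _ (Submodule.subset_span P.mem),
    ← Int.cast_smul_eq_zsmul ℂ, Int.cast_natCast]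

theorem comb_supp {φ : M → ℂ} (hφ : φ ∈ F) : d.Supported (φ - (q φ : ℤ) • ζ) :=
  d.supported_of_zspanOn ⟨Submodule.span_mono P.sub (P.comb_mem hφ).1, (P.comb_mem hφ).2⟩

theorem inner_zeta_right {φ : M → ℂ} (hφ : φ ∈ F) (hne : φ ≠ ζ) : classInner ζ φ = 0 :=
  classInner_irr_ne P.zeta.irr (P.irr φ hφ) (Ne.symm hne)

theorem inner_mu {φ : M → ℂ} (hφ : φ ∈ F) (a : W₁ →* ℂˣ) (b : W₂ →* ℂˣ) :
    classInner (d.prime.mu (d.prime.row a * d.prime.col b)) φ = 0 := by
  classical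
  haveI := Fintype.ofFinite (W₁ →* ℂˣ)
  haveI := d.prime.normal
  haveI := Fintype.ofFinite K
  obtain ⟨θ, hθ, -, -, rfl⟩ := P.sub hφ
  refine classInner_irr_ne (d.prime.isIrr_mu _) (P.irr _ hφ) fun e => ?_
  by_cases hc : ∃ c, θ = d.prime.colChar c
  · obtain ⟨c, rfl⟩ := hc
    have h1 := classInner_irr_self (P.irr _ hφ)
    rw [d.prime.indFun_colChar, d.prime.classInner_muSum, if_pos rfl, Nat.cast_eq_one] at h1
    have := d.prime.three_le₁
    omega
  · push Not at hc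
    exact d.prime.indFun_ne_mu hθ hc _ e.symm

/-- The coefficient of `α_{ab}` at the other members of the piece. -/
theorem alpha_coeff {b : W₂ →* ℂˣ} {δ n : ℤ} {e : ℕ} (hb : IsCol d b δ n e) (a : W₁ →* ℂˣ)
    {φ : M → ℂ} (hφ : φ ∈ F) (hne : φ ≠ ζ) :
    classInner (alphaImg d a b δ n ζ) (τ₁ φ) =
      (q φ : ℂ) * (classInner (alphaImg d a b δ n ζ) (τ₁ ζ) + n) := by
  have h := d.tau_inner (alpha_supp P.zeta hb a) (P.comb_supp hφ)
  rw [P.comb_image hφ] at h
  have h0 : classInner (d.tenAlpha a b δ n ζ) φ = 0 := by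
    simp only [TenData.tenAlpha, classInner_sub_left, classInner_smul_left, P.inner_mu hφ,
      P.inner_zeta_right hφ hne]
    ring
  simp only [← Int.cast_smul_eq_zsmul ℂ, classInner_sub_right, classInner_smul_right, Int.cast_natCast,
    map_natCast, h0, d.alpha_inner_zeta P.zeta] at h
  linear_combination h

/-- The norm inequality for the coefficient of `α_{ab}` at `ζ`. -/
theorem alpha_ineq {b : W₂ →* ℂˣ} {δ n : ℤ} {e : ℕ} (hb : IsCol d b δ n e) (a : W₁ →* ℂˣ) {m : ℤ}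
    (hm : classInner (alphaImg d a b δ n ζ) (τ₁ ζ) = ((m - n : ℤ) : ℂ)) :
    m ^ 2 * ((∑ φ ∈ F, q φ ^ 2 : ℕ) : ℤ) - 2 * m * n ≤ 0 := by
  classical
  haveI := Fintype.ofFinite (W₁ →* ℂˣ)
  haveI := Fintype.ofFinite (W₂ →* ℂˣ)
  choose c hc using fun x y => classInner_genChar_int (alphaImg_gen P.zeta hb a) (d.eta_gen x y)
  have hcorner : ∀ x, x ≠ a → c a b - c a 1 - c x b + c x 1 = 2 * δ := fun x hx => by
    have := alphaImg_corner P.zeta hb a x hx
    simp only [hc] at this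
    exact_mod_cast this
  have h := (alpha_image (η := fun x y => d.eta x y) (e := fun φ : F => τ₁ (φ : M → ℂ)) (a := m)
    (q := fun φ : F => (q (φ : M → ℂ) : ℤ)) (z₀ := ⟨ζ, P.mem⟩) (i := a) (j := b) (o := 1)
    (fun x y x' y' => d.eta_orth x y x' y')
    (fun k l => by
      rw [P.iso.2.2.1 _ (Submodule.subset_span k.2) _ (Submodule.subset_span l.2),
        classInner_irr (P.irr _ k.2) (P.irr _ l.2)]
      exact if_congr ⟨fun e => Subtype.ext e, fun e => by rw [e]⟩ rfl rfl)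
    (fun x y k => by rw [← classInner_comm, P.orth _ k.2, map_zero]) hc hm
    (by simp [P.q_zeta]) (fun k hk => by
      rw [P.alpha_coeff hb a k.2 (fun e => hk (Subtype.ext e)), hm]
      push_cast
      ring)
    (alphaImg_norm P.zeta hb a) d.three_le_hom₁ hb.ne hb.sq hcorner).1
  have h2 := two_le_grid d.three_le_hom₁ hb.ne hb.sq hcorner
  rw [Finset.sum_coe_sort F (fun φ => (q φ : ℤ) ^ 2)] at h
  push_cast
  linarith

/-- **(10.9b)** A piece of weight above `2 n` fixes the coefficient. -/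
theorem alpha_coeff_of_large {b : W₂ →* ℂˣ} {δ n : ℤ} {e : ℕ} (hb : IsCol d b δ n e) (a : W₁ →* ℂˣ)
    (hQ : 2 * n < ((∑ φ ∈ F, q φ ^ 2 : ℕ) : ℤ)) :
    classInner (alphaImg d a b δ n ζ) (τ₁ ζ) = -(n : ℂ) := by
  obtain ⟨k, hk⟩ := classInner_genChar_int (alphaImg_gen P.zeta hb a)
    (P.iso.2.2.2 _ (Submodule.subset_span P.mem))
  have hm : classInner (alphaImg d a b δ n ζ) (τ₁ ζ) = (((k + n) - n : ℤ) : ℂ) := by rw [hk, add_sub_cancel_right]
  have h := P.alpha_ineq hb a hm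
  have h0 : k + n = 0 := coeff_eq_zero_of_large (N := 2) (by linarith [hb.two_le]) hQ le_rfl (by linarith)
  rw [hk, show k = -n by omega, Int.cast_neg]

end IsPiece

section Mu0

variable [Fintype (W₁ →* ℂˣ)] {ζ : M → ℂ} (hζ : IsTenZeta d ζ)
include hζ

theorem mu0_props :
    d.Supported (d.prime.muSum 1 - ζ) ∧ (∀ x : M, x ∉ K → (d.prime.muSum 1 - ζ) x = 0) ∧
      (d.prime.muSum 1 - ζ) 1 = 0 ∧ IsGeneralizedCharacter M (d.prime.muSum 1 - ζ) := by
  haveI := d.prime.normal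
  haveI := Fintype.ofFinite K
  have hoff : ∀ x : M, x ∉ K → (d.prime.muSum 1 - ζ) x = 0 := fun x hx => by
    rw [Pi.sub_apply, ← d.prime.indFun_colChar, indFun_normal_apply_not_mem K _ hx, hζ.zero_off x hx, sub_zero]
  have h1 : (d.prime.muSum 1 - ζ) 1 = 0 := by
    rw [Pi.sub_apply, d.muSum_apply_one, d.prime.colChar_one, hζ.deg, mul_one, sub_self]
  have hg : IsGeneralizedCharacter M (d.prime.muSum 1 - ζ) := by
    refine isGenChar_sub ?_ (isGenChar_of_char (isCharacter_of_irr hζ.irr))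
    rw [← d.prime.indFun_colChar]
    exact isGenChar_of_char (isCharacter_indFun K (isCharacter_of_irr (d.prime.isIrr_colChar 1)))
  refine ⟨⟨(isGenChar_iff_coeff_int.mp hg).1, fun x hx => ?_⟩, hoff, h1, hg⟩
  by_cases hx1 : x = 1
  · rw [hx1, h1]
  · exact hoff x fun hk => hx1 (Subgroup.mem_bot.mp (d.prime.inf_eq_bot ▸ Subgroup.mem_inf.mpr ⟨hk, hx⟩))

theorem mu0_norm : classInner (d.tau (d.prime.muSum 1 - ζ)) (d.tau (d.prime.muSum 1 - ζ)) =
    ((Nat.card W₁ + 1 : ℤ) : ℂ) := by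
  classical
  rw [d.tau_inner (mu0_props hζ).1 (mu0_props hζ).1]
  have h1 : classInner (d.prime.muSum 1) ζ = 0 := by
    rw [IsPrimeTI.muSum, classInner_sum_left]
    exact Finset.sum_eq_zero fun a _ => d.mu_inner_zeta hζ a 1
  have h2 : classInner ζ (d.prime.muSum 1) = 0 := by rw [← classInner_comm, h1, map_zero]
  simp only [classInner_sub_left, classInner_sub_right, d.prime.classInner_muSum, if_pos, h1, h2,
    classInner_irr_self hζ.irr]
  push_cast
  ring

theorem mu0_eta_one : classInner (d.tau (d.prime.muSum 1 - ζ)) (d.eta 1 1) = 1 := by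
  classical
  obtain ⟨hs, -, -, -⟩ := mu0_props hζ
  rw [d.eta_one_one, d.tau_one_inner hs]
  have e : (fun _ : M => (1 : ℂ)) = d.prime.mu (d.prime.row 1 * d.prime.col 1) := by
    rw [d.prime.row_one, d.prime.col_one, show (1 : WLin W₁ W₂) * 1 = 1 from MonoidHom.ext fun w => one_mul _,
      d.prime.mu_one.1]
  have h3 : classInner ζ (d.prime.mu (d.prime.row 1 * d.prime.col 1)) = 0 := by
    rw [← classInner_comm, d.mu_inner_zeta hζ, map_zero]
  rw [e, classInner_sub_left, h3, sub_zero, d.prime.classInner_muSum_mu, if_pos rfl]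

theorem mu0_additive (a a' : W₁ →* ℂˣ) (b b' : W₂ →* ℂˣ) :
    classInner (d.tau (d.prime.muSum 1 - ζ)) (d.eta a b) + classInner (d.tau (d.prime.muSum 1 - ζ)) (d.eta a' b') =
      classInner (d.tau (d.prime.muSum 1 - ζ)) (d.eta a b') +
        classInner (d.tau (d.prime.muSum 1 - ζ)) (d.eta a' b) := by
  obtain ⟨hs, hoff, -, -⟩ := mu0_props hζ
  refine d.eta_additive (d.tau_isClassFunction hs) (fun v hv => ?_) a a' b b'
  rw [d.tau_inV hs.1 hv, hoff v (d.inV_notMem_kernel hv)]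

/-- The shift between two columns of the table of `τ (μ₀ - ζ)`. -/
theorem mu0_shift {ψ : G → ℂ} {b : W₂ →* ℂˣ} {δ n : ℤ} {e : ℕ} (hb : IsCol d b δ n e) (a : W₁ →* ℂˣ)
    (himg : alphaImg d a b δ n ζ = (δ : ℂ) • (d.eta a b - d.eta a 1) - (n : ℂ) • ψ) :
    (δ : ℂ) * (classInner (d.tau (d.prime.muSum 1 - ζ)) (d.eta a b) -
        classInner (d.tau (d.prime.muSum 1 - ζ)) (d.eta a 1)) -
      (n : ℂ) * classInner (d.tau (d.prime.muSum 1 - ζ)) ψ = -(δ : ℂ) + n := by
  classical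
  have h := d.tau_inner (mu0_props hζ).1 (alpha_supp hζ hb a)
  rw [← alphaImg, himg] at h
  have hl : classInner (d.prime.muSum 1 - ζ) (d.tenAlpha a b δ n ζ) = -(δ : ℂ) + n := by
    have hz : classInner ζ (d.tenAlpha a b δ n ζ) = -(n : ℂ) := by
      rw [← classInner_comm, d.alpha_inner_zeta hζ, map_neg, map_intCast]
    have hm : ∀ x, classInner (d.prime.mu (d.prime.row x * d.prime.col 1)) (d.tenAlpha a b δ n ζ) =
        if x = a then -(δ : ℂ) else 0 := fun x => by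
      rw [← classInner_comm, alpha_inner_mu hζ]
      simp only [Ne.symm hb.ne, and_false, if_false, and_true, zero_sub]
      by_cases hx : x = a <;> simp [hx]
    rw [classInner_sub_left, IsPrimeTI.muSum, classInner_sum_left, hz]
    simp [hm]
  rw [hl] at h
  simp only [classInner_sub_right, classInner_smul_right, map_intCast] at h
  linear_combination h

/-- **(10.9)** The image of `μ₀ - ζ`. -/
theorem mu0_image {ψ : G → ℂ} (hψ : IsSignedIrr ψ) (horth : ∀ a b, classInner ψ (d.eta a b) = 0)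
    (hb0 : classInner (d.tau (d.prime.muSum 1 - ζ)) ψ = -1)
    (himg : ∀ b : W₂ →* ℂˣ, b ≠ 1 → ∃ δ n : ℤ, ∃ e : ℕ, IsCol d b δ n e ∧
      ∀ a, alphaImg d a b δ n ζ = (δ : ℂ) • (d.eta a b - d.eta a 1) - (n : ℂ) • ψ) :
    d.tau (d.prime.muSum 1 - ζ) = (∑ a, d.eta a 1) - ψ := by
  classical
  haveI := Fintype.ofFinite (W₂ →* ℂˣ)
  obtain ⟨hs, -, -, hg⟩ := mu0_props hζ
  set Y := d.tau (d.prime.muSum 1 - ζ) with hY
  choose c hc using fun x y => classInner_genChar_int (d.tau_gen hs hg) (d.eta_gen x y)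
  have hshift : ∀ x y, y ≠ 1 → c x y = c x 1 + (-1) := fun x y hy => by
    obtain ⟨δ, n, e, hcol, hi⟩ := himg y hy
    have h := mu0_shift hζ hcol x (hi x)
    rw [← hY, hb0] at h
    simp only [hY, hc] at h
    have h' : δ * (c x y - c x 1) + n = -δ + n := by
      have : ((δ * (c x y - c x 1) + n : ℤ) : ℂ) = ((-δ + n : ℤ) : ℂ) := by push_cast; linear_combination h
      exact_mod_cast this
    have h3 : δ * δ * (c x y - c x 1) = -(δ * δ) := by linear_combination δ * h'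
    rw [hcol.sq] at h3
    linarith
  have h11 : c 1 1 = 1 := by
    have := mu0_eta_one hζ
    rw [hc] at this
    exact_mod_cast this
  let f : (W₁ →* ℂˣ) × (W₂ →* ℂˣ) ⊕ Unit → G → ℂ := Sum.elim (fun z => d.eta z.1 z.2) (fun _ => ψ)
  let g : (W₁ →* ℂˣ) × (W₂ →* ℂˣ) ⊕ Unit → ℤ := Sum.elim (fun z => c z.1 z.2) (fun _ => -1)
  have hf : ∀ s s', classInner (f s) (f s') = if s = s' then 1 else 0 := by
    rintro (⟨x, y⟩ | u) (⟨x', y'⟩ | u')
    · simp [f, d.eta_orth, Prod.ext_iff]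
    · show classInner (d.eta x y) ψ = _
      rw [← classInner_comm, horth, map_zero]
      simp
    · simp [f, horth]
    · simp [f, classInner_self_signed hψ]
  have hg' : ∀ s, classInner Y (f s) = g s := by
    rintro (⟨x, y⟩ | u)
    · exact hc x y
    · show classInner Y ψ = ((-1 : ℤ) : ℂ)
      rw [hb0]
      norm_num
  obtain ⟨hle, heq⟩ := bessel_int hf hg' (mu0_norm hζ)
  have hsum : ∑ s, g s ^ 2 = (∑ x, ∑ y, c x y ^ 2) + 1 := by
    rw [Fintype.sum_sum_type, Fintype.sum_prod_type]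
    simp [g]
  have htab := bridge_table (c := c) (t := fun x => c x 1) (s := -1) (o := 1) (i₀ := 1) (fun x => rfl)
    hshift h11 (by norm_num) d.three_le_hom₂ (by rw [d.card_hom₁']; rw [hsum] at hle; linarith)
  have htot : ∑ s, g s ^ 2 = (Nat.card W₁ + 1 : ℤ) := by
    rw [hsum, ← d.card_hom₁']
    simp [htab]
  rw [heq htot, Fintype.sum_sum_type, Fintype.sum_prod_type]
  show (∑ x, ∑ y, (c x y : ℂ) • d.eta x y) + ∑ _u : Unit, ((-1 : ℤ) : ℂ) • ψ = _
  simp [htab, sub_eq_add_neg]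

/-- **(10.9b)** A piece of weight at least three gives the coefficient of `τ (μ₀ - ζ)`. -/
theorem mu0_coeff {F : Finset (M → ℂ)} {τ₁ : (M → ℂ) → (G → ℂ)} {q : (M → ℂ) → ℕ}
    (P : IsPiece d F τ₁ q ζ) (hQ : 3 ≤ ∑ φ ∈ F, q φ ^ 2)
    {b : W₂ →* ℂˣ} {δ n : ℤ} {e : ℕ} (hb : IsCol d b δ n e)
    (himg : ∀ a, alphaImg d a b δ n ζ = (δ : ℂ) • (d.eta a b - d.eta a 1) - (n : ℂ) • τ₁ ζ) :
    classInner (d.tau (d.prime.muSum 1 - ζ)) (τ₁ ζ) = -1 := by
  classical
  haveI := Fintype.ofFinite (W₂ →* ℂˣ)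
  obtain ⟨hs, -, -, hg⟩ := mu0_props hζ
  set Y := d.tau (d.prime.muSum 1 - ζ) with hY
  obtain ⟨β, hβ⟩ := classInner_genChar_int (d.tau_gen hs hg) (P.iso.2.2.2 _ (Submodule.subset_span P.mem))
  choose c hc using fun x y => classInner_genChar_int (d.tau_gen hs hg) (d.eta_gen x y)
  have hother : ∀ φ ∈ F, φ ≠ ζ → classInner Y (τ₁ φ) = (((q φ : ℤ) * (β + 1) : ℤ) : ℂ) := by
    intro φ hφ hne
    have h := d.tau_inner hs (P.comb_supp hφ)
    rw [P.comb_image hφ] at h
    have h0 : classInner (d.prime.muSum 1 - ζ) φ = 0 := by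
      rw [classInner_sub_left, IsPrimeTI.muSum, classInner_sum_left, P.inner_zeta_right hφ hne, sub_zero]
      exact Finset.sum_eq_zero fun a _ => P.inner_mu hφ a 1
    have h1 : classInner (d.prime.muSum 1 - ζ) ζ = -1 := by
      rw [classInner_sub_left, IsPrimeTI.muSum, classInner_sum_left, classInner_irr_self P.zeta.irr,
        Finset.sum_eq_zero fun a _ => d.mu_inner_zeta P.zeta a 1, zero_sub]
    simp only [← Int.cast_smul_eq_zsmul ℂ, classInner_sub_right, classInner_smul_right, Int.cast_natCast,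
      map_natCast, h0, h1] at h
    rw [← hY, show classInner Y (τ₁ ζ) = (β : ℂ) from hβ] at h
    push_cast
    linear_combination h
  set s : ℤ := -1 + δ * n * (β + 1) with hs'
  have hshift : ∀ x, c x b = c x 1 + s := fun x => by
    have h := mu0_shift hζ hb x (himg x)
    rw [← hY] at h
    simp only [hY, hc, hβ] at h
    have h' : δ * (c x b - c x 1) - n * β = -δ + n := by
      have : ((δ * (c x b - c x 1) - n * β : ℤ) : ℂ) = ((-δ + n : ℤ) : ℂ) := by push_cast; linear_combination h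
      exact_mod_cast this
    have h3 : δ * δ * (c x b - c x 1) = -(δ * δ) + δ * n * (β + 1) := by linear_combination δ * h'
    rw [hb.sq] at h3
    rw [hs']
    linarith
  have hs0 : s ≠ 0 := fun e0 => by
    have h1 : δ * n * (β + 1) = 1 := by omega
    have h2 : n * (δ * (β + 1)) = 1 := by linear_combination h1
    have := Int.eq_one_of_mul_eq_one_right (by linarith [hb.two_le]) h2
    linarith [hb.two_le]
  let f : (W₁ →* ℂˣ) × (W₂ →* ℂˣ) ⊕ F → G → ℂ := Sum.elim (fun z => d.eta z.1 z.2) (fun φ => τ₁ (φ : M → ℂ))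
  let g : (W₁ →* ℂˣ) × (W₂ →* ℂˣ) ⊕ F → ℤ :=
    Sum.elim (fun z => c z.1 z.2) (fun φ => if (φ : M → ℂ) = ζ then β else q (φ : M → ℂ) * (β + 1))
  have hf : ∀ z z', classInner (f z) (f z') = if z = z' then 1 else 0 := by
    rintro (⟨x, y⟩ | u) (⟨x', y'⟩ | u')
    · simp [f, d.eta_orth, Prod.ext_iff]
    · show classInner (d.eta x y) (τ₁ (u' : M → ℂ)) = _
      rw [← classInner_comm, P.orth _ u'.2, map_zero]
      simp
    · show classInner (τ₁ (u : M → ℂ)) (d.eta x' y') = _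
      rw [P.orth _ u.2]
      simp
    · show classInner (τ₁ (u : M → ℂ)) (τ₁ (u' : M → ℂ)) = _
      rw [P.iso.2.2.1 _ (Submodule.subset_span u.2) _ (Submodule.subset_span u'.2),
        classInner_irr (P.irr _ u.2) (P.irr _ u'.2)]
      exact if_congr ⟨fun e => congrArg Sum.inr (Subtype.ext e), fun e => by rw [Sum.inr.inj e]⟩ rfl rfl
  have hg' : ∀ z, classInner Y (f z) = g z := by
    rintro (⟨x, y⟩ | u)
    · exact hc x y
    · show classInner Y (τ₁ (u : M → ℂ)) = ((if (u : M → ℂ) = ζ then β else q (u : M → ℂ) * (β + 1) : ℤ) : ℂ)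
      by_cases hu : (u : M → ℂ) = ζ
      · rw [if_pos hu, hu]; exact hβ
      · rw [if_neg hu]; exact hother _ u.2 hu
  obtain ⟨hle, -⟩ := bessel_int hf hg' (mu0_norm hζ)
  rw [Fintype.sum_sum_type, Fintype.sum_prod_type] at hle
  have hrows : (Nat.card W₁ : ℤ) ≤ ∑ x, ∑ y, c x y ^ 2 := by
    have hrow : ∀ x, (1 : ℤ) ≤ ∑ y, c x y ^ 2 := fun x => by
      have h : ∑ y ∈ ({1, b} : Finset (W₂ →* ℂˣ)), c x y ^ 2 ≤ ∑ y, c x y ^ 2 :=
        Finset.sum_le_sum_of_subset_of_nonneg (Finset.subset_univ _) fun y _ _ => sq_nonneg _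
      rw [Finset.sum_pair (Ne.symm hb.ne), hshift x] at h
      have := one_le_row (t := c x 1) (r := 1) le_rfl hs0
      linarith
    rw [← d.card_hom₁']
    simpa using Finset.sum_le_sum (s := Finset.univ) fun x _ => hrow x
  have hF : ∑ u : F, g (Sum.inr u) ^ 2 =
      β ^ 2 + (((∑ φ ∈ F, q φ ^ 2 : ℕ) : ℤ) - 1) * (β + 1) ^ 2 := by
    show ∑ u : F, (if (u : M → ℂ) = ζ then β else q (u : M → ℂ) * (β + 1)) ^ 2 = _
    rw [Finset.sum_coe_sort F (fun φ => (if φ = ζ then β else (q φ : ℤ) * (β + 1)) ^ 2),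
      ← Finset.add_sum_erase _ _ P.mem, if_pos rfl, ← Finset.add_sum_erase F (fun φ => q φ ^ 2) P.mem, P.q_zeta,
      Finset.sum_congr rfl fun φ hφ => show (if φ = ζ then β else (q φ : ℤ) * (β + 1)) ^ 2 =
        (q φ : ℤ) ^ 2 * (β + 1) ^ 2 by rw [if_neg (Finset.ne_of_mem_erase hφ), mul_pow], ← Finset.sum_mul]
    push_cast
    ring
  rw [hF] at hle
  have hQ' : (3 : ℤ) ≤ ((∑ φ ∈ F, q φ ^ 2 : ℕ) : ℤ) := by exact_mod_cast hQ
  have hrows' : (Nat.card W₁ : ℤ) ≤ ∑ x, ∑ y, g (Sum.inl (x, y)) ^ 2 := hrows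
  have hbm : β = -1 := bridge_coeff hQ' (by linarith)
  rw [hY, hβ, hbm]
  norm_num

end Mu0

open Classical in
/-- The column sums of the nontrivial columns. -/
noncomputable def muCols (d : TenData M K W₁ W₂ H) [Fintype (W₁ →* ℂˣ)] [Fintype (W₂ →* ℂˣ)] :
    Finset (M → ℂ) :=
  (Finset.univ.filter (fun b : W₂ →* ℂˣ => b ≠ 1)).image fun b => d.prime.muSum b

theorem mem_muCols [Fintype (W₁ →* ℂˣ)] [Fintype (W₂ →* ℂˣ)] {φ : M → ℂ} :
    φ ∈ muCols d ↔ ∃ b, b ≠ 1 ∧ d.prime.muSum b = φ := by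
  classical
  simp [muCols]

/-- The map sending `μ_{ab}` to `δ_b η_{ab}`. -/
noncomputable def colMap (d : TenData M K W₁ W₂ H) [Fintype (W₁ →* ℂˣ)] [Fintype (W₂ →* ℂˣ)]
    (f : M → ℂ) : G → ℂ :=
  ∑ z : (W₁ →* ℂˣ) × (W₂ →* ℂˣ), (classInner f (d.prime.mu (d.prime.row z.1 * d.prime.col z.2)) *
    d.prime.delta (d.prime.col z.2)) • d.eta z.1 z.2

theorem colMap_add [Fintype (W₁ →* ℂˣ)] [Fintype (W₂ →* ℂˣ)] (f g : M → ℂ) :
    colMap d (f + g) = colMap d f + colMap d g := by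
  rw [colMap, colMap, colMap, ← Finset.sum_add_distrib]
  exact Finset.sum_congr rfl fun z _ => by rw [classInner_add_left, add_mul, add_smul]

theorem colMap_zsmul [Fintype (W₁ →* ℂˣ)] [Fintype (W₂ →* ℂˣ)] (k : ℤ) (f : M → ℂ) :
    colMap d (k • f) = k • colMap d f := by
  rw [← Int.cast_smul_eq_zsmul ℂ, ← Int.cast_smul_eq_zsmul ℂ, colMap, colMap, Finset.smul_sum]
  exact Finset.sum_congr rfl fun z _ => by rw [classInner_smul_left, mul_assoc, smul_smul]

theorem colMap_muSum [Fintype (W₁ →* ℂˣ)] [Fintype (W₂ →* ℂˣ)] (b : W₂ →* ℂˣ) :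
    colMap d (d.prime.muSum b) = d.prime.delta (d.prime.col b) • ∑ a, d.eta a b := by
  classical
  rw [colMap, Fintype.sum_prod_type, Finset.smul_sum]
  refine Finset.sum_congr rfl fun a _ => ?_
  rw [Finset.sum_eq_single b (fun y _ hy => by
      rw [d.prime.classInner_muSum_mu, if_neg (Ne.symm hy), zero_mul, zero_smul])
    (fun h => absurd (Finset.mem_univ b) h), d.prime.classInner_muSum_mu, if_pos rfl, one_mul]

theorem colMap_isometry [Fintype (W₁ →* ℂˣ)] [Fintype (W₂ →* ℂˣ)] :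
    IsLinearIsometryOn (zspan (↑(muCols d) : Set (M → ℂ))) (colMap d) := by
  classical
  have hmem : ∀ φ ∈ muCols d, ∀ ψ ∈ muCols d, classInner (colMap d φ) (colMap d ψ) = classInner φ ψ := by
    intro φ hφ ψ hψ
    obtain ⟨b, -, rfl⟩ := mem_muCols.mp hφ
    obtain ⟨c, -, rfl⟩ := mem_muCols.mp hψ
    rw [colMap_muSum, colMap_muSum, classInner_smul_left, classInner_smul_right, d.prime.classInner_muSum,
      classInner_sum_left]
    by_cases hbc : b = c
    · subst hbc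
      simp only [classInner_sum_right, d.eta_orth, and_true, Finset.sum_ite_eq, Finset.mem_univ, if_true,
        Finset.sum_const, Finset.card_univ, nsmul_eq_mul, mul_one, d.card_hom₁']
      rcases d.prime.delta_eq_or (d.prime.col b) with h | h <;> simp [h]
    · simp [classInner_sum_right, d.eta_orth, hbc]
  have hzero : colMap d (0 : M → ℂ) = 0 := by
    simpa using colMap_zsmul (d := d) 0 (0 : M → ℂ)
  refine ⟨fun a _ b _ => colMap_add a b, fun a _ k => colMap_zsmul k a, fun a ha b hb => ?_, fun a ha => ?_⟩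
  · have h1 : ∀ φ ∈ muCols d, classInner (colMap d φ) (colMap d b) = classInner φ b := fun φ hφ => by
      induction hb using Submodule.span_induction with
      | mem y hy => exact hmem φ hφ y hy
      | zero => rw [hzero, classInner_zero_right, classInner_zero_right]
      | add y z _ _ hy hz => rw [colMap_add, classInner_add_right, classInner_add_right, hy, hz]
      | smul k y _ hy => rw [colMap_zsmul, ← Int.cast_smul_eq_zsmul ℂ, ← Int.cast_smul_eq_zsmul ℂ,
          classInner_smul_right, classInner_smul_right, hy]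
    induction ha using Submodule.span_induction with
    | mem y hy => exact h1 y hy
    | zero => rw [hzero, classInner_zero_left, classInner_zero_left]
    | add y z _ _ hy hz => rw [colMap_add, classInner_add_left, classInner_add_left, hy, hz]
    | smul k y _ hy => rw [colMap_zsmul, ← Int.cast_smul_eq_zsmul ℂ, ← Int.cast_smul_eq_zsmul ℂ,
        classInner_smul_left, classInner_smul_left, hy]
  · induction ha using Submodule.span_induction with
    | mem y hy =>
      obtain ⟨b, -, rfl⟩ := mem_muCols.mp hy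
      rw [colMap_muSum]
      obtain ⟨δ, -, hδ⟩ := d.delta_int b
      rw [hδ]
      exact isGenChar_intSmul δ (isGenChar_sum _ _ fun a _ => d.eta_gen a b)
    | zero => rw [hzero]; exact isGenChar_zero
    | add y z _ _ hy hz => rw [colMap_add]; exact isGenChar_add hy hz
    | smul k y _ hy =>
      rw [colMap_zsmul, ← Int.cast_smul_eq_zsmul ℂ]
      exact isGenChar_intSmul k hy

section Glue

variable [Fintype (W₁ →* ℂˣ)] {F : Finset (M → ℂ)} {τ₁ : (M → ℂ) → (G → ℂ)}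
  {q : (M → ℂ) → ℕ} {ζ : M → ℂ}

/-- The image of `μ_b - e ζ`. -/
theorem column_bridge (_hζ : IsTenZeta d ζ) {ψ : G → ℂ} {b : W₂ →* ℂˣ} {δ n : ℤ} {e : ℕ}
    (hb : IsCol d b δ n e)
    (himg : ∀ a, alphaImg d a b δ n ζ = (δ : ℂ) • (d.eta a b - d.eta a 1) - (n : ℂ) • ψ)
    (hmu0 : d.tau (d.prime.muSum 1 - ζ) = (∑ a, d.eta a 1) - ψ) :
    d.tau (d.prime.muSum b - (e : ℂ) • ζ) = (δ : ℂ) • (∑ a, d.eta a b) - (e : ℂ) • ψ := by
  have hcast : (e : ℂ) = δ + n * (Nat.card W₁ : ℂ) := by exact_mod_cast congrArg (Int.cast (R := ℂ)) hb.eq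
  have hsum : d.prime.muSum b - (e : ℂ) • ζ =
      (∑ a, d.tenAlpha a b δ n ζ) + (δ : ℂ) • (d.prime.muSum 1 - ζ) := by
    simp only [TenData.tenAlpha, Finset.sum_sub_distrib, ← Finset.smul_sum, Finset.sum_const, Finset.card_univ,
      d.card_hom₁', IsPrimeTI.muSum, hcast]
    module
  rw [hsum, TenData.tau, dade_add, dade_sum, dade_smul]
  change (∑ a, alphaImg d a b δ n ζ) + (δ : ℂ) • d.tau (d.prime.muSum 1 - ζ) = _
  rw [Finset.sum_congr rfl fun a _ => himg a, hmu0, Finset.sum_sub_distrib, ← Finset.smul_sum,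
    Finset.sum_sub_distrib, Finset.sum_const, Finset.card_univ, d.card_hom₁', hcast]
  module

/-- The piece and all column sums are coherent together. -/
theorem columns_coherent [Fintype (W₂ →* ℂˣ)] (P : IsPiece d F τ₁ q ζ)
    (himg : ∀ b : W₂ →* ℂˣ, b ≠ 1 → ∃ δ n : ℤ, ∃ e : ℕ, IsCol d b δ n e ∧
      ∀ a, alphaImg d a b δ n ζ = (δ : ℂ) • (d.eta a b - d.eta a 1) - (n : ℂ) • τ₁ ζ)
    (hb0 : classInner (d.tau (d.prime.muSum 1 - ζ)) (τ₁ ζ) = -1) :
    IsCoherent (↑F ∪ ↑(muCols d) : Set (M → ℂ)) {1}ᶜ d.tau := by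
  classical
  haveI := d.prime.normal
  have hmu0 := mu0_image P.zeta P.zeta_signed P.zeta_orth hb0 himg
  have hXY : ∀ a ∈ (↑F : Set (M → ℂ)), ∀ b ∈ (↑(muCols d) : Set (M → ℂ)), classInner a b = 0 := by
    intro φ hφ μ hμ
    obtain ⟨b, -, rfl⟩ := mem_muCols.mp hμ
    rw [← classInner_comm, IsPrimeTI.muSum, classInner_sum_left,
      Finset.sum_eq_zero fun a _ => P.inner_mu hφ a b, map_zero]
  have horth : ∀ a ∈ (↑F : Set (M → ℂ)), ∀ b ∈ (↑(muCols d) : Set (M → ℂ)),
      classInner (τ₁ a) (colMap d b) = 0 := by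
    intro φ hφ μ hμ
    obtain ⟨b, -, rfl⟩ := mem_muCols.mp hμ
    rw [colMap_muSum, classInner_smul_right, classInner_sum_right,
      Finset.sum_eq_zero fun a _ => P.orth φ hφ a b, mul_zero]
  obtain ⟨ρ, hρ, hρab⟩ := exists_glued hXY P.iso colMap_isometry horth
  have hσ0 : τ₁ 0 = 0 := by simpa using P.iso.2.1 0 (Submodule.zero_mem _) 0
  have hρ0 : ρ 0 = 0 := by simpa using hρ.2.1 0 (Submodule.zero_mem _) 0
  have hcm0 : colMap d (0 : M → ℂ) = 0 := by simpa using colMap_zsmul (d := d) 0 (0 : M → ℂ)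
  have hw : (Nat.card W₁ : ℂ) ≠ 0 := Nat.cast_ne_zero.mpr Nat.card_pos.ne'
  -- the key identity on all of the lattice
  have key : ∀ α ∈ zspan (↑F ∪ ↑(muCols d) : Set (M → ℂ)),
      d.tau (α - (α 1 / (Nat.card W₁ : ℂ)) • ζ) = ρ α - (α 1 / (Nat.card W₁ : ℂ)) • τ₁ ζ := by
    intro α hα
    induction hα using Submodule.span_induction with
    | mem y hy =>
      rcases hy with hy | hy
      · have h := hρab y (Submodule.subset_span hy) 0 (Submodule.zero_mem _)
        rw [add_zero, hcm0, add_zero] at h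
        have e : y 1 / (Nat.card W₁ : ℂ) = (q y : ℂ) := by
          rw [P.deg y hy]
          push_cast
          field_simp
        rw [h, e, ← P.comb_image hy, ← Int.cast_smul_eq_zsmul ℂ, Int.cast_natCast]
      · obtain ⟨b, hb1, rfl⟩ := mem_muCols.mp hy
        have h := hρab 0 (Submodule.zero_mem _) (d.prime.muSum b) (Submodule.subset_span hy)
        rw [zero_add, hσ0, zero_add, colMap_muSum] at h
        obtain ⟨δ, n, e, hcol, hi⟩ := himg b hb1
        have e' : d.prime.muSum b 1 / (Nat.card W₁ : ℂ) = (e : ℂ) := by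
          rw [d.muSum_apply_one, hcol.deg]
          field_simp
        rw [h, e', hcol.delta, column_bridge P.zeta hcol hi hmu0]
    | zero =>
      simp only [hρ0, Pi.zero_apply, zero_div, zero_smul, sub_zero]
      funext g
      simp [TenData.tau, dadeIsometry]
    | add y z hy hz hy' hz' =>
      have e : y + z - ((y + z) 1 / (Nat.card W₁ : ℂ)) • ζ =
          (y - (y 1 / (Nat.card W₁ : ℂ)) • ζ) + (z - (z 1 / (Nat.card W₁ : ℂ)) • ζ) := by
        rw [Pi.add_apply, add_div, add_smul]; abel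
      rw [e, TenData.tau, dade_add]
      change d.tau _ + d.tau _ = _
      rw [hy', hz', hρ.1 y hy z hz, Pi.add_apply, add_div, add_smul]
      abel
    | smul k y hy hy' =>
      have hc : (k • y) 1 / (Nat.card W₁ : ℂ) = (k : ℂ) * (y 1 / (Nat.card W₁ : ℂ)) := by
        rw [Pi.smul_apply, zsmul_eq_mul, mul_div_assoc]
      have e : k • y - ((k • y) 1 / (Nat.card W₁ : ℂ)) • ζ = k • (y - (y 1 / (Nat.card W₁ : ℂ)) • ζ) := by
        rw [hc, ← smul_smul, Int.cast_smul_eq_zsmul, smul_sub]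
      rw [e, TenData.tau, dade_zsmul]
      change k • d.tau _ = _
      rw [hy', hρ.2.1 y hy k, hc, ← smul_smul, Int.cast_smul_eq_zsmul, smul_sub]
  refine ⟨?_, ρ, hρ, fun α hα => ?_⟩
  · obtain ⟨b, hb1⟩ : ∃ b : W₂ →* ℂˣ, b ≠ 1 :=
      Fintype.exists_ne_of_one_lt_card (by have := d.three_le_hom₂; omega) 1
    obtain ⟨δ, n, e, hcol, -⟩ := himg b hb1
    have hmu : d.prime.muSum b ∈ muCols d := mem_muCols.mpr ⟨b, hb1, rfl⟩
    refine ⟨d.prime.muSum b - (e : ℤ) • ζ, ⟨Submodule.sub_mem _ (Submodule.subset_span (Or.inr hmu))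
      (Submodule.smul_mem _ _ (Submodule.subset_span (Or.inl P.mem))), fun x hx => ?_⟩, fun h0 => ?_⟩
    · rw [show x = 1 by simpa using hx, Pi.sub_apply, Pi.smul_apply, d.muSum_apply_one, hcol.deg, P.zeta.deg,
        zsmul_eq_mul]
      push_cast
      ring
    · have h1 := congrArg (fun f => classInner f (d.prime.muSum b)) h0
      have hz : classInner ζ (d.prime.muSum b) = 0 :=
        hXY ζ P.mem _ hmu
      simp only [← Int.cast_smul_eq_zsmul ℂ, classInner_sub_left, classInner_smul_left, hz, mul_zero, sub_zero,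
        d.prime.classInner_muSum, if_pos, classInner_zero_left] at h1
      exact hw h1
  · have h := key α hα.1
    rw [hα.2 1 (fun e => e rfl), zero_div, zero_smul, sub_zero, zero_smul, sub_zero] at h
    exact h.symm

/-- **(10.9b)** A piece of weight above every `2 n` is coherent together with all column sums. -/
theorem bridge_large [Fintype (W₂ →* ℂˣ)] (P : IsPiece d F τ₁ q ζ) (hQ3 : 3 ≤ ∑ φ ∈ F, q φ ^ 2)
    (hQ : ∀ b : W₂ →* ℂˣ, b ≠ 1 → ∀ (δ n : ℤ) (e : ℕ), IsCol d b δ n e →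
      2 * n < ((∑ φ ∈ F, q φ ^ 2 : ℕ) : ℤ)) :
    IsCoherent (↑F ∪ ↑(muCols d) : Set (M → ℂ)) {1}ᶜ d.tau := by
  have himg : ∀ b : W₂ →* ℂˣ, b ≠ 1 → ∃ δ n : ℤ, ∃ e : ℕ, IsCol d b δ n e ∧
      ∀ a, alphaImg d a b δ n ζ = (δ : ℂ) • (d.eta a b - d.eta a 1) - (n : ℂ) • τ₁ ζ := fun b hb => by
    obtain ⟨δ, n, e, h1, h2, h3, h4, h5⟩ := d.exists_params hb
    have hcol : IsCol d b δ n e := ⟨hb, h1, h2, h3, h4, h5⟩
    exact ⟨δ, n, e, hcol, fun a => alphaImg_eq P.zeta hcol P.zeta_signed P.zeta_orth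
      (P.alpha_coeff_of_large hcol a (hQ b hb δ n e hcol))⟩
  obtain ⟨b, hb⟩ : ∃ b : W₂ →* ℂˣ, b ≠ 1 :=
    Fintype.exists_ne_of_one_lt_card (by have := d.three_le_hom₂; omega) 1
  obtain ⟨δ, n, e, hcol, hi⟩ := himg b hb
  exact columns_coherent P himg (mu0_coeff P.zeta P hQ3 hcol hi)

end Glue

end CfsgLib.OddOrder.TypeV
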