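import Cfsg.Agent.Lib.CharTheory.CoherenceChain
import Cfsg.Agent.Lib.CharTheory.CoherenceConst
import Cfsg.Agent.Lib.CharTheory.CoherenceDescend
import Cfsg.Agent.Lib.CharTheory.FrobSection
import Cfsg.Agent.Lib.CharTheory.DegreeSection
import Cfsg.Agent.Lib.CharTheory.AbelianInertia

/-!
Peterfalvi (10.10), case (6.8 c2): a layer of the induced characters, those trivial on `A` and not on `B`; its
values, its weight, and its coherence when the layer is central in a `p`-group kernel.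
-/

set_option autoImplicit false
set_option linter.unusedSectionVars false

namespace CfsgLib.OddOrder.TypeV

open Cfsg CfsgLib.CharTheory

universe u v

variable {L : Type u} [Group L] [Fintype L]

/-- The members of `S A` outside `S B`. -/
noncomputable def layerFin (K A B : Subgroup L) : Finset (L → ℂ) :=
  ((inducedIrrAbove_finite K A).sdiff (t := inducedIrrAbove K B)).toFinset

theorem mem_layerFin {K A B : Subgroup L} {φ : L → ℂ} :
    φ ∈ layerFin K A B ↔ φ ∈ inducedIrrAbove K A ∧ φ ∉ inducedIrrAbove K B := by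
  rw [layerFin, Set.Finite.mem_toFinset]
  rfl

theorem coe_layerFin (K A B : Subgroup L) :
    (↑(layerFin K A B) : Set (L → ℂ)) = inducedIrrAbove K A \ inducedIrrAbove K B :=
  Set.Finite.coe_toFinset _

theorem conj_mem_layerFin {K A B : Subgroup L} {φ : L → ℂ} (h : φ ∈ layerFin K A B) :
    conjFun φ ∈ layerFin K A B := by
  rw [mem_layerFin] at h ⊢
  exact ⟨inducedIrrAbove_conj K A h.1, fun h' =>
    h.2 (by simpa [cs_conj_conj] using inducedIrrAbove_conj K B h')⟩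

theorem inducedIrrAbove_antitone (K : Subgroup L) {A B : Subgroup L} (hAB : A ≤ B) :
    inducedIrrAbove K B ⊆ inducedIrrAbove K A :=
  fun _ ⟨θ, h1, h2, h3, h4⟩ => ⟨θ, h1, h2, fun a ha => h3 a (hAB ha), h4⟩

/-- No member of `S` has a kernel containing the whole of `K`. -/
theorem inducedIrrAbove_self (K : Subgroup L) : inducedIrrAbove K K = ∅ := by
  classical
  refine Set.eq_empty_of_forall_notMem ?_
  rintro φ ⟨θ, hθ, h1, h2, -⟩
  exact h1 (irr_eq_one_of_kernel_top hθ fun g => h2 g g.2)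

theorem coe_layerFin_top (K A : Subgroup L) :
    (↑(layerFin K A K) : Set (L → ℂ)) = inducedIrrAbove K A := by
  rw [coe_layerFin, inducedIrrAbove_self, Set.sdiff_empty]

theorem mem_layerFin_top {K A : Subgroup L} {φ : L → ℂ} :
    φ ∈ layerFin K A K ↔ φ ∈ inducedIrrAbove K A := by
  rw [mem_layerFin, inducedIrrAbove_self]
  simp

variable (K A B : Subgroup L) [K.Normal] [A.Normal] [B.Normal]

/-- A layer of irreducible members consists of the irreducible characters trivial on `A` and not on `B`. -/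
theorem layer_eq (hAB : A ≤ B) (hBK : B ≤ K)
    (hirr : ∀ φ ∈ layerFin K A B, IsIrrCharacter L φ) {φ : L → ℂ} :
    φ ∈ layerFin K A B ↔
      IsIrrCharacter L φ ∧ (∀ a ∈ A, φ a = φ 1) ∧ ∃ z ∈ B, φ z ≠ φ 1 := by
  classical
  have : Fintype K := Fintype.ofFinite K
  constructor
  · intro hφ
    refine ⟨hirr φ hφ, ?_, ?_⟩
    · obtain ⟨θ, h1, -, h3, rfl⟩ := (mem_layerFin.mp hφ).1
      exact (indFun_kernel_iff K A (hAB.trans hBK) (isCharacter_of_irr h1)).mpr h3
    · obtain ⟨θ, h1, h2, -, rfl⟩ := (mem_layerFin.mp hφ).1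
      by_contra hno
      push Not at hno
      exact (mem_layerFin.mp hφ).2
        ⟨θ, h1, h2, (indFun_kernel_iff K B hBK (isCharacter_of_irr h1)).mp hno, rfl⟩
  · rintro ⟨hφ, hA, z, hz, hne⟩
    obtain ⟨θ, hθ, hc⟩ := exists_constituent (isCharacter_restrict (isCharacter_of_irr hφ) K)
      (fun e => irr_ne_zero hφ (congrFun e 1))
    have hcl := clifford K hφ hθ hc
    have hθB : ¬ ∀ a : K, (a : L) ∈ B → θ a = θ 1 := fun h => by
      have e1 := congrFun hcl ⟨z, hBK hz⟩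
      have e2 := congrFun hcl 1
      simp only [Pi.smul_apply, Finset.sum_apply] at e1 e2
      refine hne ?_
      rw [show φ z = φ ((⟨z, hBK hz⟩ : K) : L) from rfl, e1, show φ 1 = φ ((1 : K) : L) from rfl, e2]
      congr 1
      refine Finset.sum_congr rfl fun ψ hψ => ?_
      obtain ⟨g, rfl⟩ := (mem_conjOrbit K).mp hψ
      rw [conjNormFun_apply_one]
      exact h _ ((inferInstance : B.Normal).conj_mem z hz g)
    have hθA : ∀ a : K, (a : L) ∈ A → θ a = θ 1 := by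
      intro a ha
      obtain ⟨t, -, ht⟩ := irr_degree_pos hθ
      have e1 := congrFun hcl a
      have e2 := congrFun hcl 1
      simp only [Pi.smul_apply, Finset.sum_apply, smul_eq_mul] at e1 e2
      rw [hA _ ha, show φ 1 = φ ((1 : K) : L) from rfl, e2] at e1
      have hre := congrArg Complex.re (mul_left_cancel₀ hc e1).symm
      rw [Complex.re_sum, Complex.re_sum] at hre
      have hle : ∀ ψ ∈ conjOrbit K θ, (ψ a).re ≤ (ψ 1).re := fun ψ hψ => by
        obtain ⟨g, rfl⟩ := (mem_conjOrbit K).mp hψ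
        rw [conjNormFun_apply_one, ht, Complex.natCast_re]
        exact (Complex.re_le_norm _).trans
          ((norm_char_le (isCharacter_of_irr hθ) _).trans (by rw [ht, Complex.norm_natCast]))
      have h1 := (Finset.sum_eq_sum_iff_of_le hle).mp hre θ
        ((mem_conjOrbit K).mpr ⟨1, conjNormFun_one K θ⟩)
      rw [ht, Complex.natCast_re] at h1
      rw [ht]
      refine Complex.ext (by rw [h1, Complex.natCast_re]) ?_
      rw [Complex.natCast_im]
      have hsq : ‖θ a‖ ^ 2 ≤ (t : ℝ) ^ 2 := pow_le_pow_left₀ (norm_nonneg _)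
        ((norm_char_le (isCharacter_of_irr hθ) a).trans (by rw [ht, Complex.norm_natCast])) 2
      rw [← Complex.normSq_eq_norm_sq, Complex.normSq_apply, h1] at hsq
      nlinarith
    have hθ1 : θ ≠ fun _ => 1 := fun e => hθB fun a _ => by rw [e]
    have hmem : indFun K θ ∈ inducedIrrAbove K A := ⟨θ, hθ, hθ1, hθA, rfl⟩
    have hnot : indFun K θ ∉ inducedIrrAbove K B := by
      rintro ⟨η, hη, -, hηB, e⟩
      exact hθB ((indFun_kernel_iff K B hBK (isCharacter_of_irr hθ)).mp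
        (e ▸ (indFun_kernel_iff K B hBK (isCharacter_of_irr hη)).mpr hηB))
    have hI := hirr _ (mem_layerFin.mpr ⟨hmem, hnot⟩)
    have hEq : φ = indFun K θ := by
      by_contra hne'
      refine hc ?_
      rw [← frobenius_reciprocity' K θ (isClassFunction_irr hφ)]
      exact classInner_irr_ne hφ hI hne'
    rw [hEq]
    exact mem_layerFin.mpr ⟨hmem, hnot⟩

open Classical in
/-- The irreducible characters trivial on `N`, weighted by their degrees. -/
theorem sum_trivial_apply (N : Subgroup L) [N.Normal] (x : L) :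
    ∑ θ ∈ (Finset.univ : Finset (IrrCharacter L)).filter
        (fun θ : IrrCharacter L => ∀ n ∈ N, (θ : L → ℂ) n = (θ : L → ℂ) 1),
      (θ : L → ℂ) x * (θ : L → ℂ) 1 = if x ∈ N then (N.index : ℂ) else 0 := by
  have : Fintype (L ⧸ N) := Fintype.ofFinite _
  rw [Finset.sum_subtype _ (p := fun θ : IrrCharacter L => ∀ n ∈ N, (θ : L → ℂ) n = (θ : L → ℂ) 1)
    (fun θ => by simp), ← Fintype.sum_equiv (quotientIrrEquiv N) (fun ψ : IrrCharacter (L ⧸ N) =>
      (ψ : L ⧸ N → ℂ) (x : L ⧸ N) * (ψ : L ⧸ N → ℂ) 1) _ (fun ψ => rfl), sum_irr_apply_mul_degree]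
  exact if_congr (QuotientGroup.eq_one_iff x) rfl rfl

open Classical in
/-- The values of a layer weighted by the degrees. -/
theorem layer_sum_apply (hAB : A ≤ B) (hBK : B ≤ K) (hirr : ∀ φ ∈ layerFin K A B, IsIrrCharacter L φ) (x : L) :
    ∑ φ ∈ layerFin K A B, φ x * φ 1 =
      (if x ∈ A then (A.index : ℂ) else 0) - (if x ∈ B then (B.index : ℂ) else 0) := by
  rw [← sum_trivial_apply A x, ← sum_trivial_apply B x, eq_sub_iff_add_eq]
  rw [← Finset.sum_filter_add_sum_filter_not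
    ((Finset.univ : Finset (IrrCharacter L)).filter
      (fun θ : IrrCharacter L => ∀ n ∈ A, (θ : L → ℂ) n = (θ : L → ℂ) 1))
    (fun θ : IrrCharacter L => ∀ n ∈ B, (θ : L → ℂ) n = (θ : L → ℂ) 1), add_comm]
  simp only [Finset.filter_filter]
  congr 1
  · refine Finset.sum_congr (Finset.filter_congr fun θ _ => ?_) fun _ _ => rfl
    exact ⟨fun h => ⟨fun n hn => h n (hAB hn), h⟩, fun h => h.2⟩
  · refine (Finset.sum_bij (fun (θ : IrrCharacter L) _ => θ.1) (fun θ hθ => ?_)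
      (fun θ _ η _ e => Subtype.ext e) (fun q hq => ?_) (fun θ _ => rfl)).symm
    · obtain ⟨-, hA, hB⟩ := Finset.mem_filter.mp hθ
      push Not at hB
      exact (layer_eq K A B hAB hBK hirr).mpr ⟨θ.2, hA, hB⟩
    · obtain ⟨hq1, hq2, z, hz, hne⟩ := (layer_eq K A B hAB hBK hirr).mp hq
      exact ⟨⟨q, hq1⟩, Finset.mem_filter.mpr ⟨Finset.mem_univ _, hq2, fun h => hne (h z hz)⟩, rfl⟩

/-- The weight of a layer. -/
theorem layer_sum_sq (hAB : A ≤ B) (hBK : B ≤ K) (hirr : ∀ φ ∈ layerFin K A B, IsIrrCharacter L φ)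
    (d : (L → ℂ) → ℕ) (hd : ∀ φ ∈ layerFin K A B, φ 1 = (d φ : ℂ)) :
    (∑ φ ∈ layerFin K A B, d φ ^ 2) + B.index = A.index := by
  classical
  have h := layer_sum_apply K A B hAB hBK hirr 1
  rw [if_pos A.one_mem, if_pos B.one_mem, Finset.sum_congr rfl fun φ hφ => show φ 1 * φ 1 = ((d φ ^ 2 : ℕ) : ℂ) by
    rw [hd φ hφ]; push_cast; ring, ← Nat.cast_sum, eq_sub_iff_add_eq, ← Nat.cast_add] at h
  exact_mod_cast h

theorem layer_nonempty (hAB : A < B) (hBK : B ≤ K) (hirr : ∀ φ ∈ layerFin K A B, IsIrrCharacter L φ) :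
    (layerFin K A B).Nonempty := by
  classical
  by_contra hno
  rw [Finset.not_nonempty_iff_eq_empty] at hno
  have h := layer_sum_apply K A B hAB.le hBK hirr 1
  rw [hno, Finset.sum_empty, if_pos A.one_mem, if_pos B.one_mem, eq_comm, sub_eq_zero, Nat.cast_inj] at h
  exact (Subgroup.index_strictAnti hAB).ne h.symm

variable {G : Type v} [Group G] [Fintype G]

/-- The degree of a member of `S A` is bounded by the index of a subgroup central modulo `A`. -/
theorem deg_sq_le (hcent : ∀ x ∈ B, ∀ y ∈ K, x * y * x⁻¹ * y⁻¹ ∈ A) {θ : K → ℂ}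
    (hθ : IsIrrCharacter K θ) (hA : ∀ a : K, (a : L) ∈ A → θ a = θ 1) {t : ℕ} (ht : θ 1 = t) :
    t ^ 2 ≤ B.relIndex K := by
  have : Fintype K := Fintype.ofFinite K
  have hb := irr_degree_sq_le_of_section hθ ht ⊤ (B.subgroupOf K) le_top (fun x hx y _ =>
    hA _ (hcent x hx y y.2))
  rw [Subgroup.index_top, one_pow, one_mul, Subgroup.relIndex_top_right] at hb
  exact hb

set_option maxHeartbeats 400000 in
open Classical in
/-- A layer, central in a `p`-group kernel, is coherent. -/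
theorem coherent_layer {τ : (L → ℂ) → (G → ℂ)} {R : (L → ℂ) → Finset (G → ℂ)}
    (hS : IsCoherenceSystem (inducedIrrAbove K ⊥) τ R) {p a : ℕ} [Fact p.Prime] (hp : 2 < p)
    (hK : Nat.card K = p ^ a) (hcop : K.index.Coprime p) (hAB : A < B) (hBK : B ≤ K)
    (hcent : ∀ x ∈ B, ∀ y ∈ K, x * y * x⁻¹ * y⁻¹ ∈ A)
    (hirr : ∀ φ ∈ layerFin K A B, IsIrrCharacter L φ) :
    IsCoherent (↑(layerFin K A B) : Set (L → ℂ)) {1}ᶜ τ := by
  have : Fintype K := Fintype.ofFinite K
  have he : 1 ≤ K.index := Nat.one_le_iff_ne_zero.mpr Subgroup.index_ne_zero_of_finite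
  set X := layerFin K A B with hXdef
  have hXS : ∀ φ ∈ X, φ ∈ inducedIrrAbove K ⊥ := fun φ h =>
    inducedIrrAbove_subset K A (mem_layerFin.mp h).1
  choose! d hd using fun φ (hφ : φ ∈ inducedIrrAbove K ⊥) => char_one_eq_natCast (hS.isCharacter φ hφ)
  choose! n hn using fun φ (hφ : φ ∈ inducedIrrAbove K ⊥) =>
    classInner_char_nat (hS.isCharacter φ hφ) (hS.isCharacter φ hφ)
  have hn1 : ∀ φ ∈ X, n φ = 1 := fun φ hφ => by
    have := hn φ (hXS φ hφ)
    rw [classInner_irr_self (hirr φ hφ), eq_comm, Nat.cast_eq_one] at this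
    exact this
  have hdeg : ∀ φ ∈ X, ∃ m, d φ = K.index * p ^ m ∧ (p ^ m) ^ 2 ∣ B.relIndex K := fun φ hφ => by
    obtain ⟨θ, hθ, -, hθA, e⟩ := (mem_layerFin.mp hφ).1
    obtain ⟨t, -, ht⟩ := irr_degree_pos hθ
    have htd : t ∣ Nat.card K := by
      obtain ⟨r, ρ, hρ, rfl⟩ := id hθ
      have h := degree_dvd_index_center ρ
      rw [ρ.char_one, Nat.cast_inj] at ht
      rw [← ht]
      exact h.trans (Subgroup.index_dvd_card _)
    rw [hK] at htd
    obtain ⟨m, -, rfl⟩ := (Nat.dvd_prime_pow Fact.out).mp htd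
    have hb := deg_sq_le K A B hcent hθ hθA ht
    obtain ⟨b, -, hb'⟩ := (Nat.dvd_prime_pow (Fact.out : p.Prime)).mp
      (show B.relIndex K ∣ p ^ a from hK ▸ Subgroup.index_dvd_card _)
    rw [hb'] at hb ⊢
    rw [← pow_mul] at hb
    have hmb := (Nat.pow_le_pow_iff_right (Fact.out : p.Prime).one_lt).mp hb
    refine ⟨m, ?_, by rw [← pow_mul]; exact pow_dvd_pow p hmb⟩
    have h := hd φ (hXS φ hφ)
    rw [e, indFun_apply_one, ht] at h
    rw [e]; exact_mod_cast h.symm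
  choose! ex hex hexd using hdeg
  obtain ⟨χ₁, hχ₁, hmin⟩ := X.exists_min_image d (layer_nonempty K A B hAB hBK hirr)
  set C := X.filter fun φ => d φ = d χ₁ with hC
  have hconjd : ∀ φ ∈ inducedIrrAbove K ⊥, d (conjFun φ) = d φ := fun φ hφ => by
    have h : ((d (conjFun φ) : ℕ) : ℂ) = (d φ : ℂ) := by
      rw [← hd _ (inducedIrrAbove_conj K ⊥ hφ)]
      show (starRingEnd ℂ) (φ 1) = _
      rw [hd φ hφ, map_natCast]
    exact_mod_cast h
  have hXc : ∀ φ ∈ X, conjFun φ ∈ X := fun φ hφ => conj_mem_layerFin hφ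
  have hCc : ∀ φ ∈ C, conjFun φ ∈ C := fun φ hφ => by
    rw [hC, Finset.mem_filter] at hφ ⊢
    exact ⟨hXc φ hφ.1, (hconjd φ (hXS φ hφ.1)).trans hφ.2⟩
  have hCS : (↑C : Set (L → ℂ)) ⊆ inducedIrrAbove K ⊥ := fun φ hφ => hXS φ (Finset.mem_filter.mp hφ).1
  have hcohC : IsCoherent (↑C : Set (L → ℂ)) {1}ᶜ τ :=
    coherent_of_constant_degree (coherenceSystem_subset hS hCS ⟨χ₁, Finset.mem_filter.mpr ⟨hχ₁, rfl⟩⟩ hCc)
      (fun φ hφ ψ hψ => by rw [hd φ (hCS hφ), hd ψ (hCS hψ), (Finset.mem_filter.mp hφ).2, (Finset.mem_filter.mp hψ).2])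
  have htot : (∑ φ ∈ X, d φ ^ 2) + B.index = A.index :=
    layer_sum_sq K A B hAB.le hBK hirr d fun φ hφ => hd φ (hXS φ hφ)
  refine coherent_chain hS d n hd hn X hXS hXc C (Finset.filter_subset _ _) hCc hcohC
    (Finset.mem_filter.mpr ⟨hχ₁, rfl⟩) (fun χ hχ _ => ?_) (fun χ hχ hχC => ?_)
  · rw [hex χ hχ, hex χ₁ hχ₁]
    refine Nat.mul_dvd_mul_left _ (pow_dvd_pow p ?_)
    have h := hmin χ hχ
    rw [hex χ hχ, hex χ₁ hχ₁] at h
    exact (Nat.pow_le_pow_iff_right (Fact.out : p.Prime).one_lt).mp (Nat.le_of_mul_le_mul_left h he)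
  · have hlt : d χ₁ < d χ := lt_of_le_of_ne (hmin χ hχ) fun h => hχC (Finset.mem_filter.mpr ⟨hχ, h.symm⟩)
    set m := ex χ
    set m₁ := ex χ₁
    have hdiv : K.index ^ 2 * (p ^ m) ^ 2 ∣ ∑ φ ∈ X with d φ < d χ, d φ ^ 2 := by
      have h1 : K.index ^ 2 ∣ ∑ φ ∈ X with d φ < d χ, d φ ^ 2 := Finset.dvd_sum fun φ hφ => by
        rw [hex φ (Finset.mem_filter.mp hφ).1, mul_pow]; exact dvd_mul_right _ _
      have h2 : (p ^ m) ^ 2 ∣ ∑ φ ∈ X with d φ < d χ, d φ ^ 2 := by
        have hb : (p ^ m) ^ 2 ∣ ∑ φ ∈ X with ¬ d φ < d χ, d φ ^ 2 := Finset.dvd_sum fun φ hφ => by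
          obtain ⟨hφX, hφd⟩ := Finset.mem_filter.mp hφ
          rw [hex φ hφX, hex χ hχ, not_lt] at hφd
          have hmm := (Nat.pow_le_pow_iff_right (Fact.out : p.Prime).one_lt).mp (Nat.le_of_mul_le_mul_left hφd he)
          rw [hex φ hφX, mul_pow, ← pow_mul p, ← pow_mul p]
          exact (pow_dvd_pow p (Nat.mul_le_mul_right 2 hmm)).mul_left _
        have hB' : (p ^ m) ^ 2 ∣ B.index := by
          rw [← Subgroup.relIndex_mul_index hBK]; exact (hexd χ hχ).mul_right _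
        have hA' : (p ^ m) ^ 2 ∣ A.index := hB'.trans (Subgroup.index_dvd_of_le hAB.le)
        have hall : (p ^ m) ^ 2 ∣ ∑ φ ∈ X, d φ ^ 2 := by
          rw [← htot] at hA'; exact (Nat.dvd_add_left hB').mp hA'
        rw [← Finset.sum_filter_add_sum_filter_not X (fun φ => d φ < d χ)] at hall
        exact (Nat.dvd_add_left hb).mp hall
      exact Nat.Coprime.mul_dvd_of_dvd_of_dvd ((hcop.pow_right m).pow 2 2) h1 h2
    have hpos : 0 < ∑ φ ∈ X with d φ < d χ, d φ ^ 2 :=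
      lt_of_lt_of_le (pow_pos (by rw [hex χ₁ hχ₁]; exact Nat.mul_pos he (pow_pos (Fact.out : p.Prime).pos _)) 2)
        (Finset.single_le_sum (fun φ _ => Nat.zero_le (d φ ^ 2)) (Finset.mem_filter.mpr ⟨hχ₁, hlt⟩))
    have hge := Nat.le_of_dvd hpos hdiv
    have hsumR : (∑ φ ∈ X with d φ < d χ, ((d φ : ℝ) ^ 2 / (n φ : ℝ))) = ((∑ φ ∈ X with d φ < d χ, d φ ^ 2 : ℕ) : ℝ) := by
      push_cast
      exact Finset.sum_congr rfl fun φ hφ => by rw [hn1 φ (Finset.mem_filter.mp hφ).1]; norm_num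
    rw [hsumR, show (2 : ℝ) * d χ * d χ₁ = ((2 * d χ * d χ₁ : ℕ) : ℝ) by push_cast; ring]
    refine Nat.cast_lt.mpr (lt_of_lt_of_le ?_ hge)
    rw [hex χ hχ, hex χ₁ hχ₁] at hlt ⊢
    have hmm : m₁ < m := (Nat.pow_lt_pow_iff_right (Fact.out : p.Prime).one_lt).mp (Nat.lt_of_mul_lt_mul_left hlt)
    have h3 : 2 * p ^ m₁ < p ^ m := by
      calc 2 * p ^ m₁ < p * p ^ m₁ := Nat.mul_lt_mul_of_pos_right hp (pow_pos (Fact.out : p.Prime).pos _)
        _ = p ^ (m₁ + 1) := by ring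
        _ ≤ p ^ m := Nat.pow_le_pow_right (Fact.out : p.Prime).pos hmm
    calc 2 * (K.index * p ^ m) * (K.index * p ^ m₁) = K.index ^ 2 * p ^ m * (2 * p ^ m₁) := by ring
      _ < K.index ^ 2 * p ^ m * p ^ m := Nat.mul_lt_mul_of_pos_left h3 (Nat.mul_pos (pow_pos he 2) (pow_pos (Fact.out : p.Prime).pos _))
      _ = _ := by ring

end CfsgLib.OddOrder.TypeV
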