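import Cfsg.Agent.Lib.OddOrder.S10.Values
import Cfsg.Agent.Lib.OddOrder.S10.Rho
import Cfsg.Agent.Lib.OddOrder.S10.TypeV.Layer
import Cfsg.Agent.Lib.OddOrder.S10.System
import Cfsg.Prelude.Def_OddOrderLocal

/-!
Peterfalvi (10.10), case (6.8 c2): the hypothesis, the Dade map as induction on `K#`, the coherence system
of `S = S (⊥)`, and the degrees of the members.
-/

set_option autoImplicit false
set_option linter.unusedSectionVars false
set_option linter.style.haveILetI false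

namespace CfsgLib.OddOrder.TypeV

open Cfsg CfsgLib.CharTheory CfsgLib.Dade CfsgLib.OddOrder.Found CfsgLib.OddOrder.Ten
open scoped ComplexConjugate commutatorElement

universe u

variable {G : Type u} [Group G] [Fintype G] {M : Subgroup G} [Fintype M] {K W₁ W₂ : Subgroup M}
  {H : G → Subgroup G}

/-- The hypothesis of the case (6.8 c2) in (10.10). -/
structure TypeVData (_d : TenData M K W₁ W₂ H) (p : ℕ) : Prop where
  hp : p.Prime
  pgroup : IsPGroup p K
  sylow : ¬ p ∣ (K.map M.subtype).index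
  ti : IsTISubset ((K.map M.subtype : Subgroup G) : Set G)
  norm : Subgroup.normalizer ((K.map M.subtype : Subgroup G) : Set G) = M
  chief : ∀ N : Subgroup M, N.Normal → ⁅K, K⁆ ≤ N → N ≤ K → N = ⁅K, K⁆ ∨ N = K
  card₂ : Nat.card W₂ = p
  notdvd : ¬ Nat.card W₁ ∣ p - 1

/-- Coherent images of irreducible members are orthogonal to every `η`. -/
theorem image_orth_eta {d : TenData M K W₁ W₂ H} {R : (M → ℂ) → Finset (G → ℂ)}
    (hR : IsCoherenceSystem (inducedIrrAbove K (⊥ : Subgroup M)) d.tau R)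
    (horth : ∀ φ ∈ inducedIrrAbove K (⊥ : Subgroup M), IsIrrCharacter M φ → ∀ α ∈ R φ,
        ∀ (a : W₁ →* ℂˣ) (b : W₂ →* ℂˣ), classInner α (d.eta a b) = 0)
    {X : Set (M → ℂ)} (hX : X ⊆ inducedIrrAbove K (⊥ : Subgroup M)) (hXc : ∀ φ ∈ X, conjFun φ ∈ X)
    {σ : (M → ℂ) → (G → ℂ)} (hσ : IsLinearIsometryOn (zspan X) σ)
    (hσα : ∀ α ∈ zspanOn X {1}ᶜ, σ α = d.tau α) {φ : M → ℂ} (hφ : φ ∈ X) (hi : IsIrrCharacter M φ)
    (a : W₁ →* ℂˣ) (b : W₂ →* ℂˣ) : classInner (σ φ) (d.eta a b) = 0 := by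
  classical
  obtain ⟨B, hB, hsum, -, -⟩ := exists_image_subset hR hX hσ hσα hφ (hXc φ hφ)
  rw [hsum, classInner_sum_left]
  exact Finset.sum_eq_zero fun α hα => horth φ (hX hφ) hi α (hB hα) a b

namespace TypeVData

variable {d : TenData M K W₁ W₂ H} {p : ℕ} (t : TypeVData d p)
include t

theorem two_lt : 2 < p := by
  have h := d.prime.three_le₂
  rw [t.card₂] at h
  omega

theorem exists_card : ∃ a, Nat.card K = p ^ a := by
  haveI := Fact.mk t.hp
  exact IsPGroup.iff_card.mp t.pgroup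

theorem coprime_index : K.index.Coprime p := by
  have h := d.prime.coprime
  rw [← d.prime.index_eq] at h
  exact h.coprime_dvd_right (t.card₂ ▸ Subgroup.card_dvd_of_le d.prime.le_kernel)

theorem coprime_w : (Nat.card W₁).Coprime p := d.prime.index_eq ▸ t.coprime_index

theorem kernel_ne_bot : K ≠ ⊥ := fun e =>
  d.prime.ne_bot₂ (eq_bot_iff.mpr (d.prime.le_kernel.trans e.le))

theorem derived_lt : ⁅K, K⁆ < K := by
  haveI := d.prime.normal
  haveI := d.solv
  have hle : ⁅K, K⁆ ≤ K := Subgroup.commutator_le_left K K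
  refine lt_of_le_of_ne hle fun h => ?_
  haveI : Nontrivial K := (Subgroup.nontrivial_iff_ne_bot K).mpr t.kernel_ne_bot
  refine (Group.IsSolvable.commutator_lt_top_of_nontrivial K).ne (Subgroup.map_injective K.subtype_injective ?_)
  rw [commutator_def, Subgroup.map_commutator, ← MonoidHom.range_eq_map, Subgroup.range_subtype, h]

/-- `K` seen as a Sylow subgroup of `G`. -/
noncomputable def sylowP [Fact p.Prime] : Sylow p G :=
  (t.pgroup.map M.subtype).toSylow t.sylow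

theorem coe_sylowP [Fact p.Prime] : (t.sylowP : Subgroup G) = K.map M.subtype := rfl

theorem normalizer_sylowP [Fact p.Prime] :
    Subgroup.normalizer ((t.sylowP : Subgroup G) : Set G) = M := t.norm

theorem ti_sylowP [Fact p.Prime] : IsTISubset ((t.sylowP : Subgroup G) : Set G) := t.ti

theorem card_sylowP [Fact p.Prime] : Nat.card (t.sylowP : Subgroup G) = Nat.card K :=
  (Nat.card_congr (K.equivMapOfInjective M.subtype M.subtype_injective).toEquiv).symm

theorem mem_sylowP [Fact p.Prime] {x : M} : (x : G) ∈ (t.sylowP : Subgroup G) ↔ x ∈ K :=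
  mem_map_iff'

/-- A conjugate of an element of `K#` that falls into `K` is a conjugate in `M`. -/
theorem mem_of_conj {x y : M} (hx : x ∈ K) (hx1 : x ≠ 1) (hy : y ∈ K) {g : G}
    (e : g * (x : G) * g⁻¹ = y) : g ∈ M := by
  by_contra hg
  have hN : g ∉ Subgroup.normalizer ((K.map M.subtype : Subgroup G) : Set G) := by rwa [t.norm]
  exact hx1 (Subtype.ext (t.ti g hN (x : G) (mem_map_iff'.mpr hx) (e ▸ mem_map_iff'.mpr hy)))

theorem centralizer_le {x : M} (hx : x ∈ K) (hx1 : x ≠ 1) : Subgroup.centralizer ({(x : G)} : Set G) ≤ M :=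
  fun g hg => t.mem_of_conj hx hx1 hx (by
    rw [Subgroup.mem_centralizer_singleton_iff.mp hg, mul_inv_cancel_right])

theorem H_eq_bot' {x : M} (hx : x ∈ K) (hx1 : x ≠ 1) : H (x : G) = ⊥ := by
  have hA := d.mem_tenA₀_of_mem_kernel hx hx1
  rw [eq_bot_iff, ← d.dade.inf_eq_bot _ hA]
  exact le_inf le_rfl (le_inf ((d.dade.le_centralizer _ hA).trans (t.centralizer_le hx hx1))
    (d.dade.le_centralizer _ hA))

/-- On functions carried by `K#` the Dade map is induction. -/
theorem tau_eq_ind {α : M → ℂ} (hα : IsClassFunction M α) (hoff : ∀ x : M, x ∉ K → α x = 0) (h1 : α 1 = 0) :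
    d.tau α = indFun M α := by
  classical
  have hzero : ∀ x : M, (x : G) ∉ tenA M K → α x = 0 := fun x hx => by
    by_cases hK : x ∈ K
    · have : x = 1 := by_contra fun h => hx (mem_tenA.mpr ⟨hK, h⟩)
      rw [this, h1]
    · exact hoff x hK
  rw [TenData.tau, ← dade_subset_eq d.dade d.tenA_subset d.tenA_inv hα hzero]
  funext g
  by_cases hg : ∃ a : M, a ∈ K ∧ a ≠ 1 ∧ ∃ x : G, x * g * x⁻¹ = a
  · obtain ⟨a, ha, ha1, x, hx⟩ := hg
    rw [dade_apply d.dadeA hα (mem_tenA.mpr ⟨ha, ha1⟩) (u := 1) (Subgroup.one_mem _) (x := x)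
      (by rw [mul_one]; exact hx), ← indFun_isClassFunction M α g x, hx]
    have key : ∀ y : G, extendByZero M α (y⁻¹ * a * y) = if y ∈ M then α a else 0 := by
      intro y
      split
      · rename_i hy
        rw [extendByZero_of_mem _ _ (M.mul_mem (M.mul_mem (M.inv_mem hy) a.2) hy), ← hα a ⟨y, hy⟩⁻¹]
        exact congrArg α (Subtype.ext (by simp))
      · rename_i hy
        by_cases hmem : y⁻¹ * a * y ∈ M
        · rw [extendByZero_of_mem _ _ hmem]
          refine hoff _ fun hk => hy ?_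
          have := t.mem_of_conj ha ha1 hk (g := y⁻¹) (by simp)
          simpa using M.inv_mem this
        · exact extendByZero_of_not_mem _ _ hmem
    simp only [indFun, key, Finset.sum_ite, Finset.sum_const_zero, add_zero, Finset.sum_const, nsmul_eq_mul]
    rw [← Fintype.card_subtype, ← Nat.card_eq_fintype_card, ← mul_assoc,
      inv_mul_cancel₀ (Nat.cast_ne_zero.mpr Nat.card_pos.ne'), one_mul]
  · push Not at hg
    have h0 : dadeIsometry (tenA M K) M H α g = 0 := by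
      refine dade_eq_zero_of_notMem d.dadeA α fun hsupp => ?_
      obtain ⟨a, ha, x, u, hu, hx⟩ := (dade_exists_iff_mem_supp d.dadeA g).mpr hsupp
      obtain ⟨haK, ha1⟩ := mem_tenA.mp ha
      rw [t.H_eq_bot' haK ha1, Subgroup.mem_bot] at hu
      subst hu
      exact hg a haK ha1 x (by rw [hx, mul_one])
    rw [h0, eq_comm]
    simp only [indFun]
    rw [Finset.sum_eq_zero fun y _ => ?_, mul_zero]
    by_cases hm : y⁻¹ * g * y ∈ M
    · rw [extendByZero_of_mem _ _ hm]
      refine hzero _ fun hA => ?_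
      obtain ⟨hK, h1'⟩ := mem_tenA.mp hA
      exact hg _ hK h1' y⁻¹ (by simp)
    · exact extendByZero_of_not_mem _ _ hm

theorem tau_ind_of_mem {α : M → ℂ} (hα : α ∈ zspanOn (inducedIrrAbove K (⊥ : Subgroup M)) {1}ᶜ) :
    d.tau α = indFun M α := by
  obtain ⟨hg, hz⟩ := d.span_zero_off hα.1
  exact t.tau_eq_ind (isGenChar_iff_coeff_int.mp hg).1 hz (hα.2 1 fun e => e rfl)

/-- Frobenius reciprocity for the Dade map on `K#`. -/
theorem tau_reciprocity {α : M → ℂ} (hα : IsClassFunction M α) (hoff : ∀ x : M, x ∉ K → α x = 0) (h1 : α 1 = 0)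
    {f : G → ℂ} (hf : IsClassFunction G f) : classInner (d.tau α) f = classInner α (fun x : M => f x) := by
  rw [t.tau_eq_ind hα hoff h1, frobenius_reciprocity M α hf]

theorem irr_deg_pow {θ : K → ℂ} (hθ : IsIrrCharacter K θ) : ∃ m, θ 1 = ((p ^ m : ℕ) : ℂ) := by
  haveI := Fintype.ofFinite K
  haveI := Fact.mk t.hp
  obtain ⟨k, -, hk⟩ := irr_degree_pos hθ
  obtain ⟨a, ha⟩ := t.exists_card
  have hdvd : k ∣ Nat.card K := by
    obtain ⟨r, ρ, hρ, rfl⟩ := id hθ
    have h := degree_dvd_index_center ρ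
    rw [ρ.char_one, Nat.cast_inj] at hk
    rw [← hk]
    exact h.trans (Subgroup.index_dvd_card _)
  rw [ha] at hdvd
  obtain ⟨m, -, rfl⟩ := (Nat.dvd_prime_pow t.hp).mp hdvd
  exact ⟨m, hk⟩

theorem indFun_deg {θ : K → ℂ} {k : ℕ} (hk : θ 1 = k) : indFun K θ 1 = ((Nat.card W₁ * k : ℕ) : ℂ) := by
  rw [indFun_apply_one, d.prime.index_eq, hk]
  push_cast
  rfl

/-- The degree of a member of `S`. -/
theorem exists_deg {φ : M → ℂ} (hφ : φ ∈ inducedIrrAbove K (⊥ : Subgroup M)) :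
    ∃ m, φ 1 = ((Nat.card W₁ * p ^ m : ℕ) : ℂ) := by
  obtain ⟨θ, hθ, -, -, rfl⟩ := hφ
  obtain ⟨m, hm⟩ := t.irr_deg_pow hθ
  exact ⟨m, t.indFun_deg hm⟩

/-- A character of `K` trivial on `W₂` is not one of the `θ_b`. -/
theorem ne_colChar {θ : K → ℂ} (h1 : θ ≠ fun _ => 1) (hW : ∀ k : K, (k : M) ∈ W₂ → θ k = θ 1)
    (b : W₂ →* ℂˣ) : θ ≠ d.prime.colChar b := fun e => h1 <| by
  have hb : b = 1 := d.prime.eq_one_of_kernel fun k hk => by rw [← e]; exact hW k hk
  rw [e, hb, d.prime.colChar_one]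

/-- The members with kernel containing `W₂` are irreducible. -/
theorem irr_of_W₂_le {A : Subgroup M} (hA : W₂ ≤ A) {φ : M → ℂ} (hφ : φ ∈ inducedIrrAbove K A) :
    IsIrrCharacter M φ := by
  obtain ⟨θ, hθ, h1, h2, rfl⟩ := hφ
  exact d.prime.isIrr_indFun_of_ne hθ (t.ne_colChar h1 fun k hk => h2 k (hA hk))

/-- The members with kernel containing `K'` are the `ζ`s of section 10. -/
theorem isTenZeta {φ : M → ℂ} (hφ : φ ∈ inducedIrrAbove K ⁅K, K⁆) : IsTenZeta d φ := by
  haveI := d.prime.normal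
  haveI := Fintype.ofFinite K
  obtain ⟨θ, hθ, h1, h2, rfl⟩ := hφ
  have hne := t.ne_colChar h1 fun k hk => h2 k (d.le_derived hk)
  have hlin : θ 1 = 1 := irr_degree_one_of_kernel_commutator ((⁅K, K⁆ : Subgroup M).subgroupOf K)
    (fun x y => by
      show ((x * y * x⁻¹ * y⁻¹ : K) : M) ∈ ⁅K, K⁆
      exact Subgroup.commutator_mem_commutator x.2 y.2) hθ (fun n hn => h2 n hn)
  exact ⟨d.mem_induced_of_ne hθ h1, d.prime.isIrr_indFun_of_ne hθ hne,
    by rw [indFun_apply_one, hlin, mul_one, d.prime.index_eq],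
    fun a b => d.prime.indFun_ne_mu hθ hne _, fun x hx => indFun_normal_apply_not_mem K θ hx⟩

/-- The parameters of a nontrivial column: its sign, degree and `n`. -/
theorem exists_params' {b : W₂ →* ℂˣ} (hb : b ≠ 1) : ∃ (δ n : ℤ) (k : ℕ), δ * δ = 1 ∧
    d.prime.delta (d.prime.col b) = δ ∧ d.prime.colChar b 1 = ((p ^ k : ℕ) : ℂ) ∧
    ((p ^ k : ℕ) : ℤ) = δ + n * Nat.card W₁ ∧ 2 ≤ n ∧ 1 ≤ k ∧ ¬ (p : ℤ) ∣ n := by
  haveI := Fintype.ofFinite K
  obtain ⟨δ, n, e, hδ1, hδ, he, hen, hn⟩ := d.exists_params hb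
  obtain ⟨k, hk⟩ := t.irr_deg_pow (d.prime.isIrr_colChar b)
  rw [he, Nat.cast_inj] at hk
  subst hk
  have hk1 : 1 ≤ k := by
    rcases Nat.eq_zero_or_pos k with rfl | h
    · exact absurd (by rw [he, pow_zero, Nat.cast_one]) (d.colChar_deg_ne_one hb)
    · exact h
  refine ⟨δ, n, k, hδ1, hδ, he, hen, hn, hk1, fun hpn => ?_⟩
  have h1 : (p : ℤ) ∣ ((p ^ k : ℕ) : ℤ) := by exact_mod_cast dvd_pow_self p (by omega : k ≠ 0)
  rw [hen] at h1
  have h2 : (p : ℤ) ∣ δ * δ := ((dvd_add_left (hpn.mul_right _)).mp h1).mul_right _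
  rw [hδ1] at h2
  have := Int.le_of_dvd one_pos h2
  have := t.two_lt
  omega

end TypeVData

end CfsgLib.OddOrder.TypeV
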