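import Cfsg.Agent.Lib.OddOrder.S10.TypeV.Ramify
import Cfsg.Agent.Lib.CharTheory.FrobSection

/-!
Peterfalvi (10.10), case (6.8 c2) when `K' = W₂`.
-/

set_option autoImplicit false
set_option linter.unusedSectionVars false
set_option linter.style.haveILetI false

namespace CfsgLib.OddOrder.TypeV

open Cfsg CfsgLib.CharTheory CfsgLib.Dade CfsgLib.OddOrder.Found CfsgLib.OddOrder.Ten
open scoped ComplexConjugate commutatorElement

universe u

variable {G : Type u} [Group G] [Fintype G] {M : Subgroup G} [Fintype M] {K W₁ W₂ : Subgroup M}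
  {H : G → Subgroup G}

namespace TypeVData

variable {d : TenData M K W₁ W₂ H} {p : ℕ} (t : TypeVData d p)
include t

/-- A coherent set of irreducible members is a piece. -/
theorem piece_of_coherent {R : (M → ℂ) → Finset (G → ℂ)}
    (hR : IsCoherenceSystem (inducedIrrAbove K (⊥ : Subgroup M)) d.tau R)
    (horth : ∀ φ ∈ inducedIrrAbove K (⊥ : Subgroup M), IsIrrCharacter M φ → ∀ α ∈ R φ,
        ∀ (a : W₁ →* ℂˣ) (b : W₂ →* ℂˣ), classInner α (d.eta a b) = 0)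
    {F : Finset (M → ℂ)} (hFS : ↑F ⊆ inducedIrrAbove K (⊥ : Subgroup M)) (hFc : ∀ φ ∈ F, conjFun φ ∈ F)
    (hirr : ∀ φ ∈ F, IsIrrCharacter M φ) {σ : (M → ℂ) → (G → ℂ)} (hσ : IsLinearIsometryOn (zspan ↑F) σ)
    (hσα : ∀ α ∈ zspanOn ↑F {1}ᶜ, σ α = d.tau α) {ζ : M → ℂ} (hζ : IsTenZeta d ζ) (hζF : ζ ∈ F) :
    IsPiece d F σ (degQ W₁) ζ where
  sub := hFS
  irr := hirr
  deg φ hφ := (t.degQ_spec (hFS hφ)).1
  iso := hσ
  agree := hσα
  orth φ hφ a b := image_orth_eta hR horth hFS hFc hσ hσα hφ (hirr φ hφ) a b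
  zeta := hζ
  mem := hζF

variable (hZ : ⁅K, K⁆ ⊓ Subgroup.centralizer (K : Set M) = W₂) (hcl : ⁅K, K⁆ ≤ W₂)
include hZ hcl

/-- In class two every column is fully ramified. -/
theorem full_caseB {b : W₂ →* ℂˣ} (hb : b ≠ 1) : d.prime.colChar b 1 ^ 2 = (W₂.relIndex K : ℂ) := by
  haveI := d.prime.normal
  haveI := Fintype.ofFinite K
  refine t.sq_deg_of_vanish hZ (d.prime.isIrr_colChar b) fun k hk => ?_
  set C := K ⊓ Subgroup.centralizer (K : Set M) with hC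
  have hWC : ⁅K, K⁆ ≤ C := le_inf t.derived_lt.le (hcl.trans (hZ.ge.trans inf_le_right))
  have hCK : C = ⁅K, K⁆ := (t.chief C inferInstance hWC inf_le_left).resolve_right fun e => by
    refine t.derived_ne_bot (Subgroup.commutator_eq_bot_iff_le_centralizer.mpr ?_)
    exact e.ge.trans inf_le_right
  obtain ⟨y, hy, hne⟩ : ∃ y ∈ K, y * (k : M) ≠ (k : M) * y := by
    by_contra hno
    push Not at hno
    exact hk (hcl (hCK ▸ Subgroup.mem_inf.mpr ⟨k.2, Subgroup.mem_centralizer_iff.mpr fun y hy => hno y hy⟩))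
  refine t.vanish_of_mem_W₂ hZ (d.prime.isIrr_colChar b) (t.colChar_nontrivial hZ hb) (y := ⟨y, hy⟩) ?_
    fun e => hne (congrArg Subtype.val e)
  exact hcl (Subgroup.commutator_mem_commutator hy k.2)

open Classical in
theorem coherent_caseB : IsCoherent (inducedIrrAbove K (⊥ : Subgroup M)) {1}ᶜ d.tau := by
  haveI := d.prime.normal
  haveI := t.nilK
  haveI := t.W₂_normal hZ
  haveI := Fintype.ofFinite (W₁ →* ℂˣ)
  haveI := Fintype.ofFinite (W₂ →* ℂˣ)
  obtain ⟨R, hR, horth⟩ := d.exists_system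
  have hWeq : ⁅K, K⁆ = W₂ := le_antisymm hcl d.le_derived
  set Y := layerFin K ⁅K, K⁆ K with hYdef
  obtain ⟨-, τ₁, hτ₁, hτα⟩ := coherent_above_derived K inferInstance hR ⁅K, K⁆ le_rfl t.derived_lt
  rw [← coe_layerFin_top] at hτ₁ hτα
  have hYz : ∀ φ ∈ Y, IsTenZeta d φ := fun φ hφ => t.isTenZeta (mem_layerFin_top.mp hφ)
  have hYS : ↑Y ⊆ inducedIrrAbove K (⊥ : Subgroup M) := fun φ hφ =>
    inducedIrrAbove_subset K _ (mem_layerFin_top.mp hφ)
  obtain ⟨ζ, hζ⟩ : Y.Nonempty := layer_nonempty K ⁅K, K⁆ K t.derived_lt le_rfl fun φ hφ => (hYz φ hφ).irr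
  have P := t.piece_of_coherent hR horth hYS (fun φ h => conj_mem_layerFin h) (fun φ h => (hYz φ h).irr)
    hτ₁ hτα (hYz ζ hζ) hζ
  have hsum : ∑ φ ∈ Y, degQ W₁ φ ^ 2 = Y.card := by
    rw [Finset.sum_congr rfl fun φ hφ => show degQ W₁ φ ^ 2 = 1 by
      rw [degQ_eq (φ := φ) (k := 1) (by rw [mul_one]; exact (hYz φ hφ).deg), one_pow], Finset.sum_const,
      smul_eq_mul, mul_one]
  have hlin := t.linear_count
  rw [hWeq] at hlin
  have hQ : ∀ b : W₂ →* ℂˣ, b ≠ 1 → ∀ (δ n : ℤ) (e : ℕ), IsCol d b δ n e →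
      2 * n < ((∑ φ ∈ Y, degQ W₁ φ ^ 2 : ℕ) : ℤ) := by
    intro b hb δ n e hcol
    have he : e ^ 2 = W₂.relIndex K := by
      have h := t.full_caseB hZ hcl hb
      rw [hcol.deg] at h
      exact_mod_cast h
    obtain ⟨k, hk⟩ : ∃ k, e = p ^ k := by
      obtain ⟨k, hk⟩ := t.irr_deg_pow (d.prime.isIrr_colChar b)
      exact ⟨k, by rw [hcol.deg] at hk; exact_mod_cast hk⟩
    rw [hsum]
    have hc : (Y.card : ℤ) * Nat.card W₁ + 1 = (e : ℤ) ^ 2 := by
      rw [hYdef, hWeq]; exact_mod_cast hlin.trans he.symm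
    have h1 := hcol.eq
    have hw3 : (3 : ℤ) ≤ Nat.card W₁ := by exact_mod_cast d.prime.three_le₁
    have hδ : δ = 1 ∨ δ = -1 := mul_self_eq_one_iff.mp hcol.sq
    have hn := hcol.two_le
    have he4 : (4 : ℤ) ≤ e := by
      have : 2 * 3 ≤ n * (Nat.card W₁ : ℤ) := mul_le_mul hn hw3 (by norm_num) (by omega)
      omega
    by_contra hle
    push Not at hle
    have h2 : (Y.card : ℤ) * Nat.card W₁ ≤ 2 * n * Nat.card W₁ := mul_le_mul_of_nonneg_right hle (by positivity)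
    rcases hδ with rfl | rfl <;> nlinarith
  have hQ3 : 3 ≤ ∑ φ ∈ Y, degQ W₁ φ ^ 2 := by
    obtain ⟨b, hb⟩ : ∃ b : W₂ →* ℂˣ, b ≠ 1 :=
      Fintype.exists_ne_of_one_lt_card (by have := d.three_le_hom₂; omega) 1
    obtain ⟨δ, n, e, h1, h2, h3, h4, h5⟩ := d.exists_params hb
    have := hQ b hb δ n e ⟨hb, h1, h2, h3, h4, h5⟩
    omega
  have hcoh := bridge_large P hQ3 hQ
  have heq : inducedIrrAbove K (⊥ : Subgroup M) = ↑Y ∪ ↑(muCols d) := by
    refine Set.Subset.antisymm (fun φ hφ => ?_) (Set.union_subset hYS t.muCols_subset)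
    rcases t.eq_muSum_of_full (fun b hb => t.full_caseB hZ hcl hb) hφ with h | h
    · exact Or.inl (mem_layerFin_top.mpr (hWeq ▸ h))
    · exact Or.inr h
  rw [heq]
  exact hcoh

end TypeVData

end CfsgLib.OddOrder.TypeV
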