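import Cfsg.Agent.Lib.OddOrder.S10.TypeV.CongC
import Cfsg.Agent.Lib.OddOrder.S10.TypeV.CaseB
import Cfsg.Agent.Lib.CharTheory.Sibley

/-!
Peterfalvi (10.10), case (6.8 c2): the configuration `|K : K'| = 27` with every column fully ramified.
-/

set_option autoImplicit false
set_option linter.unusedSectionVars false
set_option linter.style.haveILetI false

namespace CfsgLib.OddOrder.TypeV

open Cfsg CfsgLib.CharTheory CfsgLib.Dade CfsgLib.OddOrder.Found CfsgLib.OddOrder.Ten
open scoped ComplexConjugate commutatorElement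

universe u

/-- Two signed irreducible characters are equal, opposite or orthogonal. -/
theorem signed_cases {L : Type u} [Group L] [Fintype L] {a b : L → ℂ} (ha : IsSignedIrr a) (hb : IsSignedIrr b) :
    a = b ∨ a = -b ∨ classInner a b = 0 := by
  rcases ha with ha | ha <;> rcases hb with hb | hb
  · by_cases e : a = b
    · exact Or.inl e
    · exact Or.inr (Or.inr (classInner_irr_ne ha hb e))
  · by_cases e : a = -b
    · exact Or.inr (Or.inl e)
    · exact Or.inr (Or.inr (by
        have := classInner_irr_ne ha hb e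
        rwa [classInner_neg_right, neg_eq_zero] at this))
  · by_cases e : -a = b
    · exact Or.inr (Or.inl (by rw [← e, neg_neg]))
    · exact Or.inr (Or.inr (by
        have := classInner_irr_ne ha hb e
        rwa [classInner_neg_left, neg_eq_zero] at this))
  · by_cases e : -a = -b
    · exact Or.inl (neg_injective e)
    · exact Or.inr (Or.inr (by
        have := classInner_irr_ne ha hb e
        rwa [classInner_neg_left, classInner_neg_right, neg_neg] at this))

theorem isSignedIrr_conjFun {L : Type u} [Group L] [Fintype L] {a : L → ℂ} (ha : IsSignedIrr a) :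
    IsSignedIrr (conjFun a) := by
  rcases ha with h | h
  · exact Or.inl (isIrrCharacter_conjChar h)
  · refine Or.inr ?_
    have := isIrrCharacter_conjChar h
    convert this using 1
    funext x
    simp [conjFun]

/-- The Galois partner of a difference of two orthogonal signed irreducibles. -/
theorem conj_of_swapped {L : Type u} [Group L] [Fintype L] {a b : L → ℂ} (ha : IsSignedIrr a) (hb : IsSignedIrr b)
    (hab : classInner a b = 0) (h : conjFun a - conjFun b = b - a) : conjFun a = b := by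
  have hbb := classInner_self_signed hb
  have e := congrArg (fun f => classInner f b) h
  simp only [classInner_sub_left, hbb, hab, sub_zero] at e
  have hneg : conjFun b ≠ -b := fun e' => by
    have h1 := congrFun e' 1
    rw [Pi.neg_apply] at h1
    rcases hb with hb | hb
    · obtain ⟨k, hk0, hk⟩ := irr_degree_pos hb
      rw [conjFun, hk, map_natCast] at h1
      have h2 : ((k + k : ℕ) : ℂ) = 0 := by push_cast; linear_combination h1
      have : k + k = 0 := by exact_mod_cast h2
      omega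
    · obtain ⟨k, hk0, hk⟩ := irr_degree_pos hb
      rw [Pi.neg_apply] at hk
      rw [conjFun, show b 1 = -(k : ℂ) by linear_combination -hk, map_neg, map_natCast] at h1
      have h2 : ((k + k : ℕ) : ℂ) = 0 := by push_cast; linear_combination -h1
      have : k + k = 0 := by exact_mod_cast h2
      omega
  rcases signed_cases (isSignedIrr_conjFun hb) hb with h1 | h1 | h1
  · exfalso
    rw [h1, hbb] at e
    rcases signed_cases (isSignedIrr_conjFun ha) hb with h2 | h2 | h2
    · rw [h2, hbb] at e; norm_num at e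
    · rw [h2, classInner_neg_left, hbb] at e; norm_num at e
    · rw [h2] at e; norm_num at e
  · exact absurd h1 hneg
  · rcases signed_cases (isSignedIrr_conjFun ha) hb with h2 | h2 | h2
    · exact h2
    · rw [h1, h2, classInner_neg_left, hbb] at e; norm_num at e
    · rw [h1, h2] at e; norm_num at e

variable {G : Type u} [Group G] [Fintype G] {M : Subgroup G} [Fintype M] {K W₁ W₂ : Subgroup M}
  {H : G → Subgroup G}

namespace TypeVData

variable {d : TenData M K W₁ W₂ H} {p : ℕ} (t : TypeVData d p)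
include t

variable (hZ : ⁅K, K⁆ ⊓ Subgroup.centralizer (K : Set M) = W₂)
include hZ

/-- A fully ramified column vanishes outside `W₂`. -/
theorem vanish_of_full [Fintype K] {θ : K → ℂ} (hθ : IsIrrCharacter K θ)
    (hfull : θ 1 ^ 2 = (W₂.relIndex K : ℂ)) {k : K} (hk : (k : M) ∉ W₂) : θ k = 0 := by
  classical
  have h := classInner_irr_self hθ
  have hin : ∀ z : K, (z : M) ∈ W₂ → θ z * conj (θ z) = θ 1 ^ 2 := fun z hz => by
    have h := irr_central_mul hθ (t.W₂_center hZ hz) z⁻¹
    rw [mul_inv_cancel, char_apply_inv (isCharacter_of_irr hθ)] at h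
    rw [← h]; ring
  rw [classInner, ← Finset.sum_filter_add_sum_filter_not Finset.univ (fun k : K => (k : M) ∈ W₂),
    Finset.sum_congr rfl fun z hz => hin z (Finset.mem_filter.mp hz).2, Finset.sum_const, nsmul_eq_mul,
    hfull, ← Fintype.card_subtype, ← Nat.card_eq_fintype_card,
    inv_mul_eq_iff_eq_mul₀ (Nat.cast_ne_zero.mpr Nat.card_pos.ne'), mul_one] at h
  have hK : Nat.card K = Nat.card {k : K // (k : M) ∈ W₂} * W₂.relIndex K :=
    (Subgroup.card_mul_index (W₂.subgroupOf K)).symm
  rw [hK, Nat.cast_mul, add_eq_left] at h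
  simp only [Complex.mul_conj] at h
  rw [← Complex.ofReal_sum, Complex.ofReal_eq_zero,
    Finset.sum_eq_zero_iff_of_nonneg fun i _ => Complex.normSq_nonneg _] at h
  exact Complex.normSq_eq_zero.mp (h k (Finset.mem_filter.mpr ⟨Finset.mem_univ _, hk⟩))

/-- On `W₂` a character is its degree times a root of unity. -/
theorem apply_centre {θ : K → ℂ} (hθ : IsIrrCharacter K θ) {z : K} (hz : (z : M) ∈ W₂) :
    ∃ ω : ℂ, IsIntegral ℤ ω ∧ θ z = θ 1 * ω := by
  haveI := Fintype.ofFinite K
  have h1 : θ 1 ≠ 0 := irr_ne_zero hθ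
  have hpow : ∀ i : ℕ, (θ z / θ 1) ^ i = θ (z ^ i) / θ 1 := fun i => by
    induction i with
    | zero => rw [pow_zero, pow_zero, div_self h1]
    | succ i ih =>
      have h := irr_central_mul hθ (t.W₂_center hZ hz) (z ^ i)
      rw [pow_succ', ih, pow_succ' z i]
      field_simp
      linear_combination -h
  refine ⟨θ z / θ 1, IsIntegral.of_pow t.hp.pos ?_, by field_simp⟩
  have hzp : z ^ p = 1 := Subtype.ext (by
    have := congrArg Subtype.val (pow_card_eq_one' (x := (⟨z, hz⟩ : W₂)))
    rw [t.card₂] at this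
    simpa using this)
  rw [hpow p, hzp, div_self h1]
  exact isIntegral_one

open Classical in
/-- The coefficient of a fully ramified column in the restriction of a function congruent to its degree on
`W₂` is divisible by the degree. -/
theorem full_column_dvd [Fintype K] {η : G → ℂ} (hη : IsSignedIrr η)
    (hreal : ∀ z ∈ W₂, η (z : G)⁻¹ = η (z : G)) {b : W₂ →* ℂˣ} (hb : b ≠ 1) {e : ℕ} (he0 : 0 < e)
    (he : d.prime.colChar b 1 = e) (hfull : d.prime.colChar b 1 ^ 2 = (W₂.relIndex K : ℂ)) {Θ : ℤ}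
    (hΘ : classInner (d.prime.colChar b) (fun k : K => η ((k : M) : G)) = Θ) : (e : ℤ) ∣ Θ := by
  set θ := d.prime.colChar b with hθdef
  have hθ : IsIrrCharacter K θ := d.prime.isIrr_colChar b
  set Wk := (Finset.univ : Finset K).filter (fun k : K => (k : M) ∈ W₂) with hWk
  have hsupp : ∀ g : K → ℂ, ∑ k, θ k * g k = ∑ k ∈ Wk, θ k * g k := fun g => by
    refine (Finset.sum_subset (Finset.subset_univ _) fun k _ hk => ?_).symm
    rw [t.vanish_of_full hZ hθ hfull (fun h => hk (Finset.mem_filter.mpr ⟨Finset.mem_univ _, h⟩)), zero_mul]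
  have hzero : ∑ k ∈ Wk, θ k = 0 := by
    have hne : θ ≠ fun _ => 1 := fun e => t.colChar_nontrivial hZ hb fun k _ => by rw [← hθdef, e]
    have h := classInner_irr_ne hθ (isIrrCharacter_one (G := K)) hne
    rw [classInner, mul_eq_zero] at h
    have h' := h.resolve_left (inv_ne_zero (Nat.cast_ne_zero.mpr Nat.card_pos.ne'))
    simp only [map_one, mul_one] at h'
    have := hsupp fun _ => 1
    simp only [mul_one] at this
    rw [← this]; exact h'
  choose! s hs hsz using fun (z : M) (hz : z ∈ W₂) => t.centre_congruence hZ hη hreal hz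
  choose! ω hω hωz using fun (z : K) (hz : (z : M) ∈ W₂) => t.apply_centre hZ hθ hz
  have hK0 : (Nat.card K : ℂ) ≠ 0 := Nat.cast_ne_zero.mpr Nat.card_pos.ne'
  have h : (Θ : ℂ) = ((e : ℤ) : ℂ) * -(∑ k ∈ Wk, ω k * conj (s (k : M))) := by
    rw [← hΘ, classInner, hsupp fun k => conj (η ((k : M) : G))]
    rw [Finset.sum_congr rfl fun k hk => show θ k * conj (η ((k : M) : G)) =
        θ k * conj (η (1 : G)) - (Nat.card K : ℂ) * ((e : ℂ) * (ω k * conj (s (k : M)))) by
      have hk' := (Finset.mem_filter.mp hk).2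
      rw [show η ((k : M) : G) = η 1 - (Nat.card K : ℂ) * s (k : M) by linear_combination -(hsz _ hk'),
        map_sub, map_mul, map_natCast, hωz k hk', he]
      ring]
    rw [Finset.sum_sub_distrib, ← Finset.sum_mul, hzero, zero_mul, zero_sub, ← Finset.mul_sum, ← Finset.mul_sum]
    push_cast
    field_simp
  exact dvd_of_integral_mul (by exact_mod_cast he0.ne')
    ((IsIntegral.sum _ fun k hk =>
      (hω k (Finset.mem_filter.mp hk).2).mul (isIntegral_conj (hs _ (Finset.mem_filter.mp hk).2))).neg) h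

set_option maxHeartbeats 1600000 in
open Classical in
/-- **C4.** In the exceptional configuration the linear family and the columns are coherent. -/
theorem exceptional_coherent [Fintype (W₁ →* ℂˣ)] [Fintype (W₂ →* ℂˣ)] (hN27 : ⁅K, K⁆.relIndex K = 27)
    (hI : 729 ≤ W₂.relIndex K)
    (hfull : ∀ b : W₂ →* ℂˣ, b ≠ 1 → d.prime.colChar b 1 ^ 2 = (W₂.relIndex K : ℂ)) :
    IsCoherent (↑(layerFin K ⁅K, K⁆ K) ∪ ↑(muCols d) : Set (M → ℂ)) {1}ᶜ d.tau := by
  haveI := d.prime.normal
  haveI := t.nilK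
  haveI := Fintype.ofFinite K
  obtain ⟨RS, hRS, horthR⟩ := d.exists_system
  set Y := layerFin K ⁅K, K⁆ K with hYdef
  obtain ⟨-, τ₁, hτ₁, hτα⟩ := coherent_above_derived K inferInstance hRS ⁅K, K⁆ le_rfl t.derived_lt
  rw [← coe_layerFin_top] at hτ₁ hτα
  have hYS : ↑Y ⊆ inducedIrrAbove K (⊥ : Subgroup M) := fun φ hφ =>
    inducedIrrAbove_subset K _ (mem_layerFin_top.mp hφ)
  have hYz : ∀ φ ∈ Y, IsTenZeta d φ := fun φ hφ => t.isTenZeta (mem_layerFin_top.mp hφ)
  obtain ⟨ζ, hζ⟩ : Y.Nonempty := layer_nonempty K ⁅K, K⁆ K t.derived_lt le_rfl fun φ hφ => (hYz φ hφ).irr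
  have hζc : conjFun ζ ∈ Y := conj_mem_layerFin hζ
  have hne : conjFun ζ ≠ ζ := hRS.conj_ne ζ (hYS hζ)
  -- the numbers
  have hp3 : p = 3 := by
    obtain ⟨i, hi⟩ := t.relIndex_pow ⁅K, K⁆
    rw [hN27] at hi
    rcases Nat.eq_zero_or_pos i with rfl | hpos
    · simp at hi
    · have h3 : p ∣ 3 ^ 3 := by rw [show 3 ^ 3 = 27 by norm_num, hi]; exact dvd_pow_self p hpos.ne'
      exact (Nat.prime_dvd_prime_iff_eq t.hp Nat.prime_three).mp (t.hp.dvd_of_dvd_pow h3)
  have hlin := t.linear_count
  rw [hN27, ← hYdef] at hlin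
  have hcard2 : 2 ≤ Y.card := Finset.one_lt_card.mpr ⟨_, hζc, ζ, hζ, hne⟩
  have hw13 : Nat.card W₁ = 13 ∧ Y.card = 2 := by
    have h26 : Nat.card W₁ ∈ Nat.divisors 26 :=
      Nat.mem_divisors.mpr ⟨Dvd.intro_left Y.card (by omega), by norm_num⟩
    rw [show Nat.divisors 26 = {1, 2, 13, 26} by decide] at h26
    simp only [Finset.mem_insert, Finset.mem_singleton] at h26
    have h3 := d.prime.three_le₁
    have hodd := Nat.odd_iff.mp d.prime.odd₁
    have h13 : Nat.card W₁ = 13 := by omega
    rw [h13] at hlin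
    exact ⟨h13, by omega⟩
  obtain ⟨hw13, hY2⟩ := hw13
  have hYpair : Y = {ζ, conjFun ζ} := (Finset.eq_of_subset_of_card_le
    (Finset.insert_subset hζ (Finset.singleton_subset_iff.mpr hζc))
    (by rw [Finset.card_pair hne.symm, hY2])).symm
  have hP : ∀ {τ' : (M → ℂ) → (G → ℂ)}, IsLinearIsometryOn (zspan ↑Y) τ' →
      (∀ α ∈ zspanOn ↑Y {1}ᶜ, τ' α = d.tau α) → IsPiece d Y τ' (degQ W₁) ζ := fun h1 h2 =>
    t.piece_of_coherent hRS horthR hYS (fun φ h => conj_mem_layerFin h) (fun φ h => (hYz φ h).irr)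
      h1 h2 (hYz ζ hζ) hζ
  have P := hP hτ₁ hτα
  set ψ := τ₁ ζ with hψ
  set ψ' := τ₁ (conjFun ζ) with hψ'
  have hs : IsSignedIrr ψ := P.signed hζ
  have hs' : IsSignedIrr ψ' := P.signed hζc
  have horth : classInner ψ ψ' = 0 := by
    rw [hψ, hψ', hτ₁.2.2.1 _ (Submodule.subset_span hζ) _ (Submodule.subset_span hζc),
      classInner_irr_ne (hYz ζ hζ).irr (hYz _ hζc).irr hne.symm]
  have hqc : degQ W₁ (conjFun ζ) = 1 := degQ_eq (by rw [mul_one]; exact (hYz _ hζc).deg)
  have hdiff : d.tau (conjFun ζ - ζ) = ψ' - ψ := by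
    have := P.comb_image hζc
    rwa [hqc, Nat.cast_one, one_smul, Nat.cast_one, one_smul] at this
  have hαmem : conjFun ζ - ζ ∈ zspanOn (inducedIrrAbove K (⊥ : Subgroup M)) {1}ᶜ :=
    ⟨Submodule.sub_mem _ (Submodule.subset_span (hYS hζc)) (Submodule.subset_span (hYS hζ)), fun x hx => by
      rw [show x = 1 by simpa using hx, Pi.sub_apply, (hYz _ hζc).deg, (hYz ζ hζ).deg, sub_self]⟩
  have hconj : conjFun ψ = ψ' := by
    refine conj_of_swapped hs hs' horth ?_
    have hneg : conjFun (conjFun ζ - ζ) = -(conjFun ζ - ζ) := by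
      funext x; simp [conjFun]
    have hmem' : -(conjFun ζ - ζ) ∈ zspanOn (inducedIrrAbove K (⊥ : Subgroup M)) {1}ᶜ :=
      ⟨Submodule.neg_mem _ hαmem.1, fun x hx => by rw [Pi.neg_apply, hαmem.2 x hx, neg_zero]⟩
    have h1 : conjFun (d.tau (conjFun ζ - ζ)) = -d.tau (conjFun ζ - ζ) := by
      rw [t.tau_ind_of_mem hαmem, ← indFun_conjFun, hneg, ← t.tau_ind_of_mem hmem', ← t.tau_ind_of_mem hαmem,
        ← neg_one_smul ℂ (conjFun ζ - ζ), TenData.tau, dade_smul, neg_one_smul]
    rw [hdiff] at h1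
    funext x
    have h2 := congrFun h1 x
    simp only [conjFun, Pi.sub_apply, Pi.neg_apply, map_sub] at h2 ⊢
    linear_combination -h2
  have hψg : IsGeneralizedCharacter G ψ := hτ₁.2.2.2 _ (Submodule.subset_span hζ)
  have hreal : ∀ z ∈ W₂, ψ (z : G)⁻¹ = ψ (z : G) := by
    intro z hz
    by_cases hz1 : z = 1
    · rw [hz1, show ((1 : M) : G) = 1 from rfl, inv_one]
    have hzero : ∀ φ ∈ Y, φ z = φ 1 := fun φ hφ => by
      obtain ⟨θ, h1, -, h3, rfl⟩ := mem_layerFin_top.mp hφ
      exact (indFun_kernel_iff K ⁅K, K⁆ t.derived_lt.le (isCharacter_of_irr h1)).mpr h3 z (d.le_derived hz)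
    obtain ⟨hg, -⟩ := d.span_zero_off hαmem.1
    have hv : d.tau (conjFun ζ - ζ) (z : G) = 0 := by
      rw [TenData.tau, dade_apply d.dade (isGenChar_iff_coeff_int.mp hg).1
        (d.mem_tenA₀_of_mem_kernel (d.prime.le_kernel hz) hz1) (u := 1) (Subgroup.one_mem _) (x := 1) (by simp),
        Pi.sub_apply, hzero _ hζc, hzero _ hζ, (hYz _ hζc).deg, (hYz ζ hζ).deg, sub_self]
    rw [hdiff, Pi.sub_apply, ← hconj, conjFun, sub_eq_zero] at hv
    obtain ⟨c1, c2, h1, h2, e⟩ := hψg
    calc ψ (z : G)⁻¹ = conj (ψ (z : G)) := by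
          simp only [e, Pi.sub_apply, map_sub, char_apply_inv h1, char_apply_inv h2]
      _ = ψ (z : G) := hv
  -- the coefficient of `μ₀ - ζ`
  obtain ⟨hms, hmoff, hm1, hmg⟩ := mu0_props (hYz ζ hζ)
  set Y0 := d.tau (d.prime.muSum 1 - ζ) with hY0
  obtain ⟨e₁, he₁⟩ := classInner_genChar_int (show IsGeneralizedCharacter G Y0 from d.tau_gen hms hmg) hψg
  obtain ⟨e, rfl⟩ : ∃ e, e₁ = e - 1 := ⟨e₁ + 1, by ring⟩
  have hY0ψ' : classInner Y0 ψ' = (e : ℂ) := by
    have h := d.tau_inner hms (d.supported_of_zspanOn hαmem)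
    rw [hdiff] at h
    have h0 : classInner (d.prime.muSum 1) ζ = 0 := by
      rw [IsPrimeTI.muSum, classInner_sum_left]
      exact Finset.sum_eq_zero fun a _ => d.mu_inner_zeta (hYz ζ hζ) a 1
    have h0' : classInner (d.prime.muSum 1) (conjFun ζ) = 0 := by
      rw [IsPrimeTI.muSum, classInner_sum_left]
      exact Finset.sum_eq_zero fun a _ => d.mu_inner_zeta (hYz _ hζc) a 1
    simp only [classInner_sub_left, classInner_sub_right, ← hY0, he₁, h0, h0',
      classInner_irr_self (hYz ζ hζ).irr, classInner_irr_ne (hYz ζ hζ).irr (hYz _ hζc).irr hne.symm] at h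
    push_cast at h
    linear_combination h
  have hebound : -2 ≤ e ∧ e ≤ 3 := by
    let f : Fin 3 → G → ℂ := ![d.eta 1 1, ψ, ψ']
    let g : Fin 3 → ℤ := ![1, e - 1, e]
    have h1 : classInner ψ (d.eta 1 1) = 0 := P.orth ζ hζ 1 1
    have h2 : classInner ψ' (d.eta 1 1) = 0 := P.orth _ hζc 1 1
    have h1' : classInner (d.eta 1 1) ψ = 0 := by rw [← classInner_comm, h1, map_zero]
    have h2' : classInner (d.eta 1 1) ψ' = 0 := by rw [← classInner_comm, h2, map_zero]
    have h3' : classInner ψ' ψ = 0 := by rw [← classInner_comm, horth, map_zero]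
    have hf : ∀ i j, classInner (f i) (f j) = if i = j then 1 else 0 := by
      intro i j
      fin_cases i <;> fin_cases j <;>
        simp [f, d.eta_orth, h1, h2, h1', h2', h3', horth, classInner_self_signed hs, classInner_self_signed hs']
    have hg : ∀ i, classInner Y0 (f i) = g i := by
      intro i
      fin_cases i
      · show classInner Y0 (d.eta 1 1) = ((1 : ℤ) : ℂ)
        rw [hY0, mu0_eta_one (hYz ζ hζ), Int.cast_one]
      · exact he₁
      · exact hY0ψ'
    obtain ⟨hle, -⟩ := bessel_int hf hg (mu0_norm (hYz ζ hζ))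
    rw [Fin.sum_univ_three, hw13] at hle
    change (1 : ℤ) ^ 2 + (e - 1) ^ 2 + e ^ 2 ≤ _ at hle
    norm_num at hle
    constructor <;> nlinarith
  -- each column
  have key : ∀ b : W₂ →* ℂˣ, b ≠ 1 → ∃ δ n : ℤ, ∃ k : ℕ, IsCol d b δ n k ∧ ∃ m : ℤ,
      (∀ a, classInner (alphaImg d a b δ n ζ) ψ = ((m - n : ℤ) : ℂ)) ∧
      (e = 0 ∧ m = 0 ∨ e = 1 ∧ m = n) := by
    intro b hb
    obtain ⟨δ, n, k, h1, h2, h3, h4, h5⟩ := d.exists_params hb
    have hcol : IsCol d b δ n k := ⟨hb, h1, h2, h3, h4, h5⟩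
    have hk27 : 27 ≤ k := by
      have h := hfull b hb
      rw [h3] at h
      have h' : k ^ 2 = W₂.relIndex K := by exact_mod_cast h
      by_contra hlt
      have := Nat.pow_le_pow_left (show k ≤ 26 by omega) 2
      omega
    obtain ⟨m₀, hm₀⟩ := classInner_genChar_int (alphaImg_gen (hYz ζ hζ) hcol 1) hψg
    obtain ⟨m, rfl⟩ : ∃ m, m₀ = m - n := ⟨m₀ + n, by ring⟩
    have hconstant : ∀ a, classInner (alphaImg d a b δ n ζ) ψ = ((m - n : ℤ) : ℂ) := by
      intro a
      by_cases ha : a = 1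
      · rw [ha, hm₀]
      obtain ⟨ma, hma⟩ := classInner_genChar_int (alphaImg_gen (hYz ζ hζ) hcol a) hψg
      set Xd := alphaImg d a b δ n ζ - alphaImg d 1 b δ n ζ with hXd
      choose U hU using fun x y => classInner_genChar_int (alphaImg_gen (hYz ζ hζ) hcol a) (d.eta_gen x y)
      choose V hV using fun x y => classInner_genChar_int (alphaImg_gen (hYz ζ hζ) hcol 1) (d.eta_gen x y)
      have hc1 := alphaImg_corner (hYz ζ hζ) hcol a 1 (Ne.symm ha)
      have hc2 := alphaImg_corner (hYz ζ hζ) hcol 1 a ha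
      simp only [hU] at hc1
      simp only [hV] at hc2
      have hc1' : U a b - U a 1 - U 1 b + U 1 1 = 2 * δ := by exact_mod_cast hc1
      have hc2' : V 1 b - V 1 1 - V a b + V a 1 = 2 * δ := by exact_mod_cast hc2
      have hcross : classInner (d.tenAlpha a b δ n ζ) (d.tenAlpha 1 b δ n ζ) = ((n ^ 2 : ℤ) : ℂ) := by
        conv_lhs => arg 2; rw [TenData.tenAlpha]
        simp only [classInner_sub_right, classInner_smul_right, alpha_inner_mu (hYz ζ hζ), map_intCast,
          d.alpha_inner_zeta (hYz ζ hζ), Ne.symm ha, false_and, if_false]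
        push_cast; ring
      have hXX : classInner Xd Xd = ((4 : ℤ) : ℂ) := by
        have hx : classInner (alphaImg d a b δ n ζ) (alphaImg d 1 b δ n ζ) = ((n ^ 2 : ℤ) : ℂ) := by
          rw [alphaImg, alphaImg, d.tau_inner (alpha_supp (hYz ζ hζ) hcol a) (alpha_supp (hYz ζ hζ) hcol 1), hcross]
        simp only [hXd, classInner_sub_left, classInner_sub_right, alphaImg_norm (hYz ζ hζ) hcol, hx,
          show classInner (alphaImg d 1 b δ n ζ) (alphaImg d a b δ n ζ) = ((n ^ 2 : ℤ) : ℂ) by
            rw [← classInner_comm, hx, map_intCast]]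
        push_cast; ring
      let xs : Bool → (W₁ →* ℂˣ) := fun i => if i then a else 1
      let ys : Bool → (W₂ →* ℂˣ) := fun i => if i then b else 1
      let f : (Bool × Bool) ⊕ Unit → G → ℂ := Sum.elim (fun z => d.eta (xs z.1) (ys z.2)) (fun _ => ψ)
      let g : (Bool × Bool) ⊕ Unit → ℤ :=
        Sum.elim (fun z => U (xs z.1) (ys z.2) - V (xs z.1) (ys z.2)) (fun _ => ma - (m - n))
      have hxs : Function.Injective xs := fun i j h => by
        rcases i <;> rcases j <;> simp [xs, ha, Ne.symm ha] at h ⊢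
      have hys : Function.Injective ys := fun i j h => by
        rcases i <;> rcases j <;> simp [ys, hb, Ne.symm hb] at h ⊢
      have hf : ∀ z z', classInner (f z) (f z') = if z = z' then 1 else 0 := by
        rintro (⟨i, j⟩ | u) (⟨i', j'⟩ | u')
        · simp [f, d.eta_orth, Prod.ext_iff, hxs.eq_iff, hys.eq_iff]
        · show classInner (d.eta (xs i) (ys j)) ψ = _
          rw [← classInner_comm, P.zeta_orth, map_zero]; simp
        · simp [f, show ∀ x y, classInner ψ (d.eta x y) = 0 from P.zeta_orth]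
        · simp [f, classInner_self_signed hs]
      have hg : ∀ z, classInner Xd (f z) = g z := by
        rintro (⟨i, j⟩ | u)
        · show classInner Xd (d.eta (xs i) (ys j)) = ((U (xs i) (ys j) - V (xs i) (ys j) : ℤ) : ℂ)
          rw [hXd, classInner_sub_left, hU, hV]; push_cast; ring
        · show classInner Xd ψ = ((ma - (m - n) : ℤ) : ℂ)
          rw [hXd, classInner_sub_left, hma, hm₀]; push_cast; ring
      obtain ⟨hle, -⟩ := bessel_int hf hg hXX
      simp [Fintype.sum_sum_type, Fintype.sum_prod_type, g, xs, ys] at hle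
      have hδ' : δ = 1 ∨ δ = -1 := mul_self_eq_one_iff.mp h1
      have h16 : ((U a b - V a b) - (U a 1 - V a 1) - (U 1 b - V 1 b) + (U 1 1 - V 1 1)) ^ 2 = 16 := by
        rw [show (U a b - V a b) - (U a 1 - V a 1) - (U 1 b - V 1 b) + (U 1 1 - V 1 1) = 4 * δ by
          linear_combination hc1' + hc2']
        rcases hδ' with h | h <;> rw [h] <;> norm_num
      have hsq : (ma - (m - n)) ^ 2 ≤ 0 := by
        set A := U a b - V a b
        set B := U a 1 - V a 1
        set C := U 1 b - V 1 b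
        set E := U 1 1 - V 1 1
        linarith [sq_nonneg (A + B), sq_nonneg (A + C), sq_nonneg (A - E), sq_nonneg (B - C), sq_nonneg (B + E),
          sq_nonneg (C + E)]
      rw [hma, show ma = m - n from sub_eq_zero.mp (pow_eq_zero_iff (n := 2) two_ne_zero |>.mp
        (le_antisymm hsq (sq_nonneg _)))]
    refine ⟨δ, n, k, hcol, m, hconstant, ?_⟩
    -- bounds on the coefficient
    have hineq := P.alpha_ineq hcol 1 hm₀
    have hQ : ∑ φ ∈ Y, degQ W₁ φ ^ 2 = 2 := by
      rw [Finset.sum_congr rfl fun φ hφ => show degQ W₁ φ ^ 2 = 1 by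
        rw [degQ_eq (φ := φ) (k := 1) (by rw [mul_one]; exact (hYz φ hφ).deg), one_pow], Finset.sum_const,
        smul_eq_mul, mul_one, hY2]
    rw [hQ] at hineq
    have hm0n : 0 ≤ m ∧ m ≤ n := by push_cast at hineq; constructor <;> nlinarith
    -- the congruence
    set f : M → ℂ := fun x => ψ x with hf
    have hfgen : IsGeneralizedCharacter M f := by
      obtain ⟨c1, c2, g1, g2, e'⟩ := hψg
      exact ⟨_, _, isCharacter_restrict g1 M, isCharacter_restrict g2 M, by
        funext x; show ψ x = _; rw [e']; rfl⟩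
    obtain ⟨q₀, hq₀⟩ := classInner_genChar_int (isGenChar_of_char (isCharacter_of_irr (hYz ζ hζ).irr)) hfgen
    have hψcl : IsClassFunction G ψ := (isGenChar_iff_coeff_int.mp hψg).1
    have hfcl : IsClassFunction M f := (isGenChar_iff_coeff_int.mp hfgen).1
    have hfk : IsGeneralizedCharacter K (fun x : K => f x) := by
      obtain ⟨c1, c2, g1, g2, e'⟩ := hfgen
      exact ⟨_, _, isCharacter_restrict g1 K, isCharacter_restrict g2 K, by funext x; rw [e']; rfl⟩
    obtain ⟨Θ, hΘ⟩ := classInner_genChar_int (isGenChar_of_char (isCharacter_of_irr (d.prime.isIrr_colChar b))) hfk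
    have hmu1 : classInner (d.prime.muSum 1) f = (e : ℂ) - 1 + q₀ := by
      have h := he₁
      rw [hY0, t.tau_reciprocity hms.1 hmoff hm1 hψcl, classInner_sub_left,
        show classInner ζ (fun x : M => ψ x) = (q₀ : ℂ) from hq₀] at h
      push_cast at h
      show classInner (d.prime.muSum 1) (fun x : M => ψ x) = _
      linear_combination h
    have hmub : classInner (d.prime.muSum b) f = (Θ : ℂ) := by
      rw [← d.prime.indFun_colChar, frobenius_reciprocity K _ hfcl]; exact hΘ
    set S := ∑ a, d.tenAlpha a b δ n ζ with hS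
    have hSeq : S = d.prime.muSum b - (δ : ℂ) • d.prime.muSum 1 - ((n : ℂ) * (Nat.card W₁ : ℂ)) • ζ := by
      simp only [hS, TenData.tenAlpha, Finset.sum_sub_distrib, ← Finset.smul_sum, Finset.sum_const, Finset.card_univ,
        d.card_hom₁', IsPrimeTI.muSum]
      module
    have hScl : IsClassFunction M S := by
      rw [hS]; exact isClassFunction_sum _ _ fun a _ => (alpha_supp (hYz ζ hζ) hcol a).1
    have hSoff : ∀ x : M, x ∉ K → S x = 0 := fun x hx => by
      simp only [hSeq, Pi.sub_apply, Pi.smul_apply, ← d.prime.indFun_colChar, indFun_normal_apply_not_mem K _ hx,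
        (hYz ζ hζ).zero_off x hx]
      simp
    have hS1 : S 1 = 0 := by
      have hc : (k : ℂ) = δ + n * (Nat.card W₁ : ℂ) := by exact_mod_cast congrArg (Int.cast (R := ℂ)) h4
      simp only [hSeq, Pi.sub_apply, Pi.smul_apply, d.muSum_apply_one, h3, d.prime.colChar_one, (hYz ζ hζ).deg,
        smul_eq_mul, hc]
      ring
    have hsum : ∑ a : W₁ →* ℂˣ, classInner (alphaImg d a b δ n ζ) ψ = classInner S f := by
      rw [← classInner_sum_left, ← d.tau_sum' Finset.univ fun a => d.tenAlpha a b δ n ζ]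
      exact t.tau_reciprocity hScl hSoff hS1 hψcl
    rw [Finset.sum_congr rfl fun a _ => hconstant a, Finset.sum_const, Finset.card_univ, d.card_hom₁', hw13,
      nsmul_eq_mul, hSeq, classInner_sub_left, classInner_sub_left, classInner_smul_left, classInner_smul_left,
      hmu1, hmub, show classInner ζ f = (q₀ : ℂ) from hq₀, hw13] at hsum
    have hsum' : 13 * (m - n) = Θ - δ * (e - 1 + q₀) - n * 13 * q₀ := by
      have : ((13 * (m - n) : ℤ) : ℂ) = ((Θ - δ * (e - 1 + q₀) - n * 13 * q₀ : ℤ) : ℂ) := by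
        push_cast at hsum ⊢; linear_combination hsum
      exact_mod_cast this
    have hk : (k : ℤ) = δ + n * 13 := by rw [h4, hw13]; rfl
    obtain ⟨s, hs⟩ : (k : ℤ) ∣ 13 * m + δ * e := by
      rw [show 13 * m + δ * e = Θ + (k : ℤ) * (1 - q₀) by linear_combination hsum' - (1 - q₀) * hk]
      exact dvd_add (t.full_column_dvd hZ (P.signed hζ) hreal hb (by omega) h3 (hfull b hb) hΘ) (dvd_mul_right _ _)
    have hδ' : δ = 1 ∨ δ = -1 := mul_self_eq_one_iff.mp h1
    have hk27' : (27 : ℤ) ≤ k := by exact_mod_cast hk27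
    have hs01 : s = 0 ∨ s = 1 := by
      have hlo : -1 < s := by
        by_contra hc
        rcases hδ' with h | h <;> rw [h] at hs hk <;> nlinarith
      have hhi : s < 2 := by
        by_contra hc
        rcases hδ' with h | h <;> rw [h] at hs hk <;> nlinarith
      omega
    rcases hs01 with rfl | rfl
    · rcases hδ' with h | h <;> rw [h] at hs <;> omega
    · rw [mul_one] at hs
      rcases hδ' with h | h <;> rw [h] at hs hk <;> omega
  obtain ⟨b₀, hb₀⟩ : ∃ b : W₂ →* ℂˣ, b ≠ 1 :=
    Fintype.exists_ne_of_one_lt_card (by have := d.three_le_hom₂; omega) 1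
  obtain ⟨δ₀, n₀, k₀, hc₀, m₀, hm₀, hcase⟩ := key b₀ hb₀
  have he01 : e = 0 ∨ e = 1 := by rcases hcase with h | h <;> [exact Or.inl h.1; exact Or.inr h.1]
  rcases he01 with he | he
  · refine columns_coherent P (fun b hb => ?_) (by rw [← hY0, ← hψ, he₁, he]; norm_num)
    obtain ⟨δ, n, k, hcol, m, hm, hm'⟩ := key b hb
    have hm0 : m = 0 := by rcases hm' with h | h <;> [exact h.2; omega]
    exact ⟨δ, n, k, hcol, fun a => alphaImg_eq (hYz ζ hζ) hcol hs P.zeta_orth (by rw [hm a, hm0]; push_cast; ring)⟩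
  · have hτp : IsLinearIsometryOn (zspan ({ζ, conjFun ζ} : Set (M → ℂ))) τ₁ := by
      rw [← Finset.coe_pair, ← hYpair]; exact hτ₁
    obtain ⟨τ', g1, g2, g3, -⟩ := swap_extension (hYz ζ hζ).irr hne hτp (τ := d.tau)
      (fun α hα => hτα α (by rwa [← Finset.coe_pair, ← hYpair] at hα))
    have P' : IsPiece d Y τ' (degQ W₁) ζ := hP (by rw [hYdef] at hYpair ⊢; rw [hYpair, Finset.coe_pair]; exact g1)
      (by rw [hYdef] at hYpair ⊢; rw [hYpair, Finset.coe_pair]; exact g2)
    refine columns_coherent P' (fun b hb => ?_) ?_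
    · obtain ⟨δ, n, k, hcol, m, hm, hm'⟩ := key b hb
      have hmn : m = n := by rcases hm' with h | h <;> [omega; exact h.2]
      refine ⟨δ, n, k, hcol, fun a => alphaImg_eq (hYz ζ hζ) hcol P'.zeta_signed P'.zeta_orth ?_⟩
      rw [g3, classInner_neg_right, P.alpha_coeff hcol a hζc hne, ← hψ, hm a, hmn, hqc]
      push_cast; ring
    · rw [g3, classInner_neg_right, ← hY0, ← hψ', hY0ψ', he]; norm_num

end TypeVData

end CfsgLib.OddOrder.TypeV
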