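import Cfsg.Agent.Lib.CharTheory.CoherenceUnion
import Cfsg.Agent.Lib.CharTheory.Sibley
import Cfsg.Agent.Lib.OddOrder.Found.CoherenceTools

/-!
Peterfalvi (10.10), case (6.8 c2): two coherent pieces, one of constant degree, glue as soon as one coefficient
of the image of the bridging function is divisible by the degree quotient.
-/

set_option autoImplicit false
set_option linter.unusedSectionVars false
set_option linter.unusedSimpArgs false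

namespace CfsgLib.OddOrder.TypeV

open Cfsg CfsgLib.CharTheory CfsgLib.OddOrder.Found

universe u v

variable {L : Type u} [Group L] [Fintype L] {G : Type v} [Group G] [Fintype G]

/-- The images of two coherent pieces of irreducible characters are orthogonal. -/
theorem pieces_orthogonal {S : Set (L → ℂ)} {τ : (L → ℂ) → (G → ℂ)} {R : (L → ℂ) → Finset (G → ℂ)}
    (hR : IsCoherenceSystem S τ R) {X Y : Set (L → ℂ)} (hXS : X ⊆ S) (hYS : Y ⊆ S) (hdisj : Disjoint X Y)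
    (hirr : ∀ φ ∈ X ∪ Y, IsIrrCharacter L φ) (hXc : ∀ φ ∈ X, conjFun φ ∈ X) (hYc : ∀ φ ∈ Y, conjFun φ ∈ Y)
    {σ τ₁ : (L → ℂ) → (G → ℂ)} (hσ : IsLinearIsometryOn (zspan X) σ)
    (hσα : ∀ α ∈ zspanOn X {1}ᶜ, σ α = τ α) (hτ₁ : IsLinearIsometryOn (zspan Y) τ₁)
    (hτα : ∀ α ∈ zspanOn Y {1}ᶜ, τ₁ α = τ α) : ∀ χ ∈ X, ∀ η ∈ Y, classInner (σ χ) (τ₁ η) = 0 := by
  intro χ hχ η hη
  refine union_orthogonal hirr Set.subset_union_left Set.subset_union_right hdisj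
    ⟨χ, hχ, _, hXc χ hχ, (hR.conj_ne χ (hXS hχ)).symm⟩ ⟨η, hη, _, hYc η hη, (hR.conj_ne η (hYS hη)).symm⟩
    (Found.isometryOn_mono (E := zspanOn S {1}ᶜ)
      (fun α hα => ⟨Submodule.span_mono (Set.union_subset hXS hYS) hα.1, hα.2⟩) hR.isometry)
    (fun α (hα : α ∈ zspanOn (X ∪ Y) {1}ᶜ) => hR.map_one α
      ⟨Submodule.span_mono (Set.union_subset hXS hYS) hα.1, hα.2⟩)
    hσ hσα hτ₁ hτα χ hχ η hη

set_option maxHeartbeats 1000000 in
open Classical in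
/-- **Two pieces.** `X` and `Y` glue when the coefficient of `τ (χ - e₀ ψ)` at `τ₁ ψ` is divisible by `e₀`. -/
theorem two_piece_coherent {S : Set (L → ℂ)} {τ : (L → ℂ) → (G → ℂ)} {R : (L → ℂ) → Finset (G → ℂ)}
    (hR : IsCoherenceSystem S τ R) {Xf Yf : Finset (L → ℂ)} (hXS : ↑Xf ⊆ S) (hYS : ↑Yf ⊆ S)
    (hdisj : Disjoint Xf Yf) (hirr : ∀ φ ∈ Xf ∪ Yf, IsIrrCharacter L φ)
    (hXc : ∀ φ ∈ Xf, conjFun φ ∈ Xf) (hYc : ∀ φ ∈ Yf, conjFun φ ∈ Yf)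
    {σ τ₁ : (L → ℂ) → (G → ℂ)} (hσ : IsLinearIsometryOn (zspan ↑Xf) σ)
    (hσα : ∀ α ∈ zspanOn ↑Xf {1}ᶜ, σ α = τ α) (hτ₁ : IsLinearIsometryOn (zspan ↑Yf) τ₁)
    (hτα : ∀ α ∈ zspanOn ↑Yf {1}ᶜ, τ₁ α = τ α) {χ ψ : L → ℂ} (hχ : χ ∈ Xf) (hψ : ψ ∈ Yf) {N e₀ : ℕ}
    (_hN : 0 < N) (he₀ : 0 < e₀) (w : (L → ℂ) → ℕ) (hX1 : ∀ ξ ∈ Xf, ξ 1 = (N : ℂ) * e₀ * w ξ)
    (hw0 : ∀ ξ ∈ Xf, 0 < w ξ) (hwχ : w χ = 1) (hY1 : ∀ ξ ∈ Yf, ξ 1 = (N : ℂ)) {c : ℤ}
    (hc : classInner (τ (χ - (e₀ : ℤ) • ψ)) (τ₁ ψ) = c) (hdvd : (e₀ : ℤ) ∣ c) :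
    IsCoherent (↑Xf ∪ ↑Yf : Set (L → ℂ)) {1}ᶜ τ := by
  set X : Set (L → ℂ) := ↑Xf with hXdef
  set Y : Set (L → ℂ) := ↑Yf with hYdef
  have hXY' : Disjoint X Y := by rwa [hXdef, hYdef, Finset.disjoint_coe]
  have hirr' : ∀ φ ∈ X ∪ Y, IsIrrCharacter L φ := fun φ hφ => hirr φ (Finset.mem_union.mpr hφ)
  have hSU : zspanOn (X ∪ Y) {1}ᶜ ⊆ zspanOn S {1}ᶜ := fun α hα =>
    ⟨Submodule.span_mono (Set.union_subset hXS hYS) hα.1, hα.2⟩
  have horth := pieces_orthogonal hR hXS hYS hXY' hirr' hXc hYc hσ hσα hτ₁ hτα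
  have hXin : ∀ ξ ∈ Xf, ξ ∈ zspan X := fun ξ h => Submodule.subset_span h
  have hYin : ∀ ξ ∈ Yf, ξ ∈ zspan Y := fun ξ h => Submodule.subset_span h
  have hiX : ∀ ξ ∈ Xf, IsIrrCharacter L ξ := fun ξ h => hirr ξ (Finset.mem_union_left _ h)
  have hiY : ∀ ξ ∈ Yf, IsIrrCharacter L ξ := fun ξ h => hirr ξ (Finset.mem_union_right _ h)
  have hβ : χ - (e₀ : ℤ) • ψ ∈ zspanOn S {1}ᶜ := ⟨Submodule.sub_mem _ (Submodule.subset_span (hXS hχ))
    (Submodule.smul_mem _ _ (Submodule.subset_span (hYS hψ))), fun x hx => by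
      have hx' : x = 1 := by simpa using hx
      rw [hx', Pi.sub_apply, Pi.smul_apply, hX1 χ hχ, hY1 ψ hψ, hwχ, zsmul_eq_mul]; push_cast; ring⟩
  set vv := τ (χ - (e₀ : ℤ) • ψ) with hvv0
  have hgv : IsGeneralizedCharacter G vv := hR.isometry.2.2.2 _ hβ
  choose! bX hbX using fun ξ (hξ : ξ ∈ Xf) => classInner_genChar_int hgv (hσ.2.2.2 ξ (hXin ξ hξ))
  choose! cY hcY using fun ξ (hξ : ξ ∈ Yf) => classInner_genChar_int hgv (hτ₁.2.2.2 ξ (hYin ξ hξ))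
  have hcψ : cY ψ = c := by exact_mod_cast (hcY ψ hψ).symm.trans hc
  have hne : ∀ ξ ∈ Xf, ∀ η ∈ Yf, classInner ξ η = 0 := fun ξ hξ η hη =>
    classInner_irr_ne (hiX ξ hξ) (hiY η hη) fun e => Finset.disjoint_left.mp hdisj hξ (e ▸ hη)
  have hne' : ∀ ξ ∈ Xf, ∀ η ∈ Yf, classInner η ξ = 0 := fun ξ hξ η hη => by
    rw [← classInner_comm, hne ξ hξ η hη, map_zero]
  have hcrel : ∀ ξ ∈ Yf, ξ ≠ ψ → cY ξ = cY ψ + e₀ := by
    intro ξ hξ hξψ
    have hmY : ξ - ψ ∈ zspanOn Y {1}ᶜ := ⟨Submodule.sub_mem _ (hYin ξ hξ) (hYin ψ hψ), fun x hx => by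
      rw [show x = 1 by simpa using hx, Pi.sub_apply, hY1 ξ hξ, hY1 ψ hψ, sub_self]⟩
    have h : classInner vv (τ (ξ - ψ)) = classInner (χ - (e₀ : ℤ) • ψ) (ξ - ψ) :=
      hR.isometry.2.2.1 _ hβ _ ⟨Submodule.span_mono hYS hmY.1, hmY.2⟩
    have e : τ₁ (ξ - ψ) = τ₁ ξ - τ₁ ψ := by
      rw [← one_smul ℤ ξ, ← one_smul ℤ ψ, li_comb hτ₁ (hYin ξ hξ) (hYin ψ hψ), one_smul, one_smul]; simp
    rw [show τ (ξ - ψ) = τ₁ ξ - τ₁ ψ from (hτα _ hmY).symm.trans e] at h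
    simp only [← Int.cast_smul_eq_zsmul ℂ, classInner_sub_right, classInner_sub_left, classInner_smul_left,
      map_intCast, hcY ξ hξ, hcY ψ hψ, hne χ hχ ξ hξ, hne χ hχ ψ hψ, classInner_irr_self (hiY ψ hψ),
      classInner_irr_ne (hiY ψ hψ) (hiY ξ hξ) (Ne.symm hξψ)] at h
    have h' : ((cY ξ : ℤ) : ℂ) = ((cY ψ + e₀ : ℤ) : ℂ) := by push_cast at h ⊢; linear_combination h
    exact_mod_cast h'
  have hbrel : ∀ ξ ∈ Xf, ξ ≠ χ → bX ξ = (w ξ : ℤ) * (bX χ - 1) := by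
    intro ξ hξ hξχ
    have hmX : ξ - (w ξ : ℤ) • χ ∈ zspanOn X {1}ᶜ :=
      ⟨Submodule.sub_mem _ (hXin ξ hξ) (Submodule.smul_mem _ _ (hXin χ hχ)), fun x hx => by
        rw [show x = 1 by simpa using hx, Pi.sub_apply, Pi.smul_apply, hX1 ξ hξ, hX1 χ hχ, hwχ, zsmul_eq_mul]
        push_cast; ring⟩
    have h : classInner vv (τ (ξ - (w ξ : ℤ) • χ)) = classInner (χ - (e₀ : ℤ) • ψ) (ξ - (w ξ : ℤ) • χ) :=
      hR.isometry.2.2.1 _ hβ _ ⟨Submodule.span_mono hXS hmX.1, hmX.2⟩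
    have e : σ (ξ - (w ξ : ℤ) • χ) = σ ξ - ((w ξ : ℤ) : ℂ) • σ χ := by
      rw [← one_smul ℤ ξ, li_comb hσ (hXin ξ hξ) (hXin χ hχ), one_smul, Int.cast_one, one_smul]
    rw [show τ (ξ - (w ξ : ℤ) • χ) = σ ξ - ((w ξ : ℤ) : ℂ) • σ χ from (hσα _ hmX).symm.trans e] at h
    simp only [← Int.cast_smul_eq_zsmul ℂ, classInner_sub_right, classInner_sub_left, classInner_smul_left,
      classInner_smul_right, map_intCast, hbX ξ hξ, hbX χ hχ, hne' ξ hξ ψ hψ, hne' χ hχ ψ hψ,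
      classInner_irr_self (hiX χ hχ), classInner_irr_ne (hiX χ hχ) (hiX ξ hξ) (Ne.symm hξχ)] at h
    have h' : ((bX ξ : ℤ) : ℂ) = (((w ξ : ℤ) * (bX χ - 1) : ℤ) : ℂ) := by
      push_cast at h ⊢; linear_combination h
    exact_mod_cast h'
  set x : ℤ := cY ψ + e₀ with hx
  set y : ℤ := bX χ - 1 with hy
  obtain ⟨t, hxt⟩ : (e₀ : ℤ) ∣ x := dvd_add (hcψ ▸ hdvd) dvd_rfl
  have tX : ∀ ξ ∈ Xf, ∀ η ∈ Xf, classInner (σ ξ) (σ η) = if ξ = η then 1 else 0 := fun ξ hξ η hη => by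
    rw [hσ.2.2.1 _ (hXin ξ hξ) _ (hXin η hη)]; exact classInner_irr (hiX ξ hξ) (hiX η hη)
  have tY : ∀ ξ ∈ Yf, ∀ η ∈ Yf, classInner (τ₁ ξ) (τ₁ η) = if ξ = η then 1 else 0 := fun ξ hξ η hη => by
    rw [hτ₁.2.2.1 _ (hYin ξ hξ) _ (hYin η hη)]; exact classInner_irr (hiY ξ hξ) (hiY η hη)
  set A : G → ℂ := ∑ ξ ∈ Xf, (bX ξ : ℂ) • σ ξ with hA
  set B : G → ℂ := ∑ ξ ∈ Yf, (cY ξ : ℂ) • τ₁ ξ with hB
  have hAs : ∀ ξ ∈ Xf, classInner A (σ ξ) = bX ξ := fun ξ hξ => by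
    rw [hA, classInner_sum_left, Finset.sum_eq_single ξ
      (fun η hη hne => by rw [classInner_smul_left, tX η hη ξ hξ, if_neg hne, mul_zero])
      (fun h => absurd hξ h), classInner_smul_left, tX ξ hξ ξ hξ, if_pos rfl, mul_one]
  have hBs : ∀ ξ ∈ Yf, classInner B (τ₁ ξ) = cY ξ := fun ξ hξ => by
    rw [hB, classInner_sum_left, Finset.sum_eq_single ξ
      (fun η hη hne => by rw [classInner_smul_left, tY η hη ξ hξ, if_neg hne, mul_zero])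
      (fun h => absurd hξ h), classInner_smul_left, tY ξ hξ ξ hξ, if_pos rfl, mul_one]
  have hAB : classInner A B = 0 := by
    rw [hA, classInner_sum_left]
    refine Finset.sum_eq_zero fun ξ hξ => ?_
    rw [classInner_smul_left, hB, classInner_sum_right, Finset.sum_eq_zero fun η hη => by
      rw [classInner_smul_right, horth ξ hξ η hη, mul_zero], mul_zero]
  set Q1 : ℤ := ∑ ξ ∈ Xf, bX ξ ^ 2 with hQ1
  set Q2 : ℤ := ∑ ξ ∈ Yf, cY ξ ^ 2 with hQ2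
  have hAA : classInner A A = (Q1 : ℂ) := by
    conv_lhs => arg 2; rw [hA]
    rw [classInner_sum_right, hQ1]; push_cast
    exact Finset.sum_congr rfl fun ξ hξ => by rw [classInner_smul_right, hAs ξ hξ, map_intCast, sq]
  have hvA : classInner vv A = (Q1 : ℂ) := by
    rw [hA, classInner_sum_right, hQ1]; push_cast
    exact Finset.sum_congr rfl fun ξ hξ => by rw [classInner_smul_right, hbX ξ hξ, map_intCast, sq]
  have hBB : classInner B B = (Q2 : ℂ) := by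
    conv_lhs => arg 2; rw [hB]
    rw [classInner_sum_right, hQ2]; push_cast
    exact Finset.sum_congr rfl fun ξ hξ => by rw [classInner_smul_right, hBs ξ hξ, map_intCast, sq]
  have hvB : classInner vv B = (Q2 : ℂ) := by
    rw [hB, classInner_sum_right, hQ2]; push_cast
    exact Finset.sum_congr rfl fun ξ hξ => by rw [classInner_smul_right, hcY ξ hξ, map_intCast, sq]
  have hvvn : classInner vv vv = (1 : ℂ) + (e₀ : ℂ) ^ 2 := by
    rw [hvv0, hR.isometry.2.2.1 _ hβ _ hβ]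
    simp only [← Int.cast_smul_eq_zsmul ℂ, classInner_sub_right, classInner_sub_left, classInner_smul_left,
      classInner_smul_right, map_intCast, classInner_irr_self (hiX χ hχ), classInner_irr_self (hiY ψ hψ),
      hne χ hχ ψ hψ, hne' χ hχ ψ hψ]
    push_cast; ring
  obtain ⟨r, hr0, hr, hrz⟩ := classInner_self_nonneg_real (vv - A - B)
  have hreal : r = 1 + (e₀ : ℝ) ^ 2 - (Q1 : ℝ) - (Q2 : ℝ) := by
    have h : (r : ℂ) = 1 + (e₀ : ℂ) ^ 2 - (Q1 : ℂ) - (Q2 : ℂ) := by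
      rw [← hr]
      simp only [classInner_sub_left, classInner_sub_right, hvvn, hvA, hvB, hAA, hAB, hBB,
        show classInner A vv = (Q1 : ℂ) by rw [← classInner_comm, hvA, map_intCast],
        show classInner B vv = (Q2 : ℂ) by rw [← classInner_comm, hvB, map_intCast],
        show classInner B A = 0 by rw [← classInner_comm, hAB, map_zero]]
      ring
    exact_mod_cast h
  have hle : Q1 + Q2 ≤ 1 + (e₀ : ℤ) ^ 2 := by
    have : ((Q1 + Q2 : ℤ) : ℝ) ≤ ((1 + (e₀ : ℤ) ^ 2 : ℤ) : ℝ) := by push_cast; linarith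
    exact_mod_cast this
  set s : ℤ := (Yf.card : ℤ) with hs
  set W : ℤ := ∑ ξ ∈ Xf, (w ξ : ℤ) ^ 2 with hW
  have hQ2v : Q2 = s * x ^ 2 - 2 * e₀ * x + (e₀ : ℤ) ^ 2 := by
    rw [hQ2, ← Finset.add_sum_erase _ _ hψ, Finset.sum_congr rfl fun ξ hξ => show cY ξ ^ 2 = x ^ 2 by
      rw [hcrel ξ (Finset.mem_of_mem_erase hξ) (Finset.ne_of_mem_erase hξ)],
      Finset.sum_const, Finset.card_erase_of_mem hψ, nsmul_eq_mul,
      Nat.cast_sub (Finset.card_pos.mpr ⟨ψ, hψ⟩), show cY ψ = x - e₀ by omega, hs]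
    push_cast; ring
  have hQ1v : Q1 = W * y ^ 2 + 2 * y + 1 := by
    rw [hQ1, hW, ← Finset.add_sum_erase _ _ hχ, ← Finset.add_sum_erase _ (fun ξ => (w ξ : ℤ) ^ 2) hχ,
      Finset.sum_congr rfl fun ξ hξ => show bX ξ ^ 2 = (w ξ : ℤ) ^ 2 * y ^ 2 by
        rw [hbrel ξ (Finset.mem_of_mem_erase hξ) (Finset.ne_of_mem_erase hξ), mul_pow],
      ← Finset.sum_mul, hwχ, show bX χ = y + 1 by omega]
    push_cast; ring
  have hs2 : 2 ≤ s := by
    have : 1 < Yf.card := Finset.one_lt_card.mpr ⟨ψ, hψ, _, hYc ψ hψ, (hR.conj_ne ψ (hYS hψ)).symm⟩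
    omega
  have hwge : ∀ ξ ∈ Xf, (1 : ℤ) ≤ (w ξ : ℤ) ^ 2 := fun ξ hξ => one_le_pow₀ (by exact_mod_cast hw0 ξ hξ)
  have hWcard : (Xf.card : ℤ) ≤ W := by simpa [hW] using Finset.sum_le_sum hwge
  have hX2 : 2 ≤ Xf.card := Finset.one_lt_card.mpr ⟨χ, hχ, _, hXc χ hχ, (hR.conj_ne χ (hXS hχ)).symm⟩
  have hYpos : 0 ≤ W * y ^ 2 + 2 * y := by
    rcases le_or_gt 0 y with h | h
    · nlinarith [sq_nonneg y]
    · have h1 : 2 * y ^ 2 ≤ W * y ^ 2 := mul_le_mul_of_nonneg_right (by omega) (sq_nonneg y)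
      nlinarith
  have hXpos : 0 ≤ s * x ^ 2 - 2 * e₀ * x := by
    rw [hxt]
    have : 0 ≤ t * (s * t - 2) := by
      rcases lt_trichotomy t 0 with h | h | h
      · exact mul_nonneg_of_nonpos_of_nonpos h.le (by nlinarith)
      · simp [h]
      · exact mul_nonneg h.le (by nlinarith)
    nlinarith [mul_nonneg (sq_nonneg (e₀ : ℤ)) this]
  have hx0 : s * x ^ 2 - 2 * e₀ * x = 0 := by omega
  have hy0 : W * y ^ 2 + 2 * y = 0 := by omega
  have hvAB : vv = A + B := by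
    have : (Q1 : ℝ) + Q2 = 1 + (e₀ : ℝ) ^ 2 := by
      have : ((Q1 + Q2 : ℤ) : ℝ) = ((1 + (e₀ : ℤ) ^ 2 : ℤ) : ℝ) := by
        rw [show Q1 + Q2 = 1 + (e₀ : ℤ) ^ 2 by omega]
      push_cast at this; exact this
    have h := hrz (by linarith)
    rw [sub_sub, sub_eq_zero] at h; exact h
  -- normalise the extensions
  obtain ⟨σ', hσ', hσ'α, hAeq, hsub1⟩ : ∃ σ', IsLinearIsometryOn (zspan X) σ' ∧
      (∀ θ ∈ zspanOn X {1}ᶜ, σ' θ = τ θ) ∧
      A = σ' χ ∧ ∀ ξ ∈ X, ∃ η ∈ X, σ' ξ = σ η ∨ σ' ξ = -σ η := by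
    have hy' : y = 0 ∨ (y = -1 ∧ W = 2) := by
      rcases eq_or_ne y 0 with h | h
      · exact Or.inl h
      · right
        have h2 : W * y + 2 = 0 :=
          (mul_eq_zero.mp (by linear_combination hy0 : y * (W * y + 2) = 0)).resolve_left h
        have hyn : y ≤ -1 := by by_contra hc; nlinarith
        have h3 : y = -1 := by nlinarith
        exact ⟨h3, by rw [h3] at h2; omega⟩
    rcases hy' with h | ⟨h, hW2⟩
    · refine ⟨σ, hσ, hσα, ?_, fun ξ hξ => ⟨ξ, hξ, Or.inl rfl⟩⟩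
      rw [hA, Finset.sum_eq_single χ
        (fun ξ hξ hne => by rw [hbrel ξ hξ hne, h, mul_zero, Int.cast_zero, zero_smul])
        (fun hc => absurd hχ hc), show bX χ = 1 by omega, Int.cast_one, one_smul]
    · have hcard2 : Xf.card = 2 := by omega
      have hXpair : Xf = {χ, conjFun χ} := (Finset.eq_of_subset_of_card_le (by
        intro q hq; rcases Finset.mem_insert.mp hq with rfl | hq
        · exact hχ
        · rw [Finset.mem_singleton.mp hq]; exact hXc χ hχ)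
        (by rw [Finset.card_pair (hR.conj_ne χ (hXS hχ)).symm, hcard2])).symm
      have hXset : X = {χ, conjFun χ} := by
        rw [hXdef, hXpair]; simp
      have hσ2 : IsLinearIsometryOn (zspan ({χ, conjFun χ} : Set (L → ℂ))) σ := hXset ▸ hσ
      obtain ⟨σ', h1, h2, h3, h4⟩ := swap_extension (hiX χ hχ) (hR.conj_ne χ (hXS hχ)) hσ2
        (τ := τ) (by rw [← hXset]; exact hσα)
      refine ⟨σ', hXset ▸ h1, hXset ▸ h2, ?_, fun ξ hξ => ?_⟩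
      · rw [h3, hA, hXpair, Finset.sum_pair (hR.conj_ne χ (hXS hχ)).symm,
          hbrel _ (hXc χ hχ) (hR.conj_ne χ (hXS hχ)), h, show bX χ = 0 by omega, Int.cast_zero, zero_smul, zero_add]
        have hw1 : (w (conjFun χ) : ℤ) = 1 := by
          have e : (w (conjFun χ) : ℤ) ^ 2 = 1 := by
            rw [hW, hXpair, Finset.sum_pair (hR.conj_ne χ (hXS hχ)).symm, hwχ] at hW2
            push_cast at hW2; linarith
          rcases sq_eq_one_iff.mp e with e | e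
          · exact e
          · omega
        rw [hw1]; push_cast; simp
      · rw [hXset] at hξ
        rcases hξ with rfl | rfl
        · exact ⟨_, hXc _ hχ, Or.inr h3⟩
        · exact ⟨χ, hχ, Or.inr h4⟩
  obtain ⟨τ', hτ', hτ'α, hBeq, hsub2⟩ : ∃ τ', IsLinearIsometryOn (zspan Y) τ' ∧
      (∀ θ ∈ zspanOn Y {1}ᶜ, τ' θ = τ θ) ∧
      B = (-(e₀ : ℂ)) • τ' ψ ∧ ∀ ξ ∈ Y, ∃ η ∈ Y, τ' ξ = τ₁ η ∨ τ' ξ = -τ₁ η := by
    have ht' : t = 0 ∨ (t = 1 ∧ s = 2) := by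
      rw [hxt] at hx0
      rcases eq_or_ne t 0 with h | h
      · exact Or.inl h
      · right
        have ha2 : (e₀ : ℤ) ^ 2 * t ≠ 0 := mul_ne_zero (pow_ne_zero 2 (by exact_mod_cast he₀.ne')) h
        have h2 : s * t - 2 = 0 :=
          (mul_eq_zero.mp (by linear_combination hx0 : ((e₀ : ℤ) ^ 2 * t) * (s * t - 2) = 0)).resolve_left ha2
        have h3 : 0 < t := by by_contra hc; nlinarith
        have h4 : t = 1 := by nlinarith
        exact ⟨h4, by rw [h4] at h2; omega⟩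
    rcases ht' with h | ⟨h, hs2'⟩
    · rw [h, mul_zero] at hxt
      refine ⟨τ₁, hτ₁, hτα, ?_, fun ξ hξ => ⟨ξ, hξ, Or.inl rfl⟩⟩
      rw [hB, Finset.sum_eq_single ψ (fun ξ hξ hne => by rw [hcrel ξ hξ hne, hxt, Int.cast_zero, zero_smul])
        (fun hc => absurd hψ hc), show cY ψ = -(e₀ : ℤ) by omega]
      push_cast; rfl
    · rw [h, mul_one] at hxt
      have hcard2 : Yf.card = 2 := by omega
      have hψc := hYc ψ hψ
      have hψne := hR.conj_ne ψ (hYS hψ)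
      have hYpair : Yf = {ψ, conjFun ψ} := (Finset.eq_of_subset_of_card_le (by
        intro q hq; rcases Finset.mem_insert.mp hq with rfl | hq
        · exact hψ
        · rw [Finset.mem_singleton.mp hq]; exact hψc)
        (by rw [Finset.card_pair hψne.symm, hcard2])).symm
      have hYset : Y = {ψ, conjFun ψ} := by
        rw [hYdef, hYpair]; simp
      have hτ2 : IsLinearIsometryOn (zspan ({ψ, conjFun ψ} : Set (L → ℂ))) τ₁ := hYset ▸ hτ₁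
      obtain ⟨τ', h1, h2, h3, h4⟩ := swap_extension (hiY ψ hψ) hψne hτ2 (τ := τ)
        (by rw [← hYset]; exact hτα)
      refine ⟨τ', hYset ▸ h1, hYset ▸ h2, ?_, fun ξ hξ => ?_⟩
      · rw [h3, hB, hYpair, Finset.sum_pair hψne.symm, hcrel _ hψc hψne, hxt, show cY ψ = 0 by omega,
          Int.cast_zero, zero_smul, zero_add, smul_neg, neg_smul, neg_neg]
        push_cast; rfl
      · rw [hYset] at hξ
        rcases hξ with rfl | rfl
        · exact ⟨_, hψc, Or.inr h3⟩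
        · exact ⟨ψ, hψ, Or.inr h4⟩
  have horth' : ∀ ξ ∈ X, ∀ η ∈ Y, classInner (σ' ξ) (τ' η) = 0 := fun ξ hξ η hη => by
    obtain ⟨ξ', hξ', e⟩ := hsub1 ξ hξ
    obtain ⟨η', hη', f⟩ := hsub2 η hη
    rcases e with e | e <;> rcases f with f | f <;>
      simp [e, f, classInner_neg_left, classInner_neg_right, horth ξ' hξ' η' hη']
  refine union_coherent hirr' Set.subset_union_left Set.subset_union_right hXY'
    ⟨χ, hχ, _, hXc χ hχ, (hR.conj_ne χ (hXS hχ)).symm⟩ (Found.isometryOn_mono hSU hR.isometry)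
    hσ' hσ'α hτ' hτ'α horth' ⟨χ, hχ, ψ, hψ, ?_⟩
  rw [hX1 χ hχ, hY1 ψ hψ, hwχ]
  have e : ((N : ℂ) * e₀ * (1 : ℕ)) • ψ - (N : ℂ) • χ = (-(N : ℤ)) • (χ - (e₀ : ℤ) • ψ) := by
    simp only [← Int.cast_smul_eq_zsmul ℂ]; push_cast; module
  rw [e, hR.isometry.2.1 _ hβ]
  show (-(N : ℤ)) • vv = _
  rw [hvAB, hAeq, hBeq]
  simp only [← Int.cast_smul_eq_zsmul ℂ]; push_cast; module

end CfsgLib.OddOrder.TypeV
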