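import Cfsg.Agent.Lib.OddOrder.S10.TypeV.CongC
import Cfsg.Agent.Lib.OddOrder.S10.TypeV.TwoPiece
import Cfsg.Agent.Lib.CharTheory.FrobSection

/-!
Peterfalvi (10.10), case (6.8 c2) of class at least three: the linear family and the layer between `W₂` and the
second central layer are coherent together.
-/

set_option autoImplicit false
set_option linter.unusedSectionVars false
set_option linter.style.haveILetI false

namespace CfsgLib.OddOrder.TypeV

open Cfsg CfsgLib.CharTheory CfsgLib.Dade CfsgLib.OddOrder.Found CfsgLib.OddOrder.Ten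
open scoped ComplexConjugate commutatorElement

universe u

/-- The final inequality of the main branch. -/
theorem main_numeric {p N P e₀ w Q D n e : ℤ} (hp : 3 ≤ p) (hN : p ^ 3 ≤ N) (hP : 0 < P)
    (hw : 0 < w) (hQ0 : 0 ≤ Q) (hQ : Q * e₀ ^ 2 * w = P * (N - 1))
    (hB : Q * (N - 1) * D ^ 2 ≤ 2 * e₀ ^ 2 * Q + w * n ^ 2) (hD : e₀ ^ 2 ≤ p ^ 2 * D ^ 2)
    (he : 9 * (n * w) ^ 2 ≤ 16 * e ^ 2) (he2 : e ^ 2 ≤ P * N) (hx : N = 27 → e ^ 2 ≤ P)
    (h81 : p = 3 → N ≠ 27 → 81 ≤ N) : False := by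
  have h27 : (27 : ℤ) ≤ p ^ 3 := by
    have := pow_le_pow_left₀ (by norm_num : (0 : ℤ) ≤ 3) hp 3
    linarith
  have hN1 : 0 ≤ N - 1 := by linarith
  have hp2 : 0 ≤ p ^ 2 := sq_nonneg p
  have h1 : P * (N - 1) ^ 2 ≤ p ^ 2 * (2 * P * (N - 1) + (n * w) ^ 2) := by
    have a1 : Q * w * (N - 1) * e₀ ^ 2 ≤ Q * w * (N - 1) * (p ^ 2 * D ^ 2) :=
      mul_le_mul_of_nonneg_left hD (by positivity)
    have a2 : p ^ 2 * w * (Q * (N - 1) * D ^ 2) ≤ p ^ 2 * w * (2 * e₀ ^ 2 * Q + w * n ^ 2) :=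
      mul_le_mul_of_nonneg_left hB (by positivity)
    have e1 : P * (N - 1) ^ 2 = Q * w * (N - 1) * e₀ ^ 2 := by linear_combination -(N - 1) * hQ
    have e2 : p ^ 2 * (2 * P * (N - 1) + (n * w) ^ 2) = p ^ 2 * w * (2 * e₀ ^ 2 * Q + w * n ^ 2) := by
      linear_combination -2 * p ^ 2 * hQ
    linarith
  have h2 : 9 * (P * (N - 1) ^ 2) ≤ 18 * p ^ 2 * (P * (N - 1)) + 16 * p ^ 2 * e ^ 2 := by
    have := mul_le_mul_of_nonneg_left he hp2
    linarith
  by_cases hN27 : N = 27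
  · subst hN27
    have hp3 : p = 3 := by
      by_contra hne
      have := pow_le_pow_left₀ (by norm_num : (0 : ℤ) ≤ 4) (show 4 ≤ p by omega) 3
      linarith
    subst hp3
    linarith [hx rfl]
  · have h3 : 9 * (N - 1) ^ 2 ≤ 18 * p ^ 2 * (N - 1) + 16 * p ^ 2 * N := by
      refine le_of_mul_le_mul_left (a := P) ?_ hP
      have := mul_le_mul_of_nonneg_left he2 hp2
      linarith
    have h4 : 9 * N ≤ 18 + 34 * p ^ 2 := by
      refine le_of_mul_le_mul_left (a := N) ?_ (by linarith)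
      nlinarith
    rcases eq_or_lt_of_le hp with h | h
    · subst h
      have := h81 rfl hN27
      omega
    · nlinarith [mul_le_mul_of_nonneg_right (show 4 ≤ p by omega) hp2]

variable {G : Type u} [Group G] [Fintype G] {M : Subgroup G} [Fintype M] {K W₁ W₂ : Subgroup M}
  {H : G → Subgroup G}

namespace TypeVData

variable {d : TenData M K W₁ W₂ H} {p : ℕ} (t : TypeVData d p)
include t

variable (hZ : ⁅K, K⁆ ⊓ Subgroup.centralizer (K : Set M) = W₂)
include hZ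

/-- `W₂` is central in `M`. -/
theorem W₂_center_top {z : M} (hz : z ∈ W₂) (x : M) : x * z = z * x := by
  haveI := d.prime.normal
  obtain ⟨k, hk, a, ha, rfl⟩ : ∃ k ∈ K, ∃ a ∈ W₁, k * a = x :=
    Subgroup.mem_sup_of_normal_left.mp (by rw [d.prime.sup_eq_top]; exact Subgroup.mem_top x)
  rw [mul_assoc, d.prime.comm a ha z hz, ← mul_assoc, t.W₂_central hZ z hz k hk, mul_assoc]

/-- The degree of a column is at most `√|K : W₂|`. -/
theorem col_deg_sq_le {b : W₂ →* ℂˣ} {e : ℕ} (he : d.prime.colChar b 1 = e) : e ^ 2 ≤ W₂.relIndex K := by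
  haveI := d.prime.normal
  haveI := t.W₂_normal hZ
  refine deg_sq_le K ⊥ W₂ (fun x hx y hy => ?_) (d.prime.isIrr_colChar b)
    (fun a ha => by rw [show a = 1 from Subtype.ext (Subgroup.mem_bot.mp ha)]) he
  rw [Subgroup.mem_bot, ← t.W₂_central hZ x hx y hy]
  group

variable {R : Subgroup M} [R.Normal] (hR : R ≤ ⁅K, K⁆) (hW : W₂ ≤ R)
  (hcom : ∀ x ∈ R, ∀ y ∈ K, x * y * x⁻¹ * y⁻¹ ∈ W₂) (hne : R ≠ W₂)
include hR hW hcom hne

open Classical in
/-- **C2.** The coefficient at a signed irreducible orthogonal to the image of the layer. -/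
theorem layer_coeff_dvd {σ : (M → ℂ) → (G → ℂ)} (hσ : IsLinearIsometryOn (zspan ↑(layerFin K W₂ R)) σ)
    (hσα : ∀ α ∈ zspanOn ↑(layerFin K W₂ R) {1}ᶜ, σ α = d.tau α) (w : (M → ℂ) → ℕ) {e₀ : ℕ} (he₀ : 0 < e₀)
    (hdeg : ∀ φ ∈ layerFin K W₂ R, φ 1 = ((Nat.card W₁ : ℂ) * e₀) * w φ)
    (he₀p : ∃ m, e₀ = p ^ m) {χ : M → ℂ} (hχ : χ ∈ layerFin K W₂ R) (hwχ : w χ = 1)
    {η : G → ℂ} (hη : IsSignedIrr η) (horth : ∀ φ ∈ layerFin K W₂ R, classInner (σ φ) η = 0) {n₀ : ℤ}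
    (hn₀ : classInner χ (fun x : M => η x) = n₀) : (e₀ : ℤ) ∣ p * n₀ := by
  haveI := d.prime.normal
  haveI := t.W₂_normal hZ
  have hRK : R ≤ K := hR.trans t.derived_lt.le
  have hirr : ∀ φ ∈ layerFin K W₂ R, IsIrrCharacter M φ := t.irr_layer_of_W₂_le le_rfl
  have hηg : IsGeneralizedCharacter G η := by
    rcases hη with h | h
    · exact isGenChar_of_char (isCharacter_of_irr h)
    · have := isGenChar_neg (isGenChar_of_char (isCharacter_of_irr h))
      rwa [neg_neg] at this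
  set f : M → ℂ := fun x => η x with hf
  have hfcl : IsClassFunction M f := fun x g => by
    have h := (isGenChar_iff_coeff_int.mp hηg).1 (x : G) (g : G)
    simpa [f] using h
  have hXS : ↑(layerFin K W₂ R) ⊆ inducedIrrAbove K (⊥ : Subgroup M) := fun φ hφ =>
    inducedIrrAbove_subset K W₂ (mem_layerFin.mp hφ).1
  have hrel : ∀ φ ∈ layerFin K W₂ R, classInner φ f = (w φ : ℂ) * n₀ := fun φ hφ => by
    rw [t.coeff_restrict hXS hσ hσα w hdeg hχ hwχ (isGenChar_iff_coeff_int.mp hηg).1 horth hφ, hn₀]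
  have hout : ∀ θ : M → ℂ, IsIrrCharacter M θ → θ ∉ layerFin K W₂ R →
      (∃ a ∈ W₂, θ a ≠ θ 1) ∨ ∀ x ∈ R, θ x = θ 1 := fun θ hθ hnot => by
    by_contra hno
    push Not at hno
    obtain ⟨h1, x, hx, h2⟩ := hno
    exact hnot ((layer_eq K W₂ R hW hRK hirr).mpr ⟨hθ, h1, x, hx, h2⟩)
  have hvan : ∀ θ : M → ℂ, IsIrrCharacter M θ → ∀ a ∈ W₂, θ a ≠ θ 1 → ∀ x ∈ R, x ∉ W₂ → θ x = 0 :=
    fun θ hθ a ha hane x hx hx2 => by
      obtain ⟨k, -, hk⟩ := t.coset_conj hZ hR hW hcom hx hx2 ha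
      exact vanish_of_commutator hθ (h := k) (z := a) (t.W₂_center_top hZ ha)
        (hk.trans (t.W₂_center_top hZ ha x)) hane
  obtain ⟨u, hu, huW⟩ := SetLike.exists_of_lt (lt_of_le_of_ne hW (Ne.symm hne))
  have hw0 : (Nat.card W₁ : ℂ) * e₀ ≠ 0 :=
    mul_ne_zero (Nat.cast_ne_zero.mpr Nat.card_pos.ne') (Nat.cast_ne_zero.mpr he₀.ne')
  have hconst : ∀ x ∈ R, x ∉ W₂ → f x = f u := fun x hx hxW => by
    by_cases hxu : x = u
    · rw [hxu]
    have h := layer_weighted K W₂ R hW hRK hirr hfcl w hdeg hrel {x, u} (fun y => if y = x then 1 else -1)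
      fun θ hθ hnot => by
        rw [Finset.sum_pair hxu, if_pos rfl, if_neg (Ne.symm hxu)]
        rcases hout θ hθ hnot with ⟨a, ha, hane⟩ | h
        · rw [hvan θ hθ a ha hane x hx hxW, hvan θ hθ a ha hane u hu huW]; ring
        · rw [h x hx, h u hu]; ring
    rw [Finset.sum_pair hxu, Finset.sum_pair hxu, if_pos rfl, if_neg (Ne.symm hxu), if_neg hxW, if_neg huW,
      if_pos hx, if_pos hu] at h
    have h' : (f x - f u) * ((Nat.card W₁ : ℂ) * e₀) = 0 := by linear_combination h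
    exact sub_eq_zero.mp ((mul_eq_zero.mp h').resolve_right hw0)
  set Wf := (Finset.univ : Finset M).filter (fun z => z ∈ W₂) with hWf
  have huWf : u ∉ Wf := fun h => huW (Finset.mem_filter.mp h).2
  have hcardW : Wf.card = p := by
    rw [hWf, ← Fintype.card_subtype, ← Nat.card_eq_fintype_card]
    exact t.card₂
  have hneu : ∀ z ∈ Wf, z ≠ u := fun z hz e => huWf (e ▸ hz)
  have hval := layer_weighted K W₂ R hW hRK hirr hfcl w hdeg hrel (insert u Wf)
    (fun y => if y = u then -(p : ℂ) else 1) fun θ hθ hnot => by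
      rw [Finset.sum_insert huWf, if_pos rfl,
        Finset.sum_congr rfl fun z hz => by rw [if_neg (hneu z hz), one_mul]]
      rcases hout θ hθ hnot with ⟨a, ha, hane⟩ | h
      · rw [hvan θ hθ a ha hane u hu huW]
        have e : θ a * ∑ z ∈ Wf, θ z = θ 1 * ∑ z ∈ Wf, θ z := by
          rw [Finset.mul_sum, Finset.mul_sum]
          refine Finset.sum_bij (fun z _ => a * z) (fun z hz => ?_) (fun x _ y _ e => mul_left_cancel e)
            (fun y hy => ⟨a⁻¹ * y, ?_, by group⟩) (fun z _ => ?_)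
          · exact Finset.mem_filter.mpr ⟨Finset.mem_univ _, W₂.mul_mem ha (Finset.mem_filter.mp hz).2⟩
          · exact Finset.mem_filter.mpr ⟨Finset.mem_univ _, W₂.mul_mem (W₂.inv_mem ha) (Finset.mem_filter.mp hy).2⟩
          · rw [mul_comm (θ 1), irr_central_mul hθ (t.W₂_center_top hZ ha)]
        have e' : ∑ z ∈ Wf, θ z = 0 := by
          by_contra h0
          exact hane (mul_right_cancel₀ h0 e)
        rw [e']; ring
      · rw [h u hu, Finset.sum_congr rfl fun z hz => h z (hW (Finset.mem_filter.mp hz).2), Finset.sum_const,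
          hcardW, nsmul_eq_mul]
        ring
  have hidx : (W₂.index : ℂ) = (Nat.card W₁ : ℂ) * (W₂.relIndex K : ℂ) := by
    rw [← Subgroup.relIndex_mul_index d.prime.le_kernel, d.prime.index_eq]
    push_cast; ring
  rw [Finset.sum_insert huWf, Finset.sum_insert huWf, if_pos rfl,
    Finset.sum_congr rfl fun z hz => show (if z = u then -(p : ℂ) else 1) * f z = f z by
      rw [if_neg (hneu z hz), one_mul],
    Finset.sum_congr rfl fun z hz => show (if z = u then -(p : ℂ) else 1) *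
        ((if z ∈ W₂ then (W₂.index : ℂ) else 0) - (if z ∈ R then (R.index : ℂ) else 0)) =
          (W₂.index : ℂ) - R.index by
      rw [if_neg (hneu z hz), one_mul, if_pos (Finset.mem_filter.mp hz).2,
        if_pos (hW (Finset.mem_filter.mp hz).2)],
    Finset.sum_const, hcardW, nsmul_eq_mul, if_neg huW, if_pos hu] at hval
  obtain ⟨s, hs, hcg⟩ := t.upper_congruence hZ hR hW hcom hη hu huW hconst
  rw [← hWf, ← Subgroup.card_mul_index (W₂.subgroupOf K),
    Nat.card_congr (Subgroup.subgroupOfEquivOfLe d.prime.le_kernel).toEquiv, t.card₂] at hcg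
  change (((p * Nat.card W₁ : ℕ) : ℂ)) * ((∑ z ∈ Wf, f z) - (p : ℂ) * f u) =
    ((p * W₂.relIndex K : ℕ) : ℂ) * s at hcg
  push_cast at hcg
  have hI0 : (W₂.relIndex K : ℂ) * (p : ℂ) * (Nat.card W₁ : ℂ) ≠ 0 :=
    mul_ne_zero (mul_ne_zero (Nat.cast_ne_zero.mpr Subgroup.index_ne_zero_of_finite)
      (Nat.cast_ne_zero.mpr t.hp.ne_zero)) (Nat.cast_ne_zero.mpr Nat.card_pos.ne')
  have key : (((p * Nat.card W₁ : ℕ) * n₀ : ℤ) : ℂ) = ((e₀ : ℤ) : ℂ) * s := by
    refine mul_left_cancel₀ hI0 ?_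
    push_cast
    linear_combination (Nat.card W₁ : ℂ) * e₀ * hcg - (p : ℂ) * (Nat.card W₁ : ℂ) * hval -
      ((p : ℂ) * (p : ℂ) * (Nat.card W₁ : ℂ) * (n₀ : ℂ)) * hidx
  have hdvd : (e₀ : ℤ) ∣ (Nat.card W₁ : ℤ) * (p * n₀) := by
    have h := dvd_of_integral_mul (by exact_mod_cast he₀.ne') hs key
    push_cast at h
    rwa [mul_assoc, mul_left_comm] at h
  refine IsCoprime.dvd_of_dvd_mul_left ?_ hdvd
  obtain ⟨m, rfl⟩ := he₀p
  rw [Int.isCoprime_iff_gcd_eq_one, Int.gcd_natCast_natCast]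
  exact (t.coprime_w.pow_right m).symm

variable (hmax : ∀ x ∈ ⁅K, K⁆, (∀ y ∈ K, x * y * x⁻¹ * y⁻¹ ∈ W₂) → x ∈ R) (hcl : ¬ ⁅K, K⁆ ≤ W₂)
include hmax hcl

set_option maxHeartbeats 800000 in
open Classical in
/-- **C3.** Outside the exceptional configuration the linear family and the layer are coherent together. -/
theorem layer_union_coherent
    (hexc : ⁅K, K⁆.relIndex K = 27 →
      ∃ b : W₂ →* ℂˣ, b ≠ 1 ∧ d.prime.colChar b 1 ^ 2 ≠ (W₂.relIndex K : ℂ)) :
    IsCoherent (↑(layerFin K W₂ R) ∪ ↑(layerFin K ⁅K, K⁆ K) : Set (M → ℂ)) {1}ᶜ d.tau := by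
  haveI := d.prime.normal
  haveI := Fact.mk t.hp
  haveI := t.nilK
  haveI := t.W₂_normal hZ
  haveI := Fintype.ofFinite (W₁ →* ℂˣ)
  haveI := Fintype.ofFinite (W₂ →* ℂˣ)
  obtain ⟨RS, hRS, horthR⟩ := d.exists_system
  obtain ⟨a, ha⟩ := t.exists_card
  have hRK : R ≤ K := hR.trans t.derived_lt.le
  have hWR : W₂ < R := lt_of_le_of_ne hW (Ne.symm hne)
  set X := layerFin K W₂ R with hXdef
  set Y := layerFin K ⁅K, K⁆ K with hYdef
  have hirrX : ∀ φ ∈ X, IsIrrCharacter M φ := t.irr_layer_of_W₂_le le_rfl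
  obtain ⟨-, σ, hσ, hσα⟩ := coherent_layer K W₂ R hRS t.two_lt ha t.coprime_index hWR hRK hcom hirrX
  obtain ⟨-, τ₁, hτ₁, hτα⟩ := coherent_above_derived K inferInstance hRS ⁅K, K⁆ le_rfl t.derived_lt
  rw [← coe_layerFin_top] at hτ₁ hτα
  have hXS : ↑X ⊆ inducedIrrAbove K (⊥ : Subgroup M) := fun φ hφ =>
    inducedIrrAbove_subset K W₂ (mem_layerFin.mp hφ).1
  have hYS : ↑Y ⊆ inducedIrrAbove K (⊥ : Subgroup M) := fun φ hφ =>
    inducedIrrAbove_subset K _ (mem_layerFin_top.mp hφ)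
  have hYz : ∀ φ ∈ Y, IsTenZeta d φ := fun φ hφ => t.isTenZeta (mem_layerFin_top.mp hφ)
  have hdisj : Disjoint X Y := Finset.disjoint_left.mpr fun φ hX hY =>
    (mem_layerFin.mp hX).2 (inducedIrrAbove_antitone K hR (mem_layerFin_top.mp hY))
  have hirr : ∀ φ ∈ X ∪ Y, IsIrrCharacter M φ := fun φ hφ =>
    (Finset.mem_union.mp hφ).elim (hirrX φ) fun h => (hYz φ h).irr
  obtain ⟨χ, hχ, w, he₀, hwχ, hw⟩ := t.exists_least hXS (layer_nonempty K W₂ R hWR hRK hirrX)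
  set e₀ := degQ W₁ χ with he₀def
  obtain ⟨ζ, hζ⟩ : Y.Nonempty := layer_nonempty K ⁅K, K⁆ K t.derived_lt le_rfl fun φ hφ => (hYz φ hφ).irr
  have hηs : IsSignedIrr (τ₁ ζ) := signed_image (fun φ hφ => (hYz φ hφ).irr) hτ₁ hζ
  have hXY : ∀ φ ∈ X, ∀ ξ ∈ Y, classInner (σ φ) (τ₁ ξ) = 0 := fun φ hφ ξ hξ =>
    pieces_orthogonal hRS hXS hYS (Finset.disjoint_coe.mpr hdisj) (fun ξ hξ => hirr ξ (Finset.mem_union.mpr hξ))
      (fun ξ hξ => conj_mem_layerFin hξ) (fun ξ hξ => conj_mem_layerFin hξ) hσ hσα hτ₁ hτα φ hφ ξ hξ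
  have hwd : ∀ φ ∈ X, φ 1 = ((Nat.card W₁ : ℂ) * e₀) * w φ := fun φ hφ => (hw φ hφ).2.2
  have hY1 : ∀ ξ ∈ Y, ξ 1 = ((Nat.card W₁ : ℕ) : ℂ) := fun ξ hξ => (hYz ξ hξ).deg
  have hβ : χ - (e₀ : ℤ) • ζ ∈ zspanOn (inducedIrrAbove K (⊥ : Subgroup M)) {1}ᶜ :=
    ⟨Submodule.sub_mem _ (Submodule.subset_span (hXS hχ)) (Submodule.smul_mem _ _ (Submodule.subset_span (hYS hζ))),
      fun x hx => by
        rw [show x = 1 by simpa using hx, Pi.sub_apply, Pi.smul_apply, hwd χ hχ, hY1 ζ hζ, hwχ, zsmul_eq_mul]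
        push_cast; ring⟩
  have hβs : d.Supported (χ - (e₀ : ℤ) • ζ) := d.supported_of_zspanOn hβ
  set β := d.tau (χ - (e₀ : ℤ) • ζ) with hβdef
  have hβg : IsGeneralizedCharacter G β := hRS.isometry.2.2.2 _ hβ
  obtain ⟨c, hc⟩ := classInner_genChar_int hβg (hτ₁.2.2.2 _ (Submodule.subset_span hζ))
  -- C2
  set f : M → ℂ := fun x => τ₁ ζ x with hf
  have hηg := hτ₁.2.2.2 ζ (Submodule.subset_span hζ)
  have hfgen : IsGeneralizedCharacter M f := by
    obtain ⟨c1, c2, h1, h2, e⟩ := hηg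
    exact ⟨_, _, isCharacter_restrict h1 M, isCharacter_restrict h2 M, by funext x; show τ₁ ζ x = _; rw [e]; rfl⟩
  obtain ⟨n₀, hn₀⟩ := classInner_genChar_int (isGenChar_of_char (isCharacter_of_irr (hirrX χ hχ))) hfgen
  obtain ⟨q₀, hq₀⟩ := classInner_genChar_int (isGenChar_of_char (isCharacter_of_irr (hYz ζ hζ).irr)) hfgen
  have hcsplit : c = n₀ - e₀ * q₀ := by
    obtain ⟨hg, hz0⟩ := d.span_zero_off hβ.1
    have h := hc
    rw [hβdef, t.tau_reciprocity (isGenChar_iff_coeff_int.mp hg).1 hz0 (hβ.2 1 fun e => e rfl)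
      (isGenChar_iff_coeff_int.mp hηg).1] at h
    simp only [classInner_sub_left, ← Int.cast_smul_eq_zsmul ℂ, classInner_smul_left] at h
    rw [show classInner χ (fun x : M => τ₁ ζ x) = n₀ from hn₀,
      show classInner ζ (fun x : M => τ₁ ζ x) = q₀ from hq₀] at h
    have : ((c : ℤ) : ℂ) = ((n₀ - e₀ * q₀ : ℤ) : ℂ) := by push_cast at h ⊢; linear_combination -h
    exact_mod_cast this
  have hpc : (e₀ : ℤ) ∣ p * c := by
    rw [hcsplit, mul_sub]
    exact dvd_sub (t.layer_coeff_dvd hZ hR hW hcom hne hσ hσα w he₀ hwd (t.degQ_spec (hXS hχ)).2 hχ hwχ hηs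
      (fun φ hφ => hXY φ hφ ζ hζ) hn₀) ((dvd_mul_right _ _).mul_left _)
  refine two_piece_coherent hRS hXS hYS hdisj hirr (fun φ h => conj_mem_layerFin h)
    (fun φ h => conj_mem_layerFin h) hσ hσα hτ₁ hτα hχ hζ Nat.card_pos he₀ w (fun ξ hξ => (hw ξ hξ).2.2)
    (fun ξ hξ => (hw ξ hξ).1) hwχ hY1 hc ?_
  -- the counts
  obtain ⟨bN, hbN⟩ := t.relIndex_pow ⁅K, K⁆
  have hb3 := t.three_le_exponent hZ hcl hbN
  have hN := t.linear_count
  have hup := t.upper_relIndex hZ hR hW hcom hmax hne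
  have hI : W₂.relIndex K = ⁅K, K⁆.relIndex K * R.relIndex K := by
    rw [← Subgroup.relIndex_mul_relIndex W₂ R K hW hRK, hup]
  have hQ : (∑ φ ∈ X, w φ ^ 2) * e₀ ^ 2 * Nat.card W₁ + R.relIndex K = ⁅K, K⁆.relIndex K * R.relIndex K := by
    rw [← hI, ← t.layer_count W₂ R hW hRK hirrX, Finset.sum_mul, Finset.sum_congr rfl fun φ hφ =>
      show w φ ^ 2 * e₀ ^ 2 = degQ W₁ φ ^ 2 by rw [(hw φ hφ).2.1]; ring]
  -- a suitable column
  obtain ⟨b, hb, hbne⟩ : ∃ b : W₂ →* ℂˣ, b ≠ 1 ∧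
      (⁅K, K⁆.relIndex K = 27 → d.prime.colChar b 1 ^ 2 ≠ (W₂.relIndex K : ℂ)) := by
    by_cases h27 : ⁅K, K⁆.relIndex K = 27
    · obtain ⟨b, hb, hbne⟩ := hexc h27
      exact ⟨b, hb, fun _ => hbne⟩
    · obtain ⟨b, hb⟩ : ∃ b : W₂ →* ℂˣ, b ≠ 1 :=
        Fintype.exists_ne_of_one_lt_card (by have := d.three_le_hom₂; omega) 1
      exact ⟨b, hb, fun h => absurd h h27⟩
  obtain ⟨δ, n, k, hδ1, hδ, hdegb, hen, hn2, hk1, hpn⟩ := t.exists_params' hb
  have hcol : IsCol d b δ n (p ^ k) := ⟨hb, hδ1, hδ, hdegb, hen, hn2⟩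
  have he2 := t.col_deg_sq_le hZ hdegb
  have hsmall : ⁅K, K⁆.relIndex K = 27 → (p ^ k) ^ 2 ≤ R.relIndex K := by
    intro h27
    have hneI : (p ^ k) ^ 2 ≠ W₂.relIndex K := fun e => hbne h27 (by rw [hdegb, ← e]; push_cast; ring)
    obtain ⟨i, hi⟩ := t.relIndex_pow W₂
    have hp3 : p = 3 := by
      have h3 : p ∣ 3 ^ 3 := by
        rw [show 3 ^ 3 = ⁅K, K⁆.relIndex K by rw [h27]; norm_num, hbN]
        exact dvd_pow_self p (by omega)
      exact (Nat.prime_dvd_prime_iff_eq t.hp Nat.prime_three).mp (t.hp.dvd_of_dvd_pow h3)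
    have hw13 : Nat.card W₁ = 13 := by
      rw [h27] at hN
      have h26 : Nat.card W₁ ∣ 26 := Dvd.intro_left Y.card (by rw [hYdef]; omega)
      have hle := Nat.le_of_dvd (by norm_num) h26
      have h3 := d.prime.three_le₁
      have hodd := Nat.odd_iff.mp d.prime.odd₁
      have hmem : Nat.card W₁ ∈ Nat.divisors 26 := Nat.mem_divisors.mpr ⟨h26, by norm_num⟩
      rw [show Nat.divisors 26 = {1, 2, 13, 26} by decide] at hmem
      simp only [Finset.mem_insert, Finset.mem_singleton] at hmem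
      omega
    rw [hp3, ← pow_mul] at he2 hneI ⊢
    rw [hi, hp3] at he2 hneI
    have hlt : k * 2 < i := lt_of_le_of_ne ((Nat.pow_le_pow_iff_right (by norm_num)).mp he2)
      fun e => hneI (by rw [e])
    obtain ⟨j, rfl⟩ : ∃ j, i = k * 2 + j := ⟨i - k * 2, by omega⟩
    -- `3 ^ j ≡ 1` modulo 13
    have hcnt := t.layer_count W₂ K d.prime.le_kernel le_rfl (t.irr_layer_of_W₂_le le_rfl)
    rw [Subgroup.relIndex_self, hi, hp3, hw13] at hcnt
    have he13 : ((3 ^ k : ℕ) : ℤ) = δ + n * 13 := by rw [← hp3, hen, hw13]; rfl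
    have h13 : (13 : ℤ) ∣ ((3 ^ (k * 2) : ℕ) : ℤ) - 1 := by
      refine ⟨n * (2 * δ + 13 * n), ?_⟩
      push_cast at he13 ⊢
      rw [pow_mul, he13]
      linear_combination hδ1
    have h13' : (13 : ℤ) ∣ ((3 ^ (k * 2) : ℕ) : ℤ) * ((3 ^ j : ℕ) : ℤ) - 1 :=
      ⟨((∑ φ ∈ layerFin K W₂ K, degQ W₁ φ ^ 2 : ℕ) : ℤ), by
        have := congrArg (Nat.cast (R := ℤ)) hcnt
        rw [pow_add] at this
        push_cast at this ⊢
        linear_combination -this⟩
    have hj : (13 : ℤ) ∣ ((3 ^ j : ℕ) : ℤ) - 1 := by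
      have := dvd_sub h13' (h13.mul_right ((3 ^ j : ℕ) : ℤ))
      rwa [show ((3 ^ (k * 2) : ℕ) : ℤ) * ((3 ^ j : ℕ) : ℤ) - 1 - (((3 ^ (k * 2) : ℕ) : ℤ) - 1) * ((3 ^ j : ℕ) : ℤ) =
        ((3 ^ j : ℕ) : ℤ) - 1 by ring] at this
    have hj3 : 3 ≤ j := by
      by_contra hlt3
      obtain rfl | rfl : j = 1 ∨ j = 2 := by omega
      · norm_num at hj
      · norm_num at hj
    have h27' : (3 : ℕ) ^ 3 ≤ 3 ^ j := Nat.pow_le_pow_right (by norm_num) hj3
    rw [hi, hp3, h27, pow_add] at hI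
    have := Nat.mul_le_mul_left (3 ^ (k * 2)) h27'
    omega
  -- C3
  choose T hT using fun x y => classInner_genChar_int hβg (d.eta_gen x y)
  have hXg := alphaImg_gen (hYz ζ hζ) hcol
  choose U hU using fun x y => classInner_genChar_int (hXg 1) (d.eta_gen x y)
  obtain ⟨a', ha'⟩ := classInner_genChar_int (hXg 1) hηg
  obtain ⟨bχ, hbχ⟩ := classInner_genChar_int hβg (hσ.2.2.2 χ (Submodule.subset_span hχ))
  obtain ⟨xχ, hxχ⟩ := classInner_genChar_int (hXg 1) (hσ.2.2.2 χ (Submodule.subset_span hχ))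
  set A := d.tenAlpha 1 b δ n ζ with hAdef
  set Xi := alphaImg d 1 b δ n ζ with hXidef
  have hAs := alpha_supp (hYz ζ hζ) hcol 1
  have hAY : ∀ ξ ∈ Y, classInner A ξ = if ξ = ζ then -(n : ℂ) else 0 := fun ξ hξ => by
    by_cases h : ξ = ζ
    · rw [if_pos h, h, hAdef, d.alpha_inner_zeta (hYz ζ hζ)]
    · rw [if_neg h, hAdef, TenData.tenAlpha, classInner_sub_left, classInner_sub_left, classInner_smul_left,
        classInner_smul_left, d.mu_inner_zeta (hYz ξ hξ), d.mu_inner_zeta (hYz ξ hξ),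
        classInner_irr_ne (hYz ζ hζ).irr (hYz ξ hξ).irr (Ne.symm h)]
      ring
  have hmuX : ∀ φ ∈ X, ∀ x y, classInner (d.prime.mu (d.prime.row x * d.prime.col y)) φ = 0 := fun φ hφ x y => by
    obtain ⟨θ, hθ, h1, h2, e⟩ := (mem_layerFin.mp hφ).1
    refine classInner_irr_ne (d.prime.isIrr_mu _) (hirrX φ hφ) fun e' => ?_
    rw [e] at e'
    exact d.prime.indFun_ne_mu hθ (t.ne_colChar h1 h2) _ e'.symm
  have hAX : ∀ φ ∈ X, classInner A φ = 0 := fun φ hφ => by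
    rw [hAdef, TenData.tenAlpha, classInner_sub_left, classInner_sub_left, classInner_smul_left,
      classInner_smul_left, hmuX φ hφ, hmuX φ hφ, classInner_irr_ne (hYz ζ hζ).irr (hirrX φ hφ)
        fun e => Finset.disjoint_left.mp hdisj hφ (e ▸ hζ)]
    ring
  have hXY0 : ∀ φ ∈ X, ∀ ξ ∈ Y, classInner φ ξ = 0 := fun φ hφ ξ hξ =>
    classInner_irr_ne (hirrX φ hφ) (hYz ξ hξ).irr fun e => Finset.disjoint_left.mp hdisj hφ (e ▸ hξ)
  have hYX0 : ∀ φ ∈ X, ∀ ξ ∈ Y, classInner ξ φ = 0 := fun φ hφ ξ hξ => by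
    rw [← classInner_comm, hXY0 φ hφ ξ hξ, map_zero]
  -- the coefficients of `β` and `X_i`
  have hstepY : ∀ ξ ∈ Y, classInner β (τ₁ ξ) = ((c + (if ξ = ζ then 0 else e₀ : ℕ) : ℤ) : ℂ) ∧
      classInner Xi (τ₁ ξ) = ((a' + (if ξ = ζ then 0 else n) : ℤ) : ℂ) := by
    intro ξ hξ
    by_cases h : ξ = ζ
    · rw [h, if_pos rfl, if_pos rfl, hc, ha']; simp
    rw [if_neg h, if_neg h]
    have hm : ξ - ζ ∈ zspanOn ↑Y {1}ᶜ :=
      ⟨Submodule.sub_mem _ (Submodule.subset_span hξ) (Submodule.subset_span hζ), fun x hx => by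
        rw [show x = 1 by simpa using hx, Pi.sub_apply, hY1 ξ hξ, hY1 ζ hζ, sub_self]⟩
    have hms : d.Supported (ξ - ζ) := d.supported_of_zspanOn ⟨Submodule.span_mono hYS hm.1, hm.2⟩
    have himg : d.tau (ξ - ζ) = τ₁ ξ - τ₁ ζ := by
      rw [← hτα _ hm, Found.isometryOn_sub hτ₁ (Submodule.subset_span hξ) (Submodule.subset_span hζ)]
    have h1 := d.tau_inner hβs hms
    have h2 := d.tau_inner hAs hms
    rw [← hβdef, himg] at h1
    rw [show d.tau (d.tenAlpha 1 b δ n ζ) = Xi from rfl, himg] at h2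
    simp only [← Int.cast_smul_eq_zsmul ℂ, classInner_sub_left, classInner_sub_right, classInner_smul_left, hc,
      hXY0 χ hχ ξ hξ, hXY0 χ hχ ζ hζ, classInner_irr_self (hYz ζ hζ).irr,
      classInner_irr_ne (hYz ζ hζ).irr (hYz ξ hξ).irr (Ne.symm h)] at h1
    simp only [classInner_sub_right, ha', ← hAdef, hAY ξ hξ, hAY ζ hζ, if_neg h, if_pos] at h2
    push_cast at h1 ⊢
    exact ⟨by linear_combination h1, by linear_combination h2⟩
  have hstepX : ∀ φ ∈ X,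
      classInner β (σ φ) = (((w φ : ℤ) * (bχ - 1) + (if φ = χ then 1 else 0) : ℤ) : ℂ) ∧
      classInner Xi (σ φ) = (((w φ : ℤ) * xχ : ℤ) : ℂ) := by
    intro φ hφ
    have hm : φ - (w φ : ℤ) • χ ∈ zspanOn ↑X {1}ᶜ :=
      ⟨Submodule.sub_mem _ (Submodule.subset_span hφ) (Submodule.smul_mem _ _ (Submodule.subset_span hχ)),
        fun x hx => by
          rw [show x = 1 by simpa using hx, Pi.sub_apply, Pi.smul_apply, hwd φ hφ, hwd χ hχ, hwχ, zsmul_eq_mul]
          push_cast; ring⟩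
    have hms : d.Supported (φ - (w φ : ℤ) • χ) := d.supported_of_zspanOn ⟨Submodule.span_mono hXS hm.1, hm.2⟩
    have himg : d.tau (φ - (w φ : ℤ) • χ) = σ φ - (w φ : ℂ) • σ χ := by
      rw [← hσα _ hm, Found.isometryOn_sub hσ (Submodule.subset_span hφ)
        (Submodule.smul_mem _ _ (Submodule.subset_span hχ)), hσ.2.1 _ (Submodule.subset_span hχ),
        ← Int.cast_smul_eq_zsmul ℂ, Int.cast_natCast]
    have h1 := d.tau_inner hβs hms
    have h2 := d.tau_inner hAs hms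
    rw [← hβdef, himg] at h1
    rw [show d.tau (d.tenAlpha 1 b δ n ζ) = Xi from rfl, himg] at h2
    simp only [← Int.cast_smul_eq_zsmul ℂ, classInner_sub_right, classInner_smul_right, Int.cast_natCast,
      map_natCast, hxχ, ← hAdef, hAX φ hφ, hAX χ hχ] at h2
    simp only [← Int.cast_smul_eq_zsmul ℂ, classInner_sub_left, classInner_sub_right, classInner_smul_left,
      classInner_smul_right, Int.cast_natCast, map_natCast, hbχ, hYX0 φ hφ ζ hζ, hYX0 χ hχ ζ hζ,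
      classInner_irr_self (hirrX χ hχ)] at h1
    rw [classInner_irr (hirrX χ hχ) (hirrX φ hφ)] at h1
    refine ⟨?_, by push_cast; linear_combination h2⟩
    by_cases h : φ = χ
    · subst h
      rw [if_pos rfl] at h1 ⊢
      push_cast
      linear_combination h1
    · rw [if_neg (Ne.symm h)] at h1
      rw [if_neg h]
      push_cast
      linear_combination h1
  -- the norm of `n β - e₀ X_i`
  set Φ := (n : ℂ) • β - (e₀ : ℂ) • Xi with hΦ
  have hAA : classInner Xi Xi = ((2 + n ^ 2 : ℤ) : ℂ) := alphaImg_norm (hYz ζ hζ) hcol 1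
  have hββ : classInner β β = ((1 + (e₀ : ℤ) ^ 2 : ℤ) : ℂ) := by
    rw [hβdef, d.tau_inner hβs hβs]
    simp only [← Int.cast_smul_eq_zsmul ℂ, classInner_sub_left, classInner_sub_right, classInner_smul_left,
      classInner_smul_right, map_intCast, classInner_irr_self (hirrX χ hχ), classInner_irr_self (hYz ζ hζ).irr,
      hXY0 χ hχ ζ hζ, hYX0 χ hχ ζ hζ]
    push_cast; ring
  have hAβ : classInner Xi β = (((e₀ : ℤ) * n : ℤ) : ℂ) := by
    rw [hXidef, alphaImg, hβdef, d.tau_inner hAs hβs]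
    simp only [← Int.cast_smul_eq_zsmul ℂ, classInner_sub_right, classInner_smul_right, map_intCast, ← hAdef,
      hAX χ hχ, hAY ζ hζ, if_pos]
    push_cast; ring
  have hβA : classInner β Xi = (((e₀ : ℤ) * n : ℤ) : ℂ) := by rw [← classInner_comm, hAβ, map_intCast]
  have hΦΦ : classInner Φ Φ = ((n ^ 2 + 2 * (e₀ : ℤ) ^ 2 : ℤ) : ℂ) := by
    simp only [hΦ, classInner_sub_left, classInner_sub_right, classInner_smul_left, classInner_smul_right,
      map_intCast, map_natCast, hAA, hββ, hAβ, hβA]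
    push_cast; ring
  set D : ℤ := n * (c + e₀) - e₀ * (a' + n) with hD
  set Gc : ℤ := n * (bχ - 1) - e₀ * xχ with hGc
  let F : (W₁ →* ℂˣ) × (W₂ →* ℂˣ) ⊕ (Y ⊕ X) → G → ℂ :=
    Sum.elim (fun z => d.eta z.1 z.2) (Sum.elim (fun ξ => τ₁ (ξ : M → ℂ)) (fun φ => σ (φ : M → ℂ)))
  let g : (W₁ →* ℂˣ) × (W₂ →* ℂˣ) ⊕ (Y ⊕ X) → ℤ :=
    Sum.elim (fun z => n * T z.1 z.2 - e₀ * U z.1 z.2) (Sum.elim (fun _ => D)
      (fun φ => (w (φ : M → ℂ) : ℤ) * Gc + if (φ : M → ℂ) = χ then n else 0))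
  have hFo : ∀ z z', classInner (F z) (F z') = @ite ℂ (z = z') (Classical.propDecidable _) 1 0 := by
    have oY : ∀ (x : W₁ →* ℂˣ) y (ξ : Y), classInner (τ₁ (ξ : M → ℂ)) (d.eta x y) = 0 := fun x y ξ =>
      image_orth_eta hRS horthR hYS (fun _ h => conj_mem_layerFin h) hτ₁ hτα ξ.2 (hYz _ ξ.2).irr x y
    have oX : ∀ (x : W₁ →* ℂˣ) y (φ : X), classInner (σ (φ : M → ℂ)) (d.eta x y) = 0 := fun x y φ =>
      image_orth_eta hRS horthR hXS (fun _ h => conj_mem_layerFin h) hσ hσα φ.2 (hirrX _ φ.2) x y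
    rintro (⟨x, y⟩ | u | u) (⟨x', y'⟩ | u' | u')
    · simp [F, d.eta_orth, Prod.ext_iff]
    · show classInner (d.eta x y) (τ₁ (u' : M → ℂ)) = _
      rw [← classInner_comm, oY, map_zero]; simp
    · show classInner (d.eta x y) (σ (u' : M → ℂ)) = _
      rw [← classInner_comm, oX, map_zero]; simp
    · show classInner (τ₁ (u : M → ℂ)) (d.eta x' y') = _
      rw [oY]; simp
    · show classInner (τ₁ (u : M → ℂ)) (τ₁ (u' : M → ℂ)) = _
      rw [hτ₁.2.2.1 _ (Submodule.subset_span u.2) _ (Submodule.subset_span u'.2),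
        classInner_irr (hYz _ u.2).irr (hYz _ u'.2).irr]
      by_cases hu : u = u'
      · subst hu; rw [if_pos rfl, if_pos rfl]
      · rw [if_neg fun e => hu (Subtype.ext e), if_neg fun e => hu (Sum.inl.inj (Sum.inr.inj e))]
    · show classInner (τ₁ (u : M → ℂ)) (σ (u' : M → ℂ)) = _
      rw [← classInner_comm, hXY _ u'.2 _ u.2, map_zero]; simp
    · show classInner (σ (u : M → ℂ)) (d.eta x' y') = _
      rw [oX]; simp
    · show classInner (σ (u : M → ℂ)) (τ₁ (u' : M → ℂ)) = _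
      rw [hXY _ u.2 _ u'.2]; simp
    · show classInner (σ (u : M → ℂ)) (σ (u' : M → ℂ)) = _
      rw [hσ.2.2.1 _ (Submodule.subset_span u.2) _ (Submodule.subset_span u'.2),
        classInner_irr (hirrX _ u.2) (hirrX _ u'.2)]
      by_cases hu : u = u'
      · subst hu; rw [if_pos rfl, if_pos rfl]
      · rw [if_neg fun e => hu (Subtype.ext e), if_neg fun e => hu (Sum.inr.inj (Sum.inr.inj e))]
  have hg : ∀ z, classInner Φ (F z) = g z := by
    rintro (⟨x, y⟩ | ξ | φ)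
    · show classInner Φ (d.eta x y) = ((n * T x y - e₀ * U x y : ℤ) : ℂ)
      rw [hΦ, classInner_sub_left, classInner_smul_left, classInner_smul_left, hT, hU]
      push_cast; ring
    · show classInner Φ (τ₁ (ξ : M → ℂ)) = (D : ℂ)
      rw [hΦ, classInner_sub_left, classInner_smul_left, classInner_smul_left, (hstepY _ ξ.2).1, (hstepY _ ξ.2).2, hD]
      by_cases h : (ξ : M → ℂ) = ζ <;> simp only [h, if_true, if_false] <;> push_cast <;> ring
    · show classInner Φ (σ (φ : M → ℂ)) =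
        (((w (φ : M → ℂ) : ℤ) * Gc + if (φ : M → ℂ) = χ then n else 0 : ℤ) : ℂ)
      rw [hΦ, classInner_sub_left, classInner_smul_left, classInner_smul_left, (hstepX _ φ.2).1, (hstepX _ φ.2).2, hGc]
      by_cases h : (φ : M → ℂ) = χ <;> simp only [h, if_true, if_false] <;> push_cast <;> ring
  obtain ⟨hle, -⟩ := bessel_int hFo hg hΦΦ
  set QX : ℤ := ((∑ φ ∈ X, w φ ^ 2 : ℕ) : ℤ) with hQX
  have hsum : ∑ z, g z ^ 2 = (∑ x, ∑ y, (n * T x y - e₀ * U x y) ^ 2) +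
      ((Y.card : ℤ) * D ^ 2 + (QX * Gc ^ 2 + 2 * n * Gc + n ^ 2)) := by
    rw [Fintype.sum_sum_type, Fintype.sum_sum_type, Fintype.sum_prod_type]
    congr 2
    · show ∑ _ξ : Y, D ^ 2 = _
      rw [Finset.sum_const, Finset.card_univ, Fintype.card_coe, nsmul_eq_mul]
    · show ∑ φ : X, ((w (φ : M → ℂ) : ℤ) * Gc + if (φ : M → ℂ) = χ then n else 0) ^ 2 = _
      rw [Finset.sum_coe_sort X (fun φ => ((w φ : ℤ) * Gc + if φ = χ then n else 0) ^ 2), hQX,
        ← Finset.add_sum_erase _ _ hχ, if_pos rfl, ← Finset.add_sum_erase X (fun φ => w φ ^ 2) hχ, hwχ,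
        Finset.sum_congr rfl fun φ hφ => show ((w φ : ℤ) * Gc + if φ = χ then n else 0) ^ 2 =
          ((w φ : ℤ) ^ 2) * Gc ^ 2 by rw [if_neg (Finset.ne_of_mem_erase hφ), add_zero, mul_pow],
        ← Finset.sum_mul]
      push_cast; ring
  rw [hsum] at hle
  -- the table
  have hcorner : ∀ x, x ≠ 1 → (n * T x b - e₀ * U x b) - (n * T x 1 - e₀ * U x 1) =
      ((n * T 1 b - e₀ * U 1 b) - (n * T 1 1 - e₀ * U 1 1)) + 2 * (δ * e₀) := by
    intro x hx
    have h1 := alphaImg_corner (hYz ζ hζ) hcol 1 x hx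
    simp only [← hXidef, hU] at h1
    have h2 := d.eta_additive (isGenChar_iff_coeff_int.mp hβg).1
      (fun v hv => d.tau_zero_inV hβ hv) 1 x b 1
    simp only [hT] at h2
    have h1' : U 1 b - U 1 1 - U x b + U x 1 = 2 * δ := by exact_mod_cast h1
    have h2' : T 1 b + T x 1 = T 1 1 + T x b := by exact_mod_cast h2
    linear_combination -n * h2' + (e₀ : ℤ) * h1'
  set V := (n * T 1 b - e₀ * U 1 b) - (n * T 1 1 - e₀ * U 1 1) with hV
  have hrow : ∀ x, (if x = 1 then V ^ 2 else (V + 2 * (δ * e₀)) ^ 2) ≤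
      2 * ∑ y, (n * T x y - e₀ * U x y) ^ 2 := fun x => by
    have h : ∑ y ∈ ({b, 1} : Finset (W₂ →* ℂˣ)), (n * T x y - e₀ * U x y) ^ 2 ≤
        ∑ y, (n * T x y - e₀ * U x y) ^ 2 :=
      Finset.sum_le_sum_of_subset_of_nonneg (Finset.subset_univ _) fun y _ _ => sq_nonneg _
    rw [Finset.sum_pair hb] at h
    by_cases hx : x = 1
    · rw [if_pos hx, hV]
      subst hx
      linarith [sq_nonneg ((n * T 1 b - e₀ * U 1 b) + (n * T 1 1 - e₀ * U 1 1))]
    · rw [if_neg hx, ← hcorner x hx]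
      linarith [sq_nonneg ((n * T x b - e₀ * U x b) + (n * T x 1 - e₀ * U x 1))]
  have htab : 4 * (e₀ : ℤ) ^ 2 * ((Nat.card W₁ : ℤ) - 1) ≤
      2 * (Nat.card W₁ : ℤ) * ∑ x, ∑ y, (n * T x y - e₀ * U x y) ^ 2 := by
    have h := Finset.sum_le_sum (s := Finset.univ) fun x _ => hrow x
    rw [← Finset.mul_sum, ← Finset.add_sum_erase _ _ (Finset.mem_univ (1 : W₁ →* ℂˣ)), if_pos rfl,
      Finset.sum_congr rfl fun x hx => if_neg (Finset.ne_of_mem_erase hx), Finset.sum_const,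
      Finset.card_erase_of_mem (Finset.mem_univ _), Finset.card_univ, d.card_hom₁', nsmul_eq_mul,
      Nat.cast_sub Nat.card_pos] at h
    push_cast at h
    set w₁ := (Nat.card W₁ : ℤ)
    have hw1 : (0 : ℤ) ≤ w₁ := by positivity
    have hδ2 : (w₁ - 1) * (2 * (δ * (e₀ : ℤ))) ^ 2 = 4 * (e₀ : ℤ) ^ 2 * (w₁ - 1) := by
      rw [mul_pow, mul_pow, sq δ, hδ1]; ring
    linarith [mul_le_mul_of_nonneg_left h hw1, sq_nonneg (w₁ * V + (w₁ - 1) * (2 * (δ * e₀)))]
  -- `D = 0`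
  have hD0 : D = 0 := by
    by_contra hDne
    have hpD : (e₀ : ℤ) ∣ p * D := by
      have h1 : (e₀ : ℤ) ∣ n * (p * c) := hpc.mul_left n
      rw [hD, show (p : ℤ) * (n * (c + e₀) - e₀ * (a' + n)) = n * (p * c) + e₀ * (p * n - p * (a' + n)) by ring]
      exact dvd_add h1 (dvd_mul_right _ _)
    obtain ⟨kD, hkD⟩ := hpD
    have hkD0 : kD ≠ 0 := fun e => hDne (by
      rw [e, mul_zero] at hkD
      exact (mul_eq_zero.mp hkD).resolve_left (by exact_mod_cast t.hp.ne_zero))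
    refine main_numeric (p := p) (N := ((⁅K, K⁆.relIndex K : ℕ) : ℤ)) (P := ((R.relIndex K : ℕ) : ℤ))
      (e₀ := e₀) (w := (Nat.card W₁ : ℤ)) (Q := QX) (D := D) (n := n) (e := ((p ^ k : ℕ) : ℤ))
      ?_ ?_ ?_ ?_ ?_ ?_ ?_ ?_ ?_ ?_ ?_ ?_
    · exact_mod_cast t.two_lt
    · rw [hbN]; push_cast
      exact pow_le_pow_right₀ (by exact_mod_cast t.hp.one_le) hb3
    · exact_mod_cast Nat.pos_of_ne_zero Subgroup.index_ne_zero_of_finite
    · exact_mod_cast Nat.card_pos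
    · rw [hQX]; positivity
    · have := congrArg (Nat.cast (R := ℤ)) hQ
      push_cast at this
      rw [hQX]; push_cast
      linear_combination this
    · have hNw : (Y.card : ℤ) * Nat.card W₁ = ((⁅K, K⁆.relIndex K : ℕ) : ℤ) - 1 := by
        rw [hYdef, ← hN]; push_cast; ring
      rw [← hNw]
      have hQ0 : (0 : ℤ) ≤ QX := by rw [hQX]; positivity
      set S := ∑ x, ∑ y, (n * T x y - e₀ * U x y) ^ 2
      linarith [mul_le_mul_of_nonneg_left hle (mul_nonneg hQ0 (Int.natCast_nonneg (Nat.card W₁))),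
        mul_le_mul_of_nonneg_left htab hQ0,
        mul_nonneg (Int.natCast_nonneg (Nat.card W₁)) (sq_nonneg (QX * Gc + n))]
    · rw [← mul_pow, hkD, mul_pow]
      exact le_mul_of_one_le_right (sq_nonneg _) (by have h := Int.one_le_abs hkD0; nlinarith [sq_abs kD])
    · have h3 : (3 : ℤ) ≤ ((p ^ k : ℕ) : ℤ) := by
        exact_mod_cast le_trans t.two_lt (Nat.le_self_pow (by omega) p)
      have hδ' : δ = 1 ∨ δ = -1 := mul_self_eq_one_iff.mp hδ1
      have hnw : n * (Nat.card W₁ : ℤ) = ((p ^ k : ℕ) : ℤ) - δ := by linarith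
      rw [hnw]
      rcases hδ' with h | h <;> rw [h] <;> nlinarith
    · rw [← Nat.cast_mul, mul_comm, ← hI]
      exact_mod_cast he2
    · intro h
      exact_mod_cast hsmall (by exact_mod_cast h)
    · intro h3 hne27
      have hp3 : p = 3 := by exact_mod_cast h3
      rw [hbN, hp3] at hne27 ⊢
      have hb4 : 4 ≤ bN := by
        rcases eq_or_lt_of_le hb3 with h | h
        · exact absurd (by rw [← h]; norm_num) hne27
        · exact h
      calc (81 : ℤ) = ((3 ^ 4 : ℕ) : ℤ) := by norm_num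
        _ ≤ _ := by exact_mod_cast Nat.pow_le_pow_right (by norm_num) hb4
  have hna : (e₀ : ℤ) ∣ n * (c + e₀) := ⟨a' + n, by rw [hD] at hD0; linarith⟩
  have hcop : IsCoprime (e₀ : ℤ) n := by
    obtain ⟨m, hm⟩ := (t.degQ_spec (hXS hχ)).2
    rw [he₀def, hm]
    push_cast
    exact IsCoprime.pow_left ((Nat.prime_iff_prime_int.mp t.hp).coprime_iff_not_dvd.mpr hpn)
  exact (dvd_add_left dvd_rfl).mp (hcop.dvd_of_dvd_mul_left hna)

end TypeVData

end CfsgLib.OddOrder.TypeV
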