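import Cfsg.Agent.Lib.OddOrder.S10.TypeV.CaseA
import Cfsg.Agent.Lib.OddOrder.S10.TypeV.CaseB
import Cfsg.Agent.Lib.OddOrder.S10.TypeV.CaseCMain
import Cfsg.Agent.Lib.OddOrder.S10.TypeV.CaseCExc

/-!
Peterfalvi (6.8 c2) in the situation of (10.10): the whole family `S` is coherent.
-/

set_option autoImplicit false
set_option linter.unusedSectionVars false
set_option linter.style.haveILetI false

namespace CfsgLib.OddOrder.TypeV

open Cfsg CfsgLib.CharTheory CfsgLib.Dade CfsgLib.OddOrder.Found CfsgLib.OddOrder.Ten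
open scoped ComplexConjugate commutatorElement

universe u

variable {G : Type u} [Group G] [Fintype G] {M : Subgroup G} [Fintype M] {K W₁ W₂ : Subgroup M}
  {H : G → Subgroup G}

namespace TypeVData

variable {d : TenData M K W₁ W₂ H} {p : ℕ} (t : TypeVData d p)
include t

/-- The squared degree of a member is bounded by `|K : W₂|`. -/
theorem degQ_sq_le (hZ : ⁅K, K⁆ ⊓ Subgroup.centralizer (K : Set M) = W₂) {φ : M → ℂ}
    (hφ : φ ∈ inducedIrrAbove K (⊥ : Subgroup M)) : degQ W₁ φ ^ 2 ≤ W₂.relIndex K := by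
  haveI := d.prime.normal
  haveI := t.W₂_normal hZ
  haveI := Fintype.ofFinite K
  obtain ⟨θ, hθ, -, h2, rfl⟩ := hφ
  obtain ⟨k, -, hk⟩ := irr_degree_pos hθ
  rw [t.degQ_indFun hk]
  refine deg_sq_le K ⊥ W₂ (fun x hx y hy => ?_) hθ h2 hk
  rw [Subgroup.mem_bot, ← t.W₂_central hZ x hx y hy]
  group

open Classical in
theorem coherent_caseC (hZ : ⁅K, K⁆ ⊓ Subgroup.centralizer (K : Set M) = W₂) (hcl : ¬ ⁅K, K⁆ ≤ W₂) :
    IsCoherent (inducedIrrAbove K (⊥ : Subgroup M)) {1}ᶜ d.tau := by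
  haveI := d.prime.normal
  haveI := t.W₂_normal hZ
  haveI := Fintype.ofFinite (W₁ →* ℂˣ)
  haveI := Fintype.ofFinite (W₂ →* ℂˣ)
  haveI := Fintype.ofFinite K
  obtain ⟨R, hRn, hW, hR, hcom, hmax⟩ := t.exists_upper_layer hZ
  have hne := t.upper_ne hZ hR hW hcom hmax hcl
  have hRK : R ≤ K := hR.trans t.derived_lt.le
  obtain ⟨RS, hRS, horthR⟩ := d.exists_system
  set N := ⁅K, K⁆.relIndex K with hNdef
  set PR := R.relIndex K with hPRdef
  set I := W₂.relIndex K with hIdef
  have hI : I = N * PR := by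
    rw [hIdef, ← Subgroup.relIndex_mul_relIndex W₂ R K hW hRK, t.upper_relIndex hZ hR hW hcom hmax hne]
  obtain ⟨bN, hbN⟩ := t.relIndex_pow ⁅K, K⁆
  have hb3 := t.three_le_exponent hZ hcl hbN
  have hN27 : 27 ≤ N := by
    rw [hNdef, hbN]
    calc 27 = 3 ^ 3 := by norm_num
      _ ≤ p ^ 3 := Nat.pow_le_pow_left t.two_lt 3
      _ ≤ p ^ bN := Nat.pow_le_pow_right t.hp.pos hb3
  have hPR : N ≤ PR := by
    rw [hPRdef, ← Subgroup.relIndex_mul_relIndex R ⁅K, K⁆ K hR t.derived_lt.le]
    exact Nat.le_mul_of_pos_left _ (Nat.pos_of_ne_zero Subgroup.index_ne_zero_of_finite)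
  have hIN : N * N ≤ I := hI ▸ Nat.mul_le_mul_left N hPR
  have hI729 : 729 ≤ I := le_trans (by norm_num) ((Nat.mul_le_mul hN27 hN27).trans hIN)
  set Y := layerFin K ⁅K, K⁆ K with hYdef
  have hYS : ↑Y ⊆ inducedIrrAbove K (⊥ : Subgroup M) := fun φ hφ =>
    inducedIrrAbove_subset K _ (mem_layerFin_top.mp hφ)
  obtain ⟨ζ, hζ⟩ : Y.Nonempty := layer_nonempty K ⁅K, K⁆ K t.derived_lt le_rfl fun φ hφ =>
    (t.isTenZeta (mem_layerFin_top.mp hφ)).irr
  have hζz : IsTenZeta d ζ := t.isTenZeta (mem_layerFin_top.mp hζ)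
  have hlin : Y.card * Nat.card W₁ + 1 = N := t.linear_count
  have hY2 : 2 ≤ Y.card :=
    Finset.one_lt_card.mpr ⟨_, conj_mem_layerFin hζ, ζ, hζ, hRS.conj_ne ζ (hYS hζ)⟩
  have h2w : 2 * Nat.card W₁ + 1 ≤ N := by
    have := Nat.mul_le_mul_right (Nat.card W₁) hY2
    omega
  by_cases hexc : N = 27 ∧ ∀ b : W₂ →* ℂˣ, b ≠ 1 → d.prime.colChar b 1 ^ 2 = (I : ℂ)
  · obtain ⟨h27, hfull⟩ := hexc
    have hcoh := t.exceptional_coherent hZ h27 hI729 hfull
    refine t.adjoin_rest hRS subset_rfl (fun φ hφ => inducedIrrAbove_conj K ⊥ hφ) (Y ∪ muCols d)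
      (by rw [Finset.coe_union]; exact Set.union_subset hYS t.muCols_subset)
      (fun φ hφ => by
        rcases Finset.mem_union.mp hφ with h | h
        · exact Finset.mem_union_left _ (conj_mem_layerFin h)
        · exact Finset.mem_union_right _ (t.muCols_conj h))
      (by rw [Finset.coe_union]; exact hcoh) (Finset.mem_union_left _ hζ) hζz
      fun φ hφ hnot => ⟨muCols d, Finset.subset_union_right, Nat.card W₁, Nat.card_pos, fun μ hμ => ?_, ?_⟩
    · obtain ⟨b, -, rfl⟩ := mem_muCols.mp hμ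
      rw [d.prime.classInner_muSum, if_pos rfl]
    · have hinj : Function.Injective fun b : W₂ →* ℂˣ => d.prime.muSum b := fun b b' e => by
        have h := congrArg (fun f => classInner f (d.prime.muSum b')) e
        simp only [d.prime.classInner_muSum] at h
        by_contra hne
        rw [if_neg hne] at h
        simp only [if_true] at h
        rw [eq_comm, Nat.cast_eq_zero] at h
        exact Nat.card_pos.ne' h
      have hsum : ∑ μ ∈ muCols d, degQ W₁ μ ^ 2 = (p - 1) * I := by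
        rw [muCols, Finset.sum_image fun x _ y _ e => hinj e,
          Finset.sum_congr rfl fun b hb => show degQ W₁ (d.prime.muSum b) ^ 2 = I by
            obtain ⟨k, -, hk⟩ := irr_degree_pos (d.prime.isIrr_colChar b)
            have h := hfull b (Finset.mem_filter.mp hb).2
            rw [hk] at h
            rw [t.degQ_muSum hk]
            exact_mod_cast h,
          Finset.sum_const, smul_eq_mul, Finset.filter_ne', Finset.card_erase_of_mem (Finset.mem_univ _),
          Finset.card_univ, d.card_hom₂', t.card₂]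
      rw [hsum]
      have hq := t.degQ_sq_le hZ hφ
      set q := degQ W₁ φ
      have hw13 : Nat.card W₁ ≤ 13 := by omega
      have hp2 : 2 * I ≤ (p - 1) * I := Nat.mul_le_mul_right I (by have := t.two_lt; omega)
      have h13 : q * Nat.card W₁ ≤ q * 13 := Nat.mul_le_mul_left q hw13
      by_cases hq27 : q ≤ 27
      · rw [mul_assoc]; omega
      · have h14 : q * 14 ≤ q ^ 2 := by rw [sq]; exact Nat.mul_le_mul_left q (by omega)
        rw [mul_assoc]
        omega
  · have hexc' : ⁅K, K⁆.relIndex K = 27 →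
        ∃ b : W₂ →* ℂˣ, b ≠ 1 ∧ d.prime.colChar b 1 ^ 2 ≠ (W₂.relIndex K : ℂ) := fun h => by
      by_contra hno
      push Not at hno
      exact hexc ⟨h, hno⟩
    have hXY := t.layer_union_coherent hZ hR hW hcom hne hmax hcl hexc'
    set X := layerFin K W₂ R with hXdef
    have hirrX : ∀ φ ∈ X, IsIrrCharacter M φ := t.irr_layer_of_W₂_le le_rfl
    -- the members trivial on `W₂`
    set F := layerFin K W₂ K with hFdef
    have hFS : ↑F ⊆ inducedIrrAbove K (⊥ : Subgroup M) := fun φ hφ =>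
      inducedIrrAbove_subset K _ (mem_layerFin_top.mp hφ)
    have hirrF : ∀ φ ∈ F, IsIrrCharacter M φ := t.irr_layer_of_W₂_le le_rfl
    have hYF : ∀ φ ∈ Y, φ ∈ F := fun φ hφ =>
      mem_layerFin_top.mpr (inducedIrrAbove_antitone K d.le_derived (mem_layerFin_top.mp hφ))
    have hcohF : IsCoherent (↑F : Set (M → ℂ)) {1}ᶜ d.tau := by
      refine t.adjoin_rest hRS hFS (fun φ hφ => conj_mem_layerFin hφ) (X ∪ Y)
        (fun φ hφ => by
          rcases Finset.mem_union.mp hφ with h | h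
          · exact mem_layerFin_top.mpr (mem_layerFin.mp h).1
          · exact hYF φ h)
        (fun φ hφ => by
          rcases Finset.mem_union.mp hφ with h | h
          · exact Finset.mem_union_left _ (conj_mem_layerFin h)
          · exact Finset.mem_union_right _ (conj_mem_layerFin h))
        (by rw [Finset.coe_union]; exact hXY) (Finset.mem_union_right _ hζ) hζz
        fun φ hφ hnot => ⟨X, Finset.subset_union_left, 1, one_pos, fun ξ hξ => by
          rw [classInner_irr_self (hirrX ξ hξ), Nat.cast_one], ?_⟩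
      have hφR : φ ∈ inducedIrrAbove K R := by
        by_contra h
        exact hnot (Finset.mem_union_left _ (mem_layerFin.mpr ⟨mem_layerFin_top.mp hφ, h⟩))
      have hq1 : degQ W₁ φ ≠ 1 := fun h =>
        hnot (Finset.mem_union_right _ (mem_layerFin_top.mpr (t.mem_derived_of_degQ_one (hFS hφ) h)))
      have hq0 := t.degQ_pos (hFS hφ)
      have hq : degQ W₁ φ ^ 2 ≤ PR := by
        obtain ⟨θ, hθ, -, hθR, e⟩ := hφR
        obtain ⟨k, -, hk⟩ := irr_degree_pos (G := K) hθ
        rw [e, t.degQ_indFun hk]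
        exact deg_sq_le K R R (fun x hx y _ => by
          simpa [mul_assoc] using R.mul_mem hx (hRn.conj_mem _ (R.inv_mem hx) y)) hθ hθR hk
      have hcount := t.layer_count W₂ R hW hRK hirrX
      rw [← hIdef, ← hPRdef, ← hXdef, hI] at hcount
      set q := degQ W₁ φ
      set Q := ∑ ψ ∈ X, degQ W₁ ψ ^ 2
      have h1 : (2 * Nat.card W₁ + 1) * PR ≤ N * PR := Nat.mul_le_mul_right PR h2w
      have h2 : 2 * q ≤ q ^ 2 := by rw [sq]; exact Nat.mul_le_mul_right q (by omega)
      have h3 : 2 * PR ≤ Q :=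
        Nat.le_of_mul_le_mul_right (by linarith : 2 * PR * Nat.card W₁ ≤ Q * Nat.card W₁) Nat.card_pos
      omega
    obtain ⟨-, σ, hσ, hσα⟩ := hcohF
    have P := t.piece_of_coherent hRS horthR hFS (fun φ h => conj_mem_layerFin h) hirrF hσ hσα hζz (hYF ζ hζ)
    have hQcount := t.layer_count W₂ K d.prime.le_kernel le_rfl hirrF
    rw [Subgroup.relIndex_self, ← hIdef, ← hFdef] at hQcount
    set Q := ∑ φ ∈ F, degQ W₁ φ ^ 2 with hQdef
    have hQ : ∀ b : W₂ →* ℂˣ, b ≠ 1 → ∀ (δ n : ℤ) (e : ℕ), IsCol d b δ n e → 2 * n < (Q : ℤ) := by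
      intro b hb δ n e hcol
      have he : (e : ℤ) ^ 2 ≤ (I : ℤ) := by exact_mod_cast t.col_deg_sq_le hZ hcol.deg
      have hδ : δ = 1 ∨ δ = -1 := mul_self_eq_one_iff.mp hcol.sq
      have hQZ : (Q : ℤ) * Nat.card W₁ + 1 = (I : ℤ) := by exact_mod_cast hQcount
      have hI' : (729 : ℤ) ≤ I := by exact_mod_cast hI729
      have h1 := hcol.eq
      by_contra hle
      push Not at hle
      have h2 : (Q : ℤ) * Nat.card W₁ ≤ 2 * n * Nat.card W₁ := mul_le_mul_of_nonneg_right hle (by positivity)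
      rcases hδ with rfl | rfl <;> nlinarith [sq_nonneg ((e : ℤ) - 2)]
    have hQ3 : 3 ≤ Q := by
      obtain ⟨b, hb⟩ : ∃ b : W₂ →* ℂˣ, b ≠ 1 :=
        Fintype.exists_ne_of_one_lt_card (by have := d.three_le_hom₂; omega) 1
      obtain ⟨δ, n, e, h1, h2, h3, h4, h5⟩ := d.exists_params hb
      have := hQ b hb δ n e ⟨hb, h1, h2, h3, h4, h5⟩
      omega
    have hcoh := bridge_large P hQ3 hQ
    refine t.adjoin_rest hRS subset_rfl (fun φ hφ => inducedIrrAbove_conj K ⊥ hφ) (F ∪ muCols d)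
      (by rw [Finset.coe_union]; exact Set.union_subset hFS t.muCols_subset)
      (fun φ hφ => by
        rcases Finset.mem_union.mp hφ with h | h
        · exact Finset.mem_union_left _ (conj_mem_layerFin h)
        · exact Finset.mem_union_right _ (t.muCols_conj h))
      (by rw [Finset.coe_union]; exact hcoh) (Finset.mem_union_left _ (hYF ζ hζ)) hζz
      fun φ hφ _ => ⟨F, Finset.subset_union_left, 1, one_pos, fun ξ hξ => by
        rw [classInner_irr_self (hirrF ξ hξ), Nat.cast_one], ?_⟩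
    rw [mul_one, ← hQdef]
    have hq := t.degQ_sq_le hZ hφ
    rw [← hIdef] at hq
    set q := degQ W₁ φ
    by_contra hle
    push Not at hle
    have hle' : Q * Nat.card W₁ ≤ 2 * q * Nat.card W₁ := Nat.mul_le_mul_right _ hle
    have hNq : q * (2 * Nat.card W₁ + 1) ≤ q * N := Nat.mul_le_mul_left q h2w
    nlinarith [sq_nonneg ((q : ℤ) - (N : ℤ))]

/-- **(6.8 c2) in (10.10)**: `S` is coherent. -/
theorem coherent : IsCoherent (inducedIrrAbove K (⊥ : Subgroup M)) {1}ᶜ d.tau := by
  rcases t.central_cases with ⟨Z, hZn, hZ1, hZle, hZc, hZ2⟩ | hZ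
  · exact t.coherent_caseA hZ1 hZle hZc hZ2
  · by_cases hcl : ⁅K, K⁆ ≤ W₂
    · exact t.coherent_caseB hZ hcl
    · exact t.coherent_caseC hZ hcl

end TypeVData

end CfsgLib.OddOrder.TypeV
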