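import Cfsg.Agent.Lib.OddOrder.S10.TypeV.Restrict
import Cfsg.Agent.Lib.OddOrder.S10.TypeV.TwoPiece
import Cfsg.Agent.S1523

/-!
Peterfalvi (10.10), case (6.8 c2) when a central subgroup of `K'` is moved fixed point freely by `W₁`.
-/

set_option autoImplicit false
set_option linter.unusedSectionVars false
set_option linter.style.haveILetI false

namespace CfsgLib.OddOrder.TypeV

open Cfsg CfsgLib.CharTheory CfsgLib.Dade CfsgLib.OddOrder.Found CfsgLib.OddOrder.Ten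
open scoped ComplexConjugate commutatorElement

universe u

variable {G : Type u} [Group G] [Fintype G] {M : Subgroup G} [Fintype M] {K W₁ W₂ : Subgroup M}
  {H : G → Subgroup G}

namespace TypeVData

variable {d : TenData M K W₁ W₂ H} {p : ℕ} (t : TypeVData d p)
include t

section CaseA

variable {Z : Subgroup M} [Z.Normal] (hZ1 : Z ≠ ⊥) (hZle : Z ≤ ⁅K, K⁆)
  (hZc : Z ≤ Subgroup.centralizer (K : Set M)) (hZ2 : Z ⊓ W₂ = ⊥)
include hZ1 hZle hZc hZ2

/-- Outside `K` nothing centralises a non-trivial element of `Z`. -/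
theorem centralizer_Z {z : M} (hz : z ∈ Z) (hz1 : z ≠ 1) (x : M) : x * z = z * x ↔ x ∈ K := by
  haveI := d.prime.normal
  refine ⟨fun h => ?_, fun hx => Subgroup.mem_centralizer_iff.mp (hZc hz) x hx⟩
  obtain ⟨k, hk, a, ha, rfl⟩ : ∃ k ∈ K, ∃ a ∈ W₁, k * a = x :=
    Subgroup.mem_sup_of_normal_left.mp (by rw [d.prime.sup_eq_top]; exact Subgroup.mem_top x)
  by_cases ha1 : a = 1
  · rw [ha1, mul_one]; exact hk
  exfalso
  have hkz : k * z = z * k := Subgroup.mem_centralizer_iff.mp (hZc hz) k hk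
  rw [mul_assoc, ← mul_assoc z k, ← hkz, mul_assoc] at h
  have hin : z ∈ Z ⊓ W₂ := by
    refine Subgroup.mem_inf.mpr ⟨hz, ?_⟩
    rw [← d.prime.centralizer_eq a ha ha1]
    exact Subgroup.mem_inf.mpr ⟨(hZle hz) |> Subgroup.commutator_le_left K K,
      Subgroup.mem_centralizer_singleton_iff.mpr (mul_left_cancel h).symm⟩
  rw [hZ2, Subgroup.mem_bot] at hin
  exact hz1 hin

theorem card_Z_ge : 2 * Nat.card W₁ + 1 ≤ Nat.card Z := by
  haveI := d.prime.normal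
  obtain ⟨s, hs⟩ : K.index ∣ Nat.card Z - 1 := index_dvd_card_sub_one' K Z fun k hk hk1 x =>
    t.centralizer_Z hZ1 hZle hZc hZ2 hk hk1 x
  rw [d.prime.index_eq] at hs
  have h2 : 2 ≤ Nat.card Z := (Subgroup.one_lt_card_iff_ne_bot _).mpr hZ1
  have o1 := Nat.odd_iff.mp (d.oddM.of_dvd_nat Z.card_subgroup_dvd_card)
  have o2 := Nat.odd_iff.mp d.prime.odd₁
  have hs0 : s ≠ 0 := fun e => by rw [e, mul_zero] at hs; omega
  have hs1 : s ≠ 1 := fun e => by rw [e, mul_one] at hs; omega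
  have : Nat.card W₁ * 2 ≤ Nat.card W₁ * s := Nat.mul_le_mul_left _ (by omega)
  omega

open Classical in
theorem coherent_caseA : IsCoherent (inducedIrrAbove K (⊥ : Subgroup M)) {1}ᶜ d.tau := by
  haveI := d.prime.normal
  haveI := Fact.mk t.hp
  haveI := t.nilK
  have hZK : Z ≤ K := hZle.trans t.derived_lt.le
  obtain ⟨R, hR, -⟩ := d.exists_system
  obtain ⟨a, ha⟩ := t.exists_card
  set X := layerFin K (⊥ : Subgroup M) Z with hXdef
  set Y := layerFin K ⁅K, K⁆ K with hYdef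
  have hirrX : ∀ φ ∈ X, IsIrrCharacter M φ := fun φ hφ =>
    t.irr_of_not_kernel hZc hZK hZ2 (mem_layerFin.mp hφ).1 (mem_layerFin.mp hφ).2
  have hcent : ∀ x ∈ Z, ∀ y ∈ K, x * y * x⁻¹ * y⁻¹ ∈ (⊥ : Subgroup M) := fun x hx y hy => by
    rw [Subgroup.mem_bot, ← Subgroup.mem_centralizer_iff.mp (hZc hx) y hy]; group
  obtain ⟨-, σ, hσ, hσα⟩ := coherent_layer K ⊥ Z hR t.two_lt ha t.coprime_index (bot_lt_iff_ne_bot.mpr hZ1) hZK
    hcent hirrX
  obtain ⟨-, τ₁, hτ₁, hτα⟩ := coherent_above_derived K inferInstance hR ⁅K, K⁆ le_rfl t.derived_lt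
  rw [← coe_layerFin_top] at hτ₁ hτα
  have hXS : ↑X ⊆ inducedIrrAbove K (⊥ : Subgroup M) := fun φ hφ => (mem_layerFin.mp hφ).1
  have hYS : ↑Y ⊆ inducedIrrAbove K (⊥ : Subgroup M) := fun φ hφ =>
    inducedIrrAbove_subset K _ (mem_layerFin_top.mp hφ)
  have hYz : ∀ φ ∈ Y, IsTenZeta d φ := fun φ hφ => t.isTenZeta (mem_layerFin_top.mp hφ)
  have hdisj : Disjoint X Y := Finset.disjoint_left.mpr fun φ hX hY =>
    (mem_layerFin.mp hX).2 (inducedIrrAbove_antitone K hZle (mem_layerFin_top.mp hY))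
  have hirr : ∀ φ ∈ X ∪ Y, IsIrrCharacter M φ := fun φ hφ =>
    (Finset.mem_union.mp hφ).elim (hirrX φ) fun h => (hYz φ h).irr
  obtain ⟨χ, hχ, w, he₀, hwχ, hw⟩ := t.exists_least hXS (layer_nonempty K ⊥ Z (bot_lt_iff_ne_bot.mpr hZ1) hZK hirrX)
  set e₀ := degQ W₁ χ with he₀def
  obtain ⟨ψ, hψ⟩ : Y.Nonempty := layer_nonempty K ⁅K, K⁆ K t.derived_lt le_rfl fun φ hφ => (hYz φ hφ).irr
  have hgψ : IsGeneralizedCharacter G (τ₁ ψ) := hτ₁.2.2.2 _ (Submodule.subset_span hψ)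
  have horth : ∀ φ ∈ X, classInner (σ φ) (τ₁ ψ) = 0 := fun φ hφ =>
    pieces_orthogonal hR hXS hYS (Finset.disjoint_coe.mpr hdisj) (fun ξ hξ => hirr ξ (Finset.mem_union.mpr hξ))
      (fun ξ hξ => conj_mem_layerFin hξ) (fun ξ hξ => conj_mem_layerFin hξ) hσ hσα hτ₁ hτα φ hφ ψ hψ
  set η := τ₁ ψ with hηdef
  have hηcl : IsClassFunction G η := (isGenChar_iff_coeff_int.mp hgψ).1
  set f : M → ℂ := fun x => η x with hf
  have hfgen : IsGeneralizedCharacter M f := by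
    obtain ⟨c1, c2, h1, h2, e⟩ := hgψ
    exact ⟨_, _, isCharacter_restrict h1 M, isCharacter_restrict h2 M, by funext x; show η x = _; rw [e]; rfl⟩
  obtain ⟨n₀, hn₀⟩ := classInner_genChar_int (isGenChar_of_char (isCharacter_of_irr (hirrX χ hχ))) hfgen
  obtain ⟨q₀, hq₀⟩ := classInner_genChar_int (isGenChar_of_char (isCharacter_of_irr (hYz ψ hψ).irr)) hfgen
  have hwd : ∀ φ ∈ X, φ 1 = ((Nat.card W₁ : ℂ) * e₀) * w φ := fun φ hφ => (hw φ hφ).2.2
  have hrel : ∀ φ ∈ X, classInner φ f = (w φ : ℂ) * n₀ := fun φ hφ => by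
    rw [t.coeff_restrict hXS hσ hσα w hwd hχ hwχ hηcl horth hφ, hn₀]
  have hfcl : IsClassFunction M f := (isGenChar_iff_coeff_int.mp hfgen).1
  have hoff : ∀ θ : M → ℂ, IsIrrCharacter M θ → θ ∉ X → ∀ z ∈ Z, θ z = θ 1 := fun θ hθ hnot z hz => by
    by_contra hne
    exact hnot ((layer_eq K ⊥ Z bot_le hZK hirrX).mpr
      ⟨hθ, fun a ha => by rw [Subgroup.mem_bot.mp ha], z, hz, hne⟩)
  have hval : ∀ z ∈ Z, z ≠ 1 → (f 1 - f z) * ((Nat.card W₁ : ℂ) * e₀) = n₀ * ((Nat.card M : ℕ) : ℂ) := by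
    intro z hz hz1
    have h := layer_weighted K ⊥ Z bot_le hZK hirrX hfcl w hwd hrel {1, z} (fun x => if x = 1 then 1 else -1)
      fun θ hθ hnot => by
        rw [Finset.sum_pair (Ne.symm hz1), if_pos rfl, if_neg hz1, hoff θ hθ hnot z hz]; ring
    rw [Finset.sum_pair (Ne.symm hz1), Finset.sum_pair (Ne.symm hz1), if_pos rfl, if_neg hz1,
      if_pos (one_mem (⊥ : Subgroup M)), if_pos (one_mem Z), if_neg (by rwa [Subgroup.mem_bot]), if_pos hz,
      Subgroup.index_bot] at h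
    linear_combination h
  have hne0 : (Nat.card W₁ : ℂ) * e₀ ≠ 0 :=
    mul_ne_zero (Nat.cast_ne_zero.mpr Nat.card_pos.ne') (Nat.cast_ne_zero.mpr he₀.ne')
  obtain ⟨ε, hε, hεirr⟩ : ∃ ε : ℂ, (ε = 1 ∨ ε = -1) ∧ IsIrrCharacter G (ε • η) := by
    rcases signed_image (fun b hb => (hYz b hb).irr) hτ₁ hψ with h | h
    · exact ⟨1, Or.inl rfl, by rwa [one_smul]⟩
    · exact ⟨-1, Or.inr rfl, by rwa [neg_one_smul]⟩
  have hmem : ∀ g ∈ Z.map M.subtype, ∃ z ∈ Z, (z : G) = g := fun g ⟨z, hz, e⟩ => ⟨z, hz, e⟩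
  obtain ⟨z, hz, hz1⟩ := SetLike.exists_of_lt (bot_lt_iff_ne_bot.mpr hZ1)
  replace hz1 : z ≠ 1 := fun e => hz1 (Subgroup.mem_bot.mpr e)
  obtain ⟨nn, dd, e1, e2, ⟨s, hs⟩⟩ := Cfsg.Agent.S1523.result p t.sylowP t.ti_sylowP
    (by rw [t.normalizer_sylowP]; exact d.oddM) (Z.map M.subtype)
    (fun h => hZ1 ((Subgroup.map_eq_bot_iff_of_injective _ M.subtype_injective).mp h))
    (fun g hg => by obtain ⟨z, hz, rfl⟩ := hmem g hg; exact t.mem_sylowP.mpr (hZK hz))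
    (fun x hx g hg => by
      rw [t.normalizer_sylowP] at hx
      obtain ⟨z, hz, rfl⟩ := hmem g hg
      exact ⟨⟨x, hx⟩ * z * ⟨x, hx⟩⁻¹, (inferInstance : Z.Normal).conj_mem z hz _, rfl⟩)
    (fun g hg y hy => by
      obtain ⟨z, hz, rfl⟩ := hmem g hg
      obtain ⟨k, hk, rfl⟩ := hy
      exact congrArg Subtype.val (Subgroup.mem_centralizer_iff.mp (hZc hz) k hk).symm)
    (fun g hg g' hg' hg1 hg1' => by
      obtain ⟨z, hz, rfl⟩ := hmem g hg
      obtain ⟨z', hz', rfl⟩ := hmem g' hg'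
      have key : ∀ y ∈ Z, y ≠ 1 →
          M ⊓ Subgroup.centralizer ({(y : G)} : Set G) = K.map M.subtype := fun y hy hy1 => by
        ext x
        constructor
        · rintro ⟨hx, hxc⟩
          exact ⟨⟨x, hx⟩, (t.centralizer_Z hZ1 hZle hZc hZ2 hy hy1 ⟨x, hx⟩).mp
            (Subtype.ext (Subgroup.mem_centralizer_singleton_iff.mp hxc)), rfl⟩
        · rintro ⟨k, hk, rfl⟩
          exact ⟨k.2, Subgroup.mem_centralizer_singleton_iff.mpr
            (congrArg Subtype.val ((t.centralizer_Z hZ1 hZle hZc hZ2 hy hy1 k).mpr hk))⟩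
      rw [t.normalizer_sylowP, key z hz (fun e => hg1 (by rw [e]; rfl)), key z' hz' (fun e => hg1' (by rw [e]; rfl))])
    (ε • η) hεirr
    (fun g hg g' hg' hg1 hg1' => by
      obtain ⟨z, hz, rfl⟩ := hmem g hg
      obtain ⟨z', hz', rfl⟩ := hmem g' hg'
      show ε * f z = ε * f z'
      have e := (hval z hz (fun e => hg1 (by rw [e]; rfl))).trans (hval z' hz' (fun e => hg1' (by rw [e]; rfl))).symm
      rw [sub_right_injective.eq_iff.mp (mul_right_cancel₀ hne0 e)])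
    (z : G) ⟨z, hz, rfl⟩ (fun e => hz1 (Subtype.ext e))
  have hn0dvd : (e₀ : ℤ) ∣ n₀ := by
    change ε * f z = (nn : ℂ) at e1
    change ε * f 1 = (dd : ℂ) at e2
    have hcard : Nat.card M = Nat.card W₁ * Nat.card (t.sylowP : Subgroup G) := by
      rw [t.card_sylowP, ← d.prime.index_eq, Subgroup.index_mul_card]
    have h := hval z hz hz1
    rw [hcard] at h
    push_cast at h
    have hw0 : (Nat.card W₁ : ℂ) ≠ 0 := Nat.cast_ne_zero.mpr Nat.card_pos.ne'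
    have hP0 : (Nat.card (t.sylowP : Subgroup G) : ℂ) ≠ 0 := Nat.cast_ne_zero.mpr Nat.card_pos.ne'
    have hsC : (dd : ℂ) - nn = (Nat.card (t.sylowP : Subgroup G) : ℂ) * s := by exact_mod_cast congrArg (Int.cast (R := ℂ)) hs
    rw [← e1, ← e2, ← mul_sub] at hsC
    have key : ((s * e₀ : ℤ) : ℂ) = ε * (n₀ : ℂ) := by
      refine mul_left_cancel₀ (mul_ne_zero hw0 hP0) ?_
      push_cast
      linear_combination ε * h - (Nat.card W₁ : ℂ) * e₀ * hsC
    rcases hε with rfl | rfl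
    · rw [one_mul] at key
      exact ⟨s, by rw [← Int.cast_inj.mp key]; ring⟩
    · rw [neg_one_mul, ← Int.cast_neg] at key
      exact dvd_neg.mp ⟨s, by rw [← Int.cast_inj.mp key]; ring⟩
  -- the coefficient
  have hY1 : ∀ ξ ∈ Y, ξ 1 = ((Nat.card W₁ : ℕ) : ℂ) := fun ξ hξ => (hYz ξ hξ).deg
  have hβ : χ - (e₀ : ℤ) • ψ ∈ zspanOn (inducedIrrAbove K (⊥ : Subgroup M)) {1}ᶜ :=
    ⟨Submodule.sub_mem _ (Submodule.subset_span (hXS hχ)) (Submodule.smul_mem _ _ (Submodule.subset_span (hYS hψ))),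
      fun x hx => by
        rw [show x = 1 by simpa using hx, Pi.sub_apply, Pi.smul_apply, hwd χ hχ, hY1 ψ hψ, hwχ, zsmul_eq_mul]
        push_cast; ring⟩
  have hc : classInner (d.tau (χ - (e₀ : ℤ) • ψ)) η = ((n₀ - e₀ * q₀ : ℤ) : ℂ) := by
    obtain ⟨hg, hz0⟩ := d.span_zero_off hβ.1
    rw [t.tau_reciprocity (isGenChar_iff_coeff_int.mp hg).1 hz0 (hβ.2 1 fun e => e rfl) hηcl]
    simp only [classInner_sub_left, ← Int.cast_smul_eq_zsmul ℂ, classInner_smul_left]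
    rw [show classInner χ (fun x : M => η x) = n₀ from hn₀, show classInner ψ (fun x : M => η x) = q₀ from hq₀]
    push_cast; ring
  have hXY := two_piece_coherent hR hXS hYS hdisj hirr (fun φ h => conj_mem_layerFin h)
    (fun φ h => conj_mem_layerFin h) hσ hσα hτ₁ hτα hχ hψ Nat.card_pos he₀ w (fun ξ hξ => (hw ξ hξ).2.2)
    (fun ξ hξ => (hw ξ hξ).1) hwχ hY1 hc (dvd_sub hn0dvd (dvd_mul_right _ _))
  -- the rest
  refine t.adjoin_rest hR subset_rfl (fun φ hφ => inducedIrrAbove_conj K ⊥ hφ) (X ∪ Y)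
    (by rw [Finset.coe_union]; exact Set.union_subset hXS hYS)
    (fun φ hφ => by
      rcases Finset.mem_union.mp hφ with h | h
      · exact Finset.mem_union_left _ (conj_mem_layerFin h)
      · exact Finset.mem_union_right _ (conj_mem_layerFin h))
    (by rw [Finset.coe_union]; exact hXY) (Finset.mem_union_right _ hψ) (hYz ψ hψ)
    fun φ hφ hnot => ⟨X, Finset.subset_union_left, 1, one_pos, fun ξ hξ => by
      rw [classInner_irr_self (hirrX ξ hξ), Nat.cast_one], ?_⟩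
  have hφZ : φ ∈ inducedIrrAbove K Z := by
    by_contra h
    exact hnot (Finset.mem_union_left _ (mem_layerFin.mpr ⟨hφ, h⟩))
  have hq1 : degQ W₁ φ ≠ 1 := fun h =>
    hnot (Finset.mem_union_right _ (mem_layerFin_top.mpr (t.mem_derived_of_degQ_one hφ h)))
  have hq0 := t.degQ_pos hφ
  have hsq : degQ W₁ φ ^ 2 ≤ Z.relIndex K := by
    obtain ⟨θ, hθ, -, -, e⟩ := hφ
    obtain ⟨k, -, hk⟩ := irr_degree_pos (G := K) hθ
    rw [e, t.degQ_indFun hk]
    exact deg_sq_le K ⊥ Z hcent hθ (fun b hb => by rw [show b = 1 from Subtype.ext (Subgroup.mem_bot.mp hb)]) hk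
  have hcount := t.layer_count ⊥ Z bot_le hZK hirrX
  have hK := Subgroup.relIndex_mul_relIndex ⊥ Z K bot_le hZK
  rw [Subgroup.relIndex_bot_left, Subgroup.relIndex_bot_left] at hK
  rw [Subgroup.relIndex_bot_left, ← hK] at hcount
  have hZc2 := t.card_Z_ge hZ1 hZle hZc hZ2
  rw [← hXdef] at hcount
  have hw3 := d.prime.three_le₁
  set q := degQ W₁ φ
  set Q := ∑ ψ ∈ X, degQ W₁ ψ ^ 2
  set j := Z.relIndex K
  have h2 : (2 * Nat.card W₁ + 1) * j ≤ Nat.card Z * j := Nat.mul_le_mul_right j hZc2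
  have h3 : 2 * j ≤ Q := Nat.le_of_mul_le_mul_right (by linarith : 2 * j * Nat.card W₁ ≤ Q * Nat.card W₁) (by omega)
  have h4 : 2 * q ≤ q ^ 2 := by rw [sq]; exact Nat.mul_le_mul_right q (by omega)
  omega

end CaseA

end TypeVData

end CfsgLib.OddOrder.TypeV
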