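import Cfsg.Agent.Lib.CharTheory.TI
import Cfsg.Agent.Lib.CharTheory.Degree
import Cfsg.Agent.Lib.CharTheory.Integral
import Cfsg.Agent.Lib.CharTheory.Signed
import Cfsg.Prelude.Def_OddOrderChar
import Cfsg.Prelude.Def_OddOrderLocal
import Cfsg.Agent.Lib.CharTheory.Coherence

/-!
Peterfalvi (10.10), case (6.8 c2), step C1: the congruence obtained by subtracting two products of class sums
for a trivial intersection Sylow subgroup.
-/

set_option autoImplicit false
set_option linter.unusedSectionVars false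
set_option linter.style.haveILetI false

namespace CfsgLib.OddOrder.TypeV

open Cfsg CfsgLib.CharTheory

universe u

variable {G : Type u} [Group G] [Fintype G]

open Classical in
/-- The conjugates of `u` under the members of `N`. -/
noncomputable def nClass (N : Subgroup G) (u : G) : Finset G :=
  Finset.univ.image fun n : N => (n : G) * u * (n : G)⁻¹

theorem mem_nClass {N : Subgroup G} {u x : G} : x ∈ nClass N u ↔ ∃ n ∈ N, n * u * n⁻¹ = x := by
  classical
  simp [nClass]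

theorem conj_mem_nClass {N : Subgroup G} {u x n : G} (hx : x ∈ nClass N u) (hn : n ∈ N) :
    n * x * n⁻¹ ∈ nClass N u := by
  obtain ⟨m, hm, rfl⟩ := mem_nClass.mp hx
  exact mem_nClass.mpr ⟨n * m, N.mul_mem hn hm, by group⟩

theorem mem_nClass_top {u x : G} : x ∈ nClass ⊤ u ↔ ∃ g, g * u * g⁻¹ = x := by
  simp [mem_nClass]

/-- The products of class sums in an irreducible representation. -/
theorem sum_class_prod {χ : G → ℂ} (hχ : IsIrrCharacter G χ) (u w : G) :
    (∑ q ∈ nClass ⊤ u ×ˢ nClass ⊤ w, χ (q.1 * q.2)) * χ 1 =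
      ((nClass ⊤ u).card : ℂ) * χ u * (((nClass ⊤ w).card : ℂ) * χ w) := by
  classical
  obtain ⟨m, ρ, hρ, rfl⟩ := hχ
  have hcl : ∀ v, ∀ x ∈ nClass ⊤ v, ρ.character x = ρ.character v := fun v x hx => by
    obtain ⟨g, rfl⟩ := mem_nClass_top.mp hx
    exact ρ.char_conj v g
  have hcomm : ∀ k : G, (∑ x ∈ nClass ⊤ u, ρ x) * ρ k = ρ k * ∑ x ∈ nClass ⊤ u, ρ x := fun k => by
    rw [Finset.sum_mul, Finset.mul_sum]
    refine Finset.sum_bij (fun x _ => k⁻¹ * x * k)
      (fun x hx => by simpa using conj_mem_nClass hx (Subgroup.mem_top k⁻¹))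
      (fun a _ b _ e => by simpa using e)
      (fun y hy => ⟨k * y * k⁻¹, conj_mem_nClass hy (Subgroup.mem_top k), by group⟩) (fun x _ => ?_)
    rw [← map_mul, ← map_mul]
    congr 1
    group
  let T : Representation.IntertwiningMap ρ ρ := ⟨∑ x ∈ nClass ⊤ u, ρ x, fun k => hcomm k⟩
  obtain ⟨a, ha⟩ :=
    (Representation.IsIrreducible.algebraMap_intertwiningMap_bijective_of_isAlgClosed).2 T
  have hscal : (∑ x ∈ nClass ⊤ u, ρ x) = a • (1 : Module.End ℂ (Fin m → ℂ)) := LinearMap.ext fun v => by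
    have := congrArg (fun S : Representation.IntertwiningMap ρ ρ => S v) ha
    simpa [T] using this.symm
  have h1 : (∑ x ∈ nClass ⊤ u, ρ.character x) = a * ρ.character 1 := by
    simp only [Representation.character]
    rw [← map_sum, hscal, map_smul, smul_eq_mul, map_one ρ]
  rw [Finset.sum_congr rfl (hcl u), Finset.sum_const, nsmul_eq_mul] at h1
  have h2 : ∀ y, ∑ x ∈ nClass ⊤ u, ρ.character (x * y) = a * ρ.character y := fun y => by
    simp only [Representation.character, map_mul]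
    rw [← map_sum, ← Finset.sum_mul, hscal, smul_one_mul, map_smul, smul_eq_mul]
  rw [Finset.sum_product, Finset.sum_comm, Finset.sum_congr rfl fun y _ => h2 y, ← Finset.mul_sum,
    Finset.sum_congr rfl (hcl w), Finset.sum_const, nsmul_eq_mul, h1]
  ring

variable {p : ℕ} [Fact p.Prime] (P : Sylow p G)

/-- A conjugate inside `P` of a non-identity element of `P` comes from the normaliser. -/
theorem mem_normalizer_of_conj_mem (hTI : IsTISubset ((P : Subgroup G) : Set G)) {u g : G}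
    (hu : u ∈ (P : Subgroup G)) (hu1 : u ≠ 1) (hg : g * u * g⁻¹ ∈ (P : Subgroup G)) :
    g ∈ Subgroup.normalizer ((P : Subgroup G) : Set G) :=
  by_contra fun h => hu1 (hTI g h u hu hg)

/-- A pair of `p`-elements fixed by a non-identity element of `P` lies in `P`. -/
theorem mem_of_commute (hTI : IsTISubset ((P : Subgroup G) : Set G)) {u g q : G}
    (hu : u ∈ (P : Subgroup G)) (hq : q ∈ (P : Subgroup G)) (hq1 : q ≠ 1)
    (hc : q * (g * u * g⁻¹) * q⁻¹ = g * u * g⁻¹) : g * u * g⁻¹ ∈ (P : Subgroup G) := by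
  set x := g * u * g⁻¹ with hx
  have hxq : x * q * x⁻¹ = q := mul_inv_eq_iff_eq_mul.mpr (mul_inv_eq_iff_eq_mul.mp hc).symm
  have hxN : x ∈ Subgroup.normalizer ((P : Subgroup G) : Set G) := by
    by_contra h
    exact hq1 (hTI x h q hq (by rw [hxq]; exact hq))
  have hpg : IsPGroup p (Subgroup.zpowers x) := by
    obtain ⟨j, hj⟩ := P.isPGroup' ⟨u, hu⟩
    intro y
    obtain ⟨i, hi⟩ := Subgroup.mem_zpowers_iff.mp y.2
    refine ⟨j, Subtype.ext ?_⟩
    have hj' : u ^ p ^ j = 1 := congrArg Subtype.val hj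
    rw [Subgroup.coe_pow, ← hi, ← zpow_natCast, ← zpow_mul, mul_comm, zpow_mul, zpow_natCast, hx, conj_pow, hj',
      mul_one, mul_inv_cancel, one_zpow, Subgroup.coe_one]
  have h := hpg.inf_normalizer_sylow P
  exact (h.le ⟨Subgroup.mem_zpowers _, hxN⟩).2

/-- The pairs of conjugates of `u` and `w`: those inside a conjugate of `P` and a multiple of `|P|`. -/
theorem sum_class_pairs (hTI : IsTISubset ((P : Subgroup G) : Set G)) {u w : G} (hu : u ∈ (P : Subgroup G))
    (hu1 : u ≠ 1) (hw : w ∈ (P : Subgroup G)) (hw1 : w ≠ 1) {f : G → ℂ} (hf : IsClassFunction G f)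
    (hint : ∀ g, IsIntegral ℤ (f g)) :
    ∃ s : ℂ, IsIntegral ℤ s ∧ ∑ q ∈ nClass ⊤ u ×ˢ nClass ⊤ w, f (q.1 * q.2) =
      ((Subgroup.normalizer ((P : Subgroup G) : Set G)).index : ℂ) *
        (∑ q ∈ nClass (Subgroup.normalizer ((P : Subgroup G) : Set G)) u ×ˢ
          nClass (Subgroup.normalizer ((P : Subgroup G) : Set G)) w, f (q.1 * q.2)) +
      (Nat.card (P : Subgroup G) : ℂ) * s := by
  classical
  set N := Subgroup.normalizer ((P : Subgroup G) : Set G) with hN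
  let inP : G × G → Prop := fun q =>
    ∃ g : G, g⁻¹ * q.1 * g ∈ (P : Subgroup G) ∧ g⁻¹ * q.2 * g ∈ (P : Subgroup G)
  have hPN : ∀ {n x : G}, n ∈ N → x ∈ (P : Subgroup G) → n * x * n⁻¹ ∈ (P : Subgroup G) := fun {n x} hn hx =>
    (Subgroup.mem_normalizer_iff.mp hn x).mp hx
  have hCP : ∀ {v x : G}, v ∈ (P : Subgroup G) → x ∈ nClass N v → x ∈ (P : Subgroup G) := fun {v x} hv hx => by
    obtain ⟨n, hn, rfl⟩ := mem_nClass.mp hx
    exact hPN hn hv
  have hCne : ∀ {v x : G}, v ≠ 1 → x ∈ nClass N v → x ≠ 1 := fun {v x} hv hx e => by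
    obtain ⟨n, -, rfl⟩ := mem_nClass.mp hx
    exact hv (by simpa using e)
  have hPC : ∀ {v x : G}, v ∈ (P : Subgroup G) → v ≠ 1 → x ∈ nClass ⊤ v → x ∈ (P : Subgroup G) → x ∈ nClass N v :=
    fun {v x} hv hv1 hx hxP => by
      obtain ⟨g, rfl⟩ := mem_nClass_top.mp hx
      exact mem_nClass.mpr ⟨g, mem_normalizer_of_conj_mem P hTI hv hv1 hxP, rfl⟩
  have htop : ∀ {v x : G}, x ∈ nClass N v → ∀ g : G, g * x * g⁻¹ ∈ nClass ⊤ v := fun {v x} hx g => by
    obtain ⟨n, -, rfl⟩ := mem_nClass.mp hx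
    exact mem_nClass_top.mpr ⟨g * n, by group⟩
  have h1 : ∑ q ∈ (nClass ⊤ u ×ˢ nClass ⊤ w) with inP q, f (q.1 * q.2) =
      ∑ t ∈ (Finset.univ : Finset (G ⧸ N)) ×ˢ (nClass N u ×ˢ nClass N w), f (t.2.1 * t.2.2) := by
    symm
    refine Finset.sum_bij (fun t _ => (t.1.out * t.2.1 * t.1.out⁻¹, t.1.out * t.2.2 * t.1.out⁻¹))
      (fun t ht => ?_) (fun t ht t' ht' e => ?_) (fun q hq => ?_) (fun t _ => ?_)
    · obtain ⟨-, ht⟩ := Finset.mem_product.mp ht
      obtain ⟨h1, h2⟩ := Finset.mem_product.mp ht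
      refine Finset.mem_filter.mpr ⟨Finset.mem_product.mpr ⟨htop h1 _, htop h2 _⟩, t.1.out, ?_, ?_⟩
      · simpa [mul_assoc] using hCP hu h1
      · simpa [mul_assoc] using hCP hw h2
    · obtain ⟨-, ht⟩ := Finset.mem_product.mp ht
      obtain ⟨-, ht'⟩ := Finset.mem_product.mp ht'
      obtain ⟨h1, -⟩ := Finset.mem_product.mp ht
      obtain ⟨h1', -⟩ := Finset.mem_product.mp ht'
      have e1 : t.1.out * t.2.1 * t.1.out⁻¹ = t'.1.out * t'.2.1 * t'.1.out⁻¹ := congrArg Prod.fst e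
      have e2 : t.1.out * t.2.2 * t.1.out⁻¹ = t'.1.out * t'.2.2 * t'.1.out⁻¹ := congrArg Prod.snd e
      have hmem : t'.1.out⁻¹ * t.1.out ∈ N := by
        refine mem_normalizer_of_conj_mem P hTI (hCP hu h1) (hCne hu1 h1) ?_
        have : t'.1.out⁻¹ * t.1.out * t.2.1 * (t'.1.out⁻¹ * t.1.out)⁻¹ = t'.2.1 := by
          calc t'.1.out⁻¹ * t.1.out * t.2.1 * (t'.1.out⁻¹ * t.1.out)⁻¹
              = t'.1.out⁻¹ * (t.1.out * t.2.1 * t.1.out⁻¹) * t'.1.out := by group
            _ = t'.2.1 := by rw [e1]; group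
        rw [this]
        exact hCP hu h1'
      have et : t'.1 = t.1 := by
        rw [← QuotientGroup.out_eq' t'.1, ← QuotientGroup.out_eq' t.1, QuotientGroup.eq]
        exact hmem
      rw [et] at e1 e2
      exact Prod.ext et.symm (Prod.ext (mul_left_cancel (mul_right_cancel e1))
        (mul_left_cancel (mul_right_cancel e2)))
    · obtain ⟨hq, g, hg1, hg2⟩ := Finset.mem_filter.mp hq
      obtain ⟨hq1, hq2⟩ := Finset.mem_product.mp hq
      set r := (QuotientGroup.mk g : G ⧸ N).out with hr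
      have hrg : g⁻¹ * r ∈ N := by
        rw [← QuotientGroup.eq, hr, QuotientGroup.out_eq']
      have key : ∀ {v x : G}, v ∈ (P : Subgroup G) → v ≠ 1 → x ∈ nClass ⊤ v → g⁻¹ * x * g ∈ (P : Subgroup G) →
          r⁻¹ * x * r ∈ nClass N v := fun {v x} hv hv1 hx hxg => by
        refine hPC hv hv1 ?_ ?_
        · simpa using conj_mem_nClass hx (Subgroup.mem_top r⁻¹)
        · have := hPN (N.inv_mem hrg) hxg
          simpa [mul_assoc] using this
      refine ⟨(QuotientGroup.mk g, (r⁻¹ * q.1 * r, r⁻¹ * q.2 * r)), ?_, ?_⟩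
      · exact Finset.mem_product.mpr ⟨Finset.mem_univ _,
          Finset.mem_product.mpr ⟨key hu hu1 hq1 hg1, key hw hw1 hq2 hg2⟩⟩
      · refine Prod.ext ?_ ?_ <;> simp only [← hr] <;> group
    · show f (t.2.1 * t.2.2) = f (t.1.out * t.2.1 * t.1.out⁻¹ * (t.1.out * t.2.2 * t.1.out⁻¹))
      rw [show t.1.out * t.2.1 * t.1.out⁻¹ * (t.1.out * t.2.2 * t.1.out⁻¹) =
        t.1.out * (t.2.1 * t.2.2) * t.1.out⁻¹ by group]
      exact (hf _ _).symm
  rw [Finset.sum_product' (f := fun (_ : G ⧸ N) (y : G × G) => f (y.1 * y.2)), Finset.sum_const, Finset.card_univ,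
    nsmul_eq_mul, ← Nat.card_eq_fintype_card, ← Subgroup.index_eq_card] at h1
  let α := {q : G × G // q ∈ nClass ⊤ u ×ˢ nClass ⊤ w}
  letI : MulAction (P : Subgroup G) α :=
    { smul := fun g q => ⟨((g : G) * q.1.1 * (g : G)⁻¹, (g : G) * q.1.2 * (g : G)⁻¹), by
        obtain ⟨h1, h2⟩ := Finset.mem_product.mp q.2
        exact Finset.mem_product.mpr
          ⟨conj_mem_nClass h1 (Subgroup.mem_top _), conj_mem_nClass h2 (Subgroup.mem_top _)⟩⟩
      one_smul := fun q => Subtype.ext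
        (by show ((1 : G) * q.1.1 * (1 : G)⁻¹, (1 : G) * q.1.2 * (1 : G)⁻¹) = q.1; simp)
      mul_smul := fun g h q => Subtype.ext (Prod.ext
        (by show (g : G) * h * q.1.1 * ((g : G) * h)⁻¹ = (g : G) * ((h : G) * q.1.1 * (h : G)⁻¹) * (g : G)⁻¹; group)
        (by show (g : G) * h * q.1.2 * ((g : G) * h)⁻¹ = (g : G) * ((h : G) * q.1.2 * (h : G)⁻¹) * (g : G)⁻¹; group)) }
  have hinvP : ∀ (g : G) (q : G × G), inP (g * q.1 * g⁻¹, g * q.2 * g⁻¹) ↔ inP q := fun g q => by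
    constructor
    · rintro ⟨k, h1, h2⟩
      exact ⟨g⁻¹ * k, by simpa [mul_assoc] using h1, by simpa [mul_assoc] using h2⟩
    · rintro ⟨k, h1, h2⟩
      exact ⟨g * k, by simpa [mul_assoc] using h1, by simpa [mul_assoc] using h2⟩
  let F : α → ℂ := fun q => if inP q.1 then 0 else f (q.1.1 * q.1.2)
  obtain ⟨s, hs, hsum⟩ := CfsgLib.CharTheory.sum_eq_card_mul (Z := (P : Subgroup G)) F (fun g q => by
      show (if inP ((g : G) * q.1.1 * (g : G)⁻¹, (g : G) * q.1.2 * (g : G)⁻¹) then (0 : ℂ)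
        else f ((g : G) * q.1.1 * (g : G)⁻¹ * ((g : G) * q.1.2 * (g : G)⁻¹))) = F q
      rw [show (g : G) * q.1.1 * (g : G)⁻¹ * ((g : G) * q.1.2 * (g : G)⁻¹) =
        (g : G) * (q.1.1 * q.1.2) * (g : G)⁻¹ by group, hf]
      exact if_congr (hinvP _ _) rfl rfl)
    (fun q hq g hg => by
      by_contra hg1
      have hg' : (g : G) ≠ 1 := fun e => hg1 (Subtype.ext e)
      have e1 : (g : G) * q.1.1 * (g : G)⁻¹ = q.1.1 := congrArg (fun t : α => t.1.1) hg
      have e2 : (g : G) * q.1.2 * (g : G)⁻¹ = q.1.2 := congrArg (fun t : α => t.1.2) hg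
      obtain ⟨h1, h2⟩ := Finset.mem_product.mp q.2
      obtain ⟨a, ha⟩ := mem_nClass_top.mp h1
      obtain ⟨b, hb⟩ := mem_nClass_top.mp h2
      refine hq (if_pos ⟨1, ?_, ?_⟩)
      · simp only [inv_one, one_mul, mul_one]
        rw [← ha] at e1 ⊢
        exact mem_of_commute P hTI hu g.2 hg' e1
      · simp only [inv_one, one_mul, mul_one]
        rw [← hb] at e2 ⊢
        exact mem_of_commute P hTI hw g.2 hg' e2)
    (fun q => by dsimp only [F]; split; exacts [isIntegral_zero, hint _])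
  refine ⟨s, hs, ?_⟩
  rw [← h1, ← hsum, ← Finset.sum_filter_add_sum_filter_not (nClass ⊤ u ×ˢ nClass ⊤ w) inP
    (fun q => f (q.1 * q.2))]
  congr 1
  rw [Finset.sum_filter, Finset.univ_eq_attach, ← Finset.sum_attach (nClass ⊤ u ×ˢ nClass ⊤ w)]
  exact Finset.sum_congr rfl fun q _ => by by_cases h : inP q.1 <;> simp [F, h]

/-- **C1.** For a signed irreducible character `f` with `f u⁻¹ = f u` the two sums over pairs of
`N`-conjugates differ by a multiple of `|P|`. -/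
theorem classPair_congruence (hTI : IsTISubset ((P : Subgroup G) : Set G)) {u : G} (hu : u ∈ (P : Subgroup G))
    (hu1 : u ≠ 1) {f : G → ℂ} (hf : IsSignedIrr f) (hreal : f u⁻¹ = f u) :
    ∃ s : ℂ, IsIntegral ℤ s ∧
      (∑ q ∈ nClass (Subgroup.normalizer ((P : Subgroup G) : Set G)) u ×ˢ
          nClass (Subgroup.normalizer ((P : Subgroup G) : Set G)) u⁻¹, f (q.1 * q.2)) -
        (∑ q ∈ nClass (Subgroup.normalizer ((P : Subgroup G) : Set G)) u ×ˢ
          nClass (Subgroup.normalizer ((P : Subgroup G) : Set G)) u, f (q.1 * q.2)) =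
      (Nat.card (P : Subgroup G) : ℂ) * s := by
  classical
  suffices hirr : ∀ χ : G → ℂ, IsIrrCharacter G χ → χ u⁻¹ = χ u → ∃ s : ℂ, IsIntegral ℤ s ∧
      (∑ q ∈ nClass (Subgroup.normalizer ((P : Subgroup G) : Set G)) u ×ˢ
          nClass (Subgroup.normalizer ((P : Subgroup G) : Set G)) u⁻¹, χ (q.1 * q.2)) -
        (∑ q ∈ nClass (Subgroup.normalizer ((P : Subgroup G) : Set G)) u ×ˢ
          nClass (Subgroup.normalizer ((P : Subgroup G) : Set G)) u, χ (q.1 * q.2)) =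
      (Nat.card (P : Subgroup G) : ℂ) * s by
    rcases hf with h | h
    · exact hirr f h hreal
    · obtain ⟨s, hs, e⟩ := hirr (-f) h (by simp [hreal])
      refine ⟨-s, hs.neg, ?_⟩
      simp only [Pi.neg_apply, Finset.sum_neg_distrib] at e
      linear_combination -e
  intro χ hχ hrealχ
  set N := Subgroup.normalizer ((P : Subgroup G) : Set G) with hN
  have hcl : IsClassFunction G χ := isClassFunction_irr hχ
  have hint : ∀ g, IsIntegral ℤ (χ g) := by
    obtain ⟨m, ρ, -, rfl⟩ := id hχ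
    exact fun g => isIntegral_character ρ g
  set A := ∑ q ∈ nClass N u ×ˢ nClass N u⁻¹, χ (q.1 * q.2) with hA
  set B := ∑ q ∈ nClass N u ×ˢ nClass N u, χ (q.1 * q.2) with hB
  obtain ⟨s₁, hs₁, e₁⟩ := sum_class_pairs P hTI hu hu1 ((P : Subgroup G).inv_mem hu) (inv_ne_one.mpr hu1) hcl hint
  obtain ⟨s₂, hs₂, e₂⟩ := sum_class_pairs P hTI hu hu1 hu hu1 hcl hint
  have hcard : (nClass (⊤ : Subgroup G) u⁻¹).card = (nClass (⊤ : Subgroup G) u).card := by
    refine Finset.card_bij (fun x _ => x⁻¹) (fun x hx => ?_) (fun a _ b _ e => inv_injective e) (fun y hy => ?_)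
    · obtain ⟨g, rfl⟩ := mem_nClass_top.mp hx
      exact mem_nClass_top.mpr ⟨g, by group⟩
    · obtain ⟨g, rfl⟩ := mem_nClass_top.mp hy
      exact ⟨g * u⁻¹ * g⁻¹, mem_nClass_top.mpr ⟨g, rfl⟩, by group⟩
  have heq : ∑ q ∈ nClass ⊤ u ×ˢ nClass ⊤ u⁻¹, χ (q.1 * q.2) = ∑ q ∈ nClass ⊤ u ×ˢ nClass ⊤ u, χ (q.1 * q.2) := by
    refine mul_right_cancel₀ (fun e => irr_ne_zero hχ e : χ 1 ≠ 0) ?_
    rw [sum_class_prod hχ, sum_class_prod hχ, hcard, hrealχ]
  rw [e₁, e₂, ← hA, ← hB] at heq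
  have hco : IsCoprime (N.index : ℤ) (Nat.card (P : Subgroup G) : ℤ) := by
    rw [Int.isCoprime_iff_gcd_eq_one, Int.gcd_natCast_natCast]
    obtain ⟨j, hj⟩ := IsPGroup.iff_card.mp P.isPGroup'
    rw [hj]
    refine Nat.Coprime.pow_right j (((Fact.out : p.Prime).coprime_iff_not_dvd.mpr fun h =>
      P.not_dvd_index (h.trans (Subgroup.index_dvd_of_le Subgroup.le_normalizer))).symm)
  obtain ⟨a, b, hab⟩ := hco
  have habC : (a : ℂ) * (N.index : ℂ) + (b : ℂ) * (Nat.card (P : Subgroup G) : ℂ) = 1 := by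
    exact_mod_cast congrArg (Int.cast (R := ℂ)) hab
  have hv : IsIntegral ℤ (A - B) :=
    (IsIntegral.sum _ fun q _ => hint _).sub (IsIntegral.sum _ fun q _ => hint _)
  refine ⟨(a : ℂ) * (s₂ - s₁) + (b : ℂ) * (A - B),
    (((isIntegral_algebraMap (x := a) : IsIntegral ℤ (algebraMap ℤ ℂ a))).mul (hs₂.sub hs₁)).add
      (((isIntegral_algebraMap (x := b) : IsIntegral ℤ (algebraMap ℤ ℂ b))).mul hv), ?_⟩
  linear_combination (a : ℂ) * heq - (A - B) * habC

end CfsgLib.OddOrder.TypeV
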