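import Cfsg.Agent.Lib.OddOrder.S10.TypeV.Ramify
import Cfsg.Agent.Lib.OddOrder.S10.TypeV.Congruence
import Cfsg.Agent.Lib.CharTheory.InvertingGalois

/-!
Peterfalvi (10.10), case (6.8 c2) of class at least three: the class congruence on the second central layer
and on `W₂`, and what it says about the coefficients of the restriction to `M`.
-/

set_option autoImplicit false
set_option linter.unusedSectionVars false
set_option linter.style.haveILetI false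

namespace CfsgLib.OddOrder.TypeV

open Cfsg CfsgLib.CharTheory CfsgLib.Dade CfsgLib.OddOrder.Found CfsgLib.OddOrder.Ten
open scoped ComplexConjugate commutatorElement

universe u

/-- An integer that is an algebraic integer multiple of another one is divisible by it. -/
theorem dvd_of_integral_mul {a b : ℤ} (hb : b ≠ 0) {s : ℂ} (hs : IsIntegral ℤ s)
    (h : (a : ℂ) = (b : ℂ) * s) : b ∣ a := by
  have hbC : (b : ℂ) ≠ 0 := Int.cast_ne_zero.mpr hb
  obtain ⟨m, hm⟩ := exists_int_of_isIntegral_ratCast (q := (a : ℚ) / b) (by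
    push_cast
    rw [h, mul_div_cancel_left₀ _ hbC]
    exact hs)
  refine ⟨m, ?_⟩
  rw [div_eq_iff (Int.cast_ne_zero.mpr hb)] at hm
  have : ((a : ℤ) : ℚ) = ((b * m : ℤ) : ℚ) := by push_cast; rw [hm, mul_comm]
  exact_mod_cast this

variable {G : Type u} [Group G] [Fintype G] {M : Subgroup G} [Fintype M] {K W₁ W₂ : Subgroup M}
  {H : G → Subgroup G}

namespace TypeVData

variable {d : TenData M K W₁ W₂ H} {p : ℕ} (t : TypeVData d p)
include t

variable (hZ : ⁅K, K⁆ ⊓ Subgroup.centralizer (K : Set M) = W₂)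
include hZ

section Upper

variable {R : Subgroup M} [R.Normal] (hR : R ≤ ⁅K, K⁆) (hW : W₂ ≤ R)
  (hcom : ∀ x ∈ R, ∀ y ∈ K, x * y * x⁻¹ * y⁻¹ ∈ W₂)
include hR hW hcom

/-- The conjugates of an element of `R` outside `W₂` by `K` fill its coset of `W₂`. -/
theorem coset_conj {v : M} (hv : v ∈ R) (hv2 : v ∉ W₂) {z : M} (hz : z ∈ W₂) :
    ∃ k ∈ K, k * v * k⁻¹ = v * z := by
  let f : K →* W₂ := MonoidHom.mk'
    (fun k => ⟨v⁻¹ * k * v * (k : M)⁻¹, by simpa using hcom v⁻¹ (R.inv_mem hv) k k.2⟩) fun k k' => Subtype.ext <| by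
    have hm : v⁻¹ * (k' : M) * v * (k' : M)⁻¹ ∈ W₂ := by simpa using hcom v⁻¹ (R.inv_mem hv) k' k'.2
    have h : (v⁻¹ * (k' : M) * v * (k' : M)⁻¹) * (k : M)⁻¹ = (k : M)⁻¹ * (v⁻¹ * (k' : M) * v * (k' : M)⁻¹) :=
      (t.W₂_central hZ _ hm _ (K.inv_mem k.2)).symm
    show v⁻¹ * ((k : M) * k') * v * ((k : M) * k')⁻¹ =
      (v⁻¹ * (k : M) * v * (k : M)⁻¹) * (v⁻¹ * (k' : M) * v * (k' : M)⁻¹)
    calc v⁻¹ * ((k : M) * k') * v * ((k : M) * k')⁻¹
        = v⁻¹ * (k : M) * v * ((v⁻¹ * (k' : M) * v * (k' : M)⁻¹) * (k : M)⁻¹) := by group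
      _ = _ := by rw [h]; group
  have htop : f.range = ⊤ := by
    haveI : Fact (Nat.card W₂).Prime := ⟨by rw [t.card₂]; exact t.hp⟩
    refine (Subgroup.eq_bot_or_eq_top_of_prime_card f.range).resolve_left fun e => hv2 ?_
    rw [← hZ]
    refine Subgroup.mem_inf.mpr ⟨hR hv, Subgroup.mem_centralizer_iff.mpr fun y hy => ?_⟩
    have h1 : v⁻¹ * y * v * y⁻¹ = 1 := by
      have hmem : f ⟨y, hy⟩ ∈ f.range := ⟨_, rfl⟩
      rw [e, Subgroup.mem_bot] at hmem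
      exact congrArg Subtype.val hmem
    calc y * v = v * (v⁻¹ * y * v * y⁻¹) * y := by group
      _ = v * y := by rw [h1, mul_one]
  obtain ⟨k, hk⟩ : (⟨z, hz⟩ : W₂) ∈ f.range := htop ▸ Subgroup.mem_top _
  refine ⟨k, k.2, ?_⟩
  rw [show z = v⁻¹ * (k : M) * v * (k : M)⁻¹ from (congrArg Subtype.val hk).symm]
  group

omit hR hW in
/-- The class in `M` of an element of `R` has order dividing `p |W₁|`. -/
theorem card_class_dvd {u : M} (hu : u ∈ R) : (nClass M (u : G)).card ∣ p * Nat.card W₁ := by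
  classical
  let φ : M → nClass M (u : G) := fun m => ⟨(m : G) * u * (m : G)⁻¹, mem_nClass.mpr ⟨m, m.2, rfl⟩⟩
  have hiff : ∀ a b : M, φ a = φ b ↔ a⁻¹ * b ∈ Subgroup.centralizer ({u} : Set M) := fun a b => by
    rw [Subgroup.mem_centralizer_singleton_iff, Subtype.ext_iff]
    show (a : G) * u * (a : G)⁻¹ = (b : G) * u * (b : G)⁻¹ ↔ _
    rw [show ((a : G) * u * (a : G)⁻¹ = (b : G) * u * (b : G)⁻¹) ↔ (a * u * a⁻¹ = b * u * b⁻¹) from
      ⟨fun h => Subtype.ext h, fun h => congrArg Subtype.val h⟩]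
    constructor
    · intro h
      calc a⁻¹ * b * u = a⁻¹ * (b * u * b⁻¹) * b := by group
        _ = a⁻¹ * (a * u * a⁻¹) * b := by rw [h]
        _ = _ := by group
    · intro h
      calc a * u * a⁻¹ = a * (u * (a⁻¹ * b)) * b⁻¹ := by group
        _ = a * (a⁻¹ * b * u) * b⁻¹ := by rw [h]
        _ = _ := by group
  have hcard : (Subgroup.centralizer ({u} : Set M)).index = (nClass M (u : G)).card := by
    rw [Subgroup.index, ← Fintype.card_coe, ← Nat.card_eq_fintype_card]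
    refine Nat.card_congr (Equiv.ofBijective
      (Quotient.lift φ fun a b h => (hiff a b).mpr (QuotientGroup.leftRel_apply.mp h)) ⟨?_, ?_⟩)
    · rintro ⟨a⟩ ⟨b⟩ h
      exact QuotientGroup.eq.mpr ((hiff a b).mp h)
    · rintro ⟨x, hx⟩
      obtain ⟨m, hm, e⟩ := mem_nClass.mp hx
      exact ⟨QuotientGroup.mk ⟨m, hm⟩, Subtype.ext e⟩
  let f : K →* W₂ := MonoidHom.mk'
    (fun k => ⟨u * k * u⁻¹ * (k : M)⁻¹, hcom u hu k k.2⟩) fun k k' => Subtype.ext <| by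
    have h : (u * (k' : M) * u⁻¹ * (k' : M)⁻¹) * (k : M)⁻¹ = (k : M)⁻¹ * (u * (k' : M) * u⁻¹ * (k' : M)⁻¹) :=
      (t.W₂_central hZ _ (hcom u hu k' k'.2) _ (K.inv_mem k.2)).symm
    show u * ((k : M) * k') * u⁻¹ * ((k : M) * k')⁻¹ =
      (u * (k : M) * u⁻¹ * (k : M)⁻¹) * (u * (k' : M) * u⁻¹ * (k' : M)⁻¹)
    calc u * ((k : M) * k') * u⁻¹ * ((k : M) * k')⁻¹
        = u * (k : M) * u⁻¹ * ((u * (k' : M) * u⁻¹ * (k' : M)⁻¹) * (k : M)⁻¹) := by group
      _ = _ := by rw [h]; group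
  have hle : f.ker.map K.subtype ≤ Subgroup.centralizer ({u} : Set M) := by
    rintro _ ⟨k, hk, rfl⟩
    have h1 : u * (k : M) * u⁻¹ * (k : M)⁻¹ = 1 := congrArg Subtype.val (MonoidHom.mem_ker.mp hk)
    exact Subgroup.mem_centralizer_singleton_iff.mpr
      (mul_inv_eq_iff_eq_mul.mp (mul_inv_eq_one.mp h1)).symm
  rw [← hcard]
  refine (Subgroup.index_dvd_of_le hle).trans ?_
  rw [Subgroup.index_map_subtype, Subgroup.index_ker, d.prime.index_eq]
  refine mul_dvd_mul_right ?_ _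
  rw [← t.card₂]
  exact Subgroup.card_subgroup_dvd_card _

open Classical in
/-- **C1** on the second layer: the congruence for a signed irreducible constant on `R \ W₂`. -/
theorem upper_congruence {η : G → ℂ} (hη : IsSignedIrr η) {u : M} (hu : u ∈ R) (huW : u ∉ W₂)
    (hconst : ∀ x ∈ R, x ∉ W₂ → η (x : G) = η (u : G)) :
    ∃ s : ℂ, IsIntegral ℤ s ∧ ((p * Nat.card W₁ : ℕ) : ℂ) *
      ((∑ z ∈ (Finset.univ : Finset M).filter (fun z => z ∈ W₂), η (z : G)) - (p : ℂ) * η (u : G)) =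
        (Nat.card K : ℂ) * s := by
  haveI := Fact.mk t.hp
  haveI := d.prime.normal
  haveI := t.W₂_normal hZ
  have hRK : R ≤ K := hR.trans t.derived_lt.le
  have hu1 : u ≠ 1 := fun e => huW (e ▸ W₂.one_mem)
  have hreal : η (u : G)⁻¹ = η (u : G) := hconst u⁻¹ (R.inv_mem hu) fun h => huW (by simpa using W₂.inv_mem h)
  obtain ⟨s, hs, e⟩ := classPair_congruence t.sylowP t.ti_sylowP (t.mem_sylowP.mpr (hRK hu))
    (fun h => hu1 (Subtype.ext h)) hη hreal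
  rw [t.normalizer_sylowP, t.card_sylowP] at e
  set C := nClass M (u : G) with hC
  set C' := nClass M (u : G)⁻¹ with hC'
  set Wf := (Finset.univ : Finset M).filter (fun z => z ∈ W₂) with hWf
  set nf := η (u : G) with hnf
  have hRn : R.Normal := inferInstance
  have hoffC : ∀ q ∈ C ×ˢ C, η (q.1 * q.2) = nf := by
    rintro ⟨x, y⟩ hq
    obtain ⟨hx, hy⟩ := Finset.mem_product.mp hq
    obtain ⟨c, hc, rfl⟩ := mem_nClass.mp hx
    obtain ⟨c', hc', rfl⟩ := mem_nClass.mp hy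
    refine hconst (⟨c, hc⟩ * u * ⟨c, hc⟩⁻¹ * (⟨c', hc'⟩ * u * ⟨c', hc'⟩⁻¹))
      (R.mul_mem (hRn.conj_mem u hu _) (hRn.conj_mem u hu _)) fun hw => huW ?_
    let π := QuotientGroup.mk' W₂
    refine (QuotientGroup.eq_one_iff u).mp (InvertingGalois.eq_one_of_conj_inv (a := π u)
      (d.oddM.of_dvd_nat (Subgroup.index_dvd_card W₂)) (isConj_iff.mpr ⟨(π ⟨c', hc'⟩)⁻¹ * π ⟨c, hc⟩, ?_⟩))
    have h := (QuotientGroup.eq_one_iff _).mpr hw
    change π (⟨c, hc⟩ * u * ⟨c, hc⟩⁻¹ * (⟨c', hc'⟩ * u * ⟨c', hc'⟩⁻¹)) = 1 at h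
    simp only [map_mul, map_inv] at h
    rw [mul_eq_one_iff_eq_inv] at h
    calc (π ⟨c', hc'⟩)⁻¹ * π ⟨c, hc⟩ * π u * ((π ⟨c', hc'⟩)⁻¹ * π ⟨c, hc⟩)⁻¹
        = (π ⟨c', hc'⟩)⁻¹ * (π ⟨c, hc⟩ * π u * (π ⟨c, hc⟩)⁻¹) * π ⟨c', hc'⟩ := by group
      _ = _ := by rw [h]; group
  have hrow : ∀ x ∈ C, ∑ y ∈ C', (η (x * y) - nf) = ∑ z ∈ Wf, (η (z : G) - nf) := by
    intro x hx
    obtain ⟨c, hc, rfl⟩ := mem_nClass.mp hx
    have hzero : ∀ y ∈ C', y ∉ C'.filter (fun y => ∃ z ∈ W₂, (z : G) = c * (u : G) * c⁻¹ * y) →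
        η (c * (u : G) * c⁻¹ * y) - nf = 0 := fun y hy hno => by
      obtain ⟨c', hc', rfl⟩ := mem_nClass.mp hy
      rw [sub_eq_zero]
      exact hconst (⟨c, hc⟩ * u * ⟨c, hc⟩⁻¹ * (⟨c', hc'⟩ * u⁻¹ * ⟨c', hc'⟩⁻¹))
        (R.mul_mem (hRn.conj_mem u hu _) (hRn.conj_mem _ (R.inv_mem hu) _))
        fun hw => hno (Finset.mem_filter.mpr ⟨hy, _, hw, rfl⟩)
    rw [← Finset.sum_subset (Finset.filter_subset _ C') hzero]
    symm
    refine Finset.sum_bij (fun z _ => (c * (u : G) * c⁻¹)⁻¹ * (z : G)) (fun z hz => ?_)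
      (fun a _ b _ e => Subtype.ext (mul_left_cancel e)) (fun y hy => ?_) (fun z _ => ?_)
    · have hz' : z ∈ W₂ := (Finset.mem_filter.mp hz).2
      refine Finset.mem_filter.mpr ⟨mem_nClass.mpr ?_, z, hz', by group⟩
      have hv2 : u⁻¹ ∉ W₂ := fun h => huW (by simpa using W₂.inv_mem h)
      obtain ⟨k, hk, hkk⟩ := t.coset_conj hZ hR hW hcom (R.inv_mem hu) hv2
        ((inferInstance : W₂.Normal).conj_mem z hz' (⟨c, hc⟩ : M)⁻¹)
      refine ⟨c * k, M.mul_mem hc k.2, ?_⟩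
      have e2 : (k : G) * (u : G)⁻¹ * (k : G)⁻¹ = (u : G)⁻¹ * (c⁻¹ * (z : G) * c⁻¹⁻¹) :=
        congrArg Subtype.val hkk
      calc c * (k : G) * (u : G)⁻¹ * (c * (k : G))⁻¹
          = c * ((k : G) * (u : G)⁻¹ * (k : G)⁻¹) * c⁻¹ := by group
        _ = _ := by rw [e2]; group
    · obtain ⟨-, z, hz, e⟩ := Finset.mem_filter.mp hy
      exact ⟨z, Finset.mem_filter.mpr ⟨Finset.mem_univ _, hz⟩, by rw [e]; group⟩
    · rw [← mul_assoc, mul_inv_cancel, one_mul]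
  have hW' : ∑ z ∈ Wf, (η (z : G) - nf) = (∑ z ∈ Wf, η (z : G)) - (p : ℂ) * nf := by
    rw [Finset.sum_sub_distrib, Finset.sum_const, nsmul_eq_mul, hWf, ← Fintype.card_subtype,
      ← Nat.card_eq_fintype_card]
    congr 3
    exact t.card₂
  have hCC : C'.card = C.card := by
    refine Finset.card_bij (fun x _ => x⁻¹) (fun x hx => ?_) (fun a _ b _ e => inv_injective e) (fun y hy => ?_)
    · obtain ⟨g, hg, rfl⟩ := mem_nClass.mp hx
      exact mem_nClass.mpr ⟨g, hg, by group⟩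
    · obtain ⟨g, hg, rfl⟩ := mem_nClass.mp hy
      exact ⟨g * (u : G)⁻¹ * g⁻¹, mem_nClass.mpr ⟨g, hg, rfl⟩, by group⟩
  have h1 : (∑ q ∈ C ×ˢ C', η (q.1 * q.2)) - (∑ q ∈ C ×ˢ C, η (q.1 * q.2)) =
      (C.card : ℂ) * ((∑ z ∈ Wf, η (z : G)) - (p : ℂ) * nf) := by
    rw [Finset.sum_congr rfl hoffC, Finset.sum_const, Finset.card_product, Finset.sum_product,
      Finset.sum_congr rfl fun x hx => show ∑ y ∈ C', η (x * y) =
        (C'.card : ℂ) * nf + ((∑ z ∈ Wf, η (z : G)) - (p : ℂ) * nf) by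
        rw [← hW', ← hrow x hx, Finset.sum_sub_distrib, Finset.sum_const, nsmul_eq_mul]; ring,
      Finset.sum_const, nsmul_eq_mul, nsmul_eq_mul, hCC]
    push_cast
    ring
  rw [h1] at e
  obtain ⟨k, hk⟩ := t.card_class_dvd hZ hcom hu
  refine ⟨(k : ℂ) * s, (isIntegral_nat k).mul hs, ?_⟩
  rw [hk]
  push_cast
  linear_combination (k : ℂ) * e

end Upper

open Classical in
/-- **C1** on `W₂`. -/
theorem centre_congruence {η : G → ℂ} (hη : IsSignedIrr η)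
    (hreal : ∀ z ∈ W₂, η (z : G)⁻¹ = η (z : G)) {z : M} (hz : z ∈ W₂) :
    ∃ s : ℂ, IsIntegral ℤ s ∧ η (1 : G) - η (z : G) = (Nat.card K : ℂ) * s := by
  haveI := Fact.mk t.hp
  haveI := d.prime.normal
  by_cases hz1 : z = 1
  · exact ⟨0, isIntegral_zero, by rw [hz1, mul_zero]; exact sub_self _⟩
  have hord : orderOf z = p := orderOf_eq_prime (by
    have := congrArg Subtype.val (pow_card_eq_one' (x := (⟨z, hz⟩ : W₂)))
    rwa [t.card₂] at this) hz1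
  obtain ⟨j, hj⟩ : ∃ j : ℕ, (z ^ 2) ^ j = z := exists_pow_eq_self_of_coprime (by
    rw [hord]
    exact (Nat.coprime_two_left.mpr (t.hp.odd_of_ne_two (by have := t.two_lt; omega))))
  -- `z = w ^ 2` with `w ∈ W₂`
  set w := z ^ j with hw
  have hwW : w ∈ W₂ := pow_mem hz j
  have hw2 : w * w = z := by rw [hw, ← pow_add, ← two_mul, pow_mul, hj]
  have hw1 : w ≠ 1 := fun e => hz1 (by rw [← hw2, e, one_mul])
  obtain ⟨s, hs, e⟩ := classPair_congruence t.sylowP t.ti_sylowP (t.mem_sylowP.mpr (d.prime.le_kernel hwW))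
    (fun h => hw1 (Subtype.ext h)) hη (hreal w hwW)
  rw [t.normalizer_sylowP, t.card_sylowP] at e
  have hcl : ∀ v : M, v ∈ W₂ → nClass M (v : G) = {(v : G)} := fun v hv => by
    ext x
    rw [Finset.mem_singleton, mem_nClass]
    refine ⟨?_, fun h => ⟨1, M.one_mem, by rw [h]; group⟩⟩
    rintro ⟨m, hm, rfl⟩
    obtain ⟨k, hk, a, ha, hka⟩ : ∃ k ∈ K, ∃ a ∈ W₁, k * a = (⟨m, hm⟩ : M) :=
      Subgroup.mem_sup_of_normal_left.mp (by rw [d.prime.sup_eq_top]; exact Subgroup.mem_top _)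
    have h1 : (⟨m, hm⟩ : M) * v * (⟨m, hm⟩ : M)⁻¹ = v := by
      rw [← hka]
      calc k * a * v * (k * a)⁻¹ = k * (a * v) * a⁻¹ * k⁻¹ := by group
        _ = k * (v * a) * a⁻¹ * k⁻¹ := by rw [d.prime.comm a ha v hv]
        _ = k * v * k⁻¹ := by group
        _ = v := by rw [t.W₂_central hZ v hv k hk, mul_inv_cancel_right]
    exact congrArg Subtype.val h1
  have hinv : (((w⁻¹ : M)) : G) = (w : G)⁻¹ := rfl
  rw [hcl w hwW, ← hinv, hcl w⁻¹ (W₂.inv_mem hwW)] at e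
  simp only [Finset.singleton_product_singleton, Finset.sum_singleton] at e
  refine ⟨s, hs, ?_⟩
  rw [← e, hinv, mul_inv_cancel, ← hw2]
  rfl

end TypeVData

end CfsgLib.OddOrder.TypeV
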