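import Cfsg.Agent.Lib.OddOrder.S10.TypeV.Basic
import Cfsg.Agent.Lib.CharTheory.Partition
import Cfsg.Agent.Lib.Elementary

/-!
Peterfalvi (10.10), case (6.8 c2): the group theory. The central subgroup moved by `W₁`, the perfect pairing
between the second central layer and `K / K'`, and `|K / K'| ≥ p³` when the class is at least three.
-/

set_option autoImplicit false
set_option linter.unusedSectionVars false
set_option linter.style.haveILetI false

namespace CfsgLib.OddOrder.TypeV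

open Cfsg CfsgLib.CharTheory CfsgLib.OddOrder.Found CfsgLib.OddOrder.Ten
open scoped ComplexConjugate commutatorElement

universe u

section General

/-- A `p`-group of class at most two with derived quotient of order `p²` has order dividing `p³`. -/
theorem card_dvd_cube {Q : Type u} [Group Q] [Finite Q] {p : ℕ} [Fact p.Prime]
    (hc : commutator Q ≤ Subgroup.center Q) (hi : (commutator Q).index = p ^ 2) : Nat.card Q ∣ p ^ 3 := by
  have hp : p.Prime := Fact.out
  obtain ⟨q, hq⟩ := exists_prime_orderOf_dvd_card' (G := Q ⧸ commutator Q) p (by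
    rw [← Subgroup.index_eq_card, hi]; exact dvd_pow_self p two_ne_zero)
  set A : Subgroup Q := (Subgroup.zpowers q).comap (QuotientGroup.mk' (commutator Q)) with hA
  have hcA : commutator Q ≤ A := fun x hx => by
    rw [hA, Subgroup.mem_comap, QuotientGroup.mk'_apply, (QuotientGroup.eq_one_iff x).mpr hx]
    exact one_mem _
  have hAidx : A.index = p := by
    rw [hA, Subgroup.index_comap_of_surjective _ (QuotientGroup.mk'_surjective _)]
    have h := Subgroup.card_mul_index (Subgroup.zpowers q)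
    rw [Nat.card_zpowers, hq, ← Subgroup.index_eq_card, hi, pow_two] at h
    exact Nat.eq_of_mul_eq_mul_left hp.pos h
  obtain ⟨g, hg⟩ := QuotientGroup.mk'_surjective (commutator Q) q
  have hcen : ∀ c ∈ commutator Q, ∀ y : Q, y * c = c * y := fun c hc' y =>
    Subgroup.mem_center_iff.mp (hc hc') y
  have hAcomm : ∀ a ∈ A, ∀ b ∈ A, a * b = b * a := by
    have hform : ∀ a ∈ A, ∃ i : ℤ, ∃ c ∈ commutator Q, a = g ^ i * c := fun a ha => by
      obtain ⟨i, hi'⟩ := Subgroup.mem_zpowers_iff.mp (Subgroup.mem_comap.mp (hA ▸ ha))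
      refine ⟨i, (g ^ i)⁻¹ * a, ?_, by group⟩
      rw [← QuotientGroup.eq_one_iff]
      show QuotientGroup.mk' (commutator Q) ((g ^ i)⁻¹ * a) = 1
      rw [map_mul, map_inv, map_zpow, hg, hi', inv_mul_cancel]
    intro a ha b hb
    obtain ⟨i, c, hc1, rfl⟩ := hform a ha
    obtain ⟨j, c', hc2, rfl⟩ := hform b hb
    calc g ^ i * c * (g ^ j * c') = g ^ i * (c * g ^ j) * c' := by group
      _ = g ^ (i + j) * (c * c') := by rw [← hcen c hc1]; group
      _ = g ^ (j + i) * (c' * c) := by rw [add_comm, hcen c' hc2]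
      _ = g ^ j * (g ^ i * c') * c := by group
      _ = _ := by rw [hcen c' hc2]; group
  obtain ⟨h, -, hh⟩ : ∃ h ∈ (⊤ : Subgroup Q), h ∉ A := by
    refine SetLike.exists_of_lt (lt_top_iff_ne_top.mpr fun e => hp.ne_one ?_)
    rw [← hAidx, e, Subgroup.index_top]
  have hAn : A.Normal := Subgroup.Normal.comap
    ⟨fun x hx y => by
      rw [show y * x * y⁻¹ = x from by
        obtain ⟨x, rfl⟩ := QuotientGroup.mk'_surjective (commutator Q) x
        obtain ⟨y, rfl⟩ := QuotientGroup.mk'_surjective (commutator Q) y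
        rw [← map_inv, ← map_mul, ← map_mul, QuotientGroup.mk'_apply, QuotientGroup.mk'_apply, QuotientGroup.eq]
        have hmem : ⁅x⁻¹, y⁆ ∈ commutator Q :=
          Subgroup.commutator_mem_commutator (Subgroup.mem_top _) (Subgroup.mem_top _)
        have := (commutator Q).inv_mem hmem
        simpa [commutatorElement_def, mul_assoc] using this]
      exact hx⟩ _
  have htop : A ⊔ Subgroup.zpowers h = ⊤ := by
    have hlt : A < A ⊔ Subgroup.zpowers h := lt_of_le_of_ne le_sup_left fun e =>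
      hh (e ▸ Subgroup.mem_sup_right (Subgroup.mem_zpowers h))
    have hd := Subgroup.index_dvd_of_le hlt.le
    rw [hAidx] at hd
    rcases (Nat.dvd_prime hp).mp hd with e | e
    · exact Subgroup.index_eq_one.mp e
    · exact absurd (e.trans hAidx.symm) (Subgroup.index_strictAnti hlt).ne
  have hmem : ∀ a : Q, ⁅a, h⁆ ∈ commutator Q := fun a =>
    Subgroup.commutator_mem_commutator (Subgroup.mem_top a) (Subgroup.mem_top h)
  let φ : A →* Q := MonoidHom.mk' (fun a => ⁅(a : Q), h⁆) fun a b => by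
    show ⁅(a : Q) * b, h⁆ = ⁅(a : Q), h⁆ * ⁅(b : Q), h⁆
    rw [show ⁅(a : Q) * b, h⁆ = (a : Q) * ⁅(b : Q), h⁆ * (a : Q)⁻¹ * ⁅(a : Q), h⁆ by
      simp [commutatorElement_def, mul_assoc], hcen _ (hmem b) (a : Q), mul_inv_cancel_right,
      hcen _ (hmem b) ⁅(a : Q), h⁆]
  set N : Subgroup Q := φ.range with hN
  have hNc : N ≤ commutator Q := by
    rintro _ ⟨a, rfl⟩
    exact hmem a
  haveI hNn : N.Normal := ⟨fun n hn y => by rw [hcen n (hNc hn) y, mul_inv_cancel_right]; exact hn⟩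
  -- the quotient by the range is abelian
  have hcN : commutator Q ≤ N := by
    let π := QuotientGroup.mk' N
    have hAh : ∀ a ∈ A, π a * π h = π h * π a := fun a ha => by
      rw [← commutatorElement_eq_one_iff_mul_comm, ← map_commutatorElement]
      exact (QuotientGroup.eq_one_iff _).mpr ⟨⟨a, ha⟩, rfl⟩
    have hAll : ∀ a ∈ A, ∀ y : Q, π a * π y = π y * π a := fun a ha y => by
      have hle : (⊤ : Subgroup Q) ≤ (Subgroup.centralizer {π a}).comap π := by
        rw [← htop]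
        refine sup_le (fun b hb => ?_) (Subgroup.zpowers_le.mpr ?_)
        · rw [Subgroup.mem_comap, Subgroup.mem_centralizer_singleton_iff, ← map_mul, ← map_mul, hAcomm b hb a ha]
        · rw [Subgroup.mem_comap, Subgroup.mem_centralizer_singleton_iff]
          exact (hAh a ha).symm
      exact (Subgroup.mem_centralizer_singleton_iff.mp (hle (Subgroup.mem_top y))).symm
    have hh' : ∀ y : Q, π h * π y = π y * π h := fun y => by
      have hle : (⊤ : Subgroup Q) ≤ (Subgroup.centralizer {π h}).comap π := by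
        rw [← htop]
        refine sup_le (fun b hb => ?_) (Subgroup.zpowers_le.mpr ?_)
        · rw [Subgroup.mem_comap, Subgroup.mem_centralizer_singleton_iff]
          exact hAh b hb
        · rw [Subgroup.mem_comap, Subgroup.mem_centralizer_singleton_iff]
      exact (Subgroup.mem_centralizer_singleton_iff.mp (hle (Subgroup.mem_top y))).symm
    rw [commutator_def, Subgroup.commutator_le]
    intro x _ y _
    rw [← QuotientGroup.eq_one_iff]
    show π ⁅x, y⁆ = 1
    rw [map_commutatorElement, commutatorElement_eq_one_iff_mul_comm]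
    have hle : (⊤ : Subgroup Q) ≤ (Subgroup.centralizer {π y}).comap π := by
      rw [← htop]
      refine sup_le (fun b hb => ?_) (Subgroup.zpowers_le.mpr ?_)
      · rw [Subgroup.mem_comap, Subgroup.mem_centralizer_singleton_iff]
        exact hAll b hb y
      · rw [Subgroup.mem_comap, Subgroup.mem_centralizer_singleton_iff]
        exact hh' y
    exact Subgroup.mem_centralizer_singleton_iff.mp (hle (Subgroup.mem_top x))
  have hker : (commutator Q).subgroupOf A ≤ φ.ker := fun a ha => by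
    show ⁅(a : Q), h⁆ = 1
    rw [commutatorElement_eq_one_iff_mul_comm]
    exact (hcen _ ha h).symm
  have hr : Nat.card N ∣ p := by
    have h1 := Subgroup.relIndex_mul_index hcA
    rw [hi, hAidx, pow_two] at h1
    rw [← Nat.eq_of_mul_eq_mul_right hp.pos h1, hN, ← Subgroup.index_ker φ]
    exact Subgroup.index_dvd_of_le hker
  rw [← Subgroup.card_mul_index (commutator Q), hi, pow_succ' p 2]
  exact mul_dvd_mul_right ((Subgroup.card_dvd_of_le hcN).trans hr) _

/-- A subgroup of a nilpotent subgroup contained in its own commutator with it is trivial. -/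
theorem eq_bot_of_le_commutator {L : Type u} [Group L] {K N : Subgroup L} (hK : Group.IsNilpotent K)
    (hNK : N ≤ K) (h : N ≤ ⁅N, K⁆) : N = ⊥ := by
  obtain ⟨n, hn⟩ := (Subgroup.isNilpotent_iff_lowerCentralSeries K).mp hK
  have key : ∀ m, N ≤ K.lowerCentralSeries m := fun m => by
    induction m with
    | zero => exact hNK
    | succ m ih => exact h.trans (Subgroup.commutator_mono ih le_rfl)
  exact le_bot_iff.mp (hn ▸ key n)

/-- At a central element an irreducible character is multiplicative. -/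
theorem irr_central_mul {X : Type u} [Group X] [Fintype X] {θ : X → ℂ} (hθ : IsIrrCharacter X θ) {z : X}
    (hz : ∀ y, y * z = z * y) (x : X) : θ (z * x) * θ 1 = θ z * θ x := by
  obtain ⟨m, ρ, hρ, rfl⟩ := hθ
  obtain ⟨ω, hω⟩ := exists_scalar_of_mem_center ρ (Subgroup.mem_center_iff.mpr hz)
  have e : ∀ y, ρ.character (z * y) = ω * ρ.character y := fun y => by
    simp only [Representation.character, map_mul, hω, Module.End.mul_eq_comp, LinearMap.smul_comp,
      LinearMap.id_comp, map_smul, smul_eq_mul]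
  have e1 := e 1
  rw [mul_one] at e1
  rw [e x, e1]
  ring

/-- A character vanishes at an element that some conjugation multiplies by a non-kernel central element. -/
theorem vanish_of_commutator {X : Type u} [Group X] [Fintype X] {θ : X → ℂ} (hθ : IsIrrCharacter X θ)
    {g h z : X} (hz : ∀ y, y * z = z * y) (he : h * g * h⁻¹ = z * g) (hne : θ z ≠ θ 1) : θ g = 0 := by
  have e := irr_central_mul hθ hz g
  rw [← he, (isClassFunction_irr hθ) g h, mul_comm (θ g)] at e
  by_contra h0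
  exact hne (mul_right_cancel₀ h0 e).symm

/-- The number of linear characters is at most the order. -/
theorem natCard_hom_le (A : Type u) [Group A] [Finite A] : Nat.card (A →* ℂˣ) ≤ Nat.card A := by
  rw [Partition.natCard_hom]
  exact Nat.le_of_dvd Nat.card_pos (Subgroup.index_dvd_card _)

end General

variable {G : Type u} [Group G] [Fintype G] {M : Subgroup G} [Fintype M] {K W₁ W₂ : Subgroup M}
  {H : G → Subgroup G}

namespace TypeVData

variable {d : TenData M K W₁ W₂ H} {p : ℕ} (t : TypeVData d p)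
include t

theorem nilK : Group.IsNilpotent K := by
  haveI := Fact.mk t.hp
  exact t.pgroup.isNilpotent

theorem derived_ne_bot : ⁅K, K⁆ ≠ ⊥ := fun e => d.prime.ne_bot₂ (eq_bot_iff.mpr (d.le_derived.trans e.le))

theorem centre_ne_bot : ⁅K, K⁆ ⊓ Subgroup.centralizer (K : Set M) ≠ ⊥ := by
  haveI := t.nilK
  have hne : commutator K ≠ ⊥ := fun e => t.derived_ne_bot <| by
    rw [← Subgroup.map_subtype_commutator, e, Subgroup.map_bot]
  obtain ⟨x, hx, hx1⟩ := SetLike.exists_of_lt (bot_lt_iff_ne_bot.mpr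
    (CfsgLib.inf_center_ne_bot_of_nilpotent (N := commutator K) hne))
  intro e
  refine hx1 (Subgroup.mem_bot.mpr (Subtype.ext (Subgroup.mem_bot.mp ?_)))
  rw [← e]
  refine Subgroup.mem_inf.mpr ⟨?_, ?_⟩
  · rw [← Subgroup.map_subtype_commutator]
    exact ⟨x, hx.1, rfl⟩
  · rw [Subgroup.mem_centralizer_iff]
    exact fun k hk => congrArg Subtype.val (Subgroup.mem_center_iff.mp hx.2 ⟨k, hk⟩)

/-- A non-trivial subgroup of `W₂` is the whole of it. -/
theorem W₂_le_of_inter {A : Subgroup M} (h : A ⊓ W₂ ≠ ⊥) : W₂ ≤ A := by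
  have hd := Subgroup.card_dvd_of_le (inf_le_right : A ⊓ W₂ ≤ W₂)
  rw [t.card₂] at hd
  rcases (Nat.dvd_prime t.hp).mp hd with e | e
  · exact absurd (Subgroup.card_eq_one.mp e) h
  · have := Subgroup.eq_of_le_of_card_ge (inf_le_right : A ⊓ W₂ ≤ W₂) (by rw [e, t.card₂])
    exact this.ge.trans inf_le_left

/-- **The case split**: either some central subgroup of `K'` meets `W₂` trivially, or `K' ∩ Z(K) = W₂`. -/
theorem central_cases :
    (∃ Z : Subgroup M, Z.Normal ∧ Z ≠ ⊥ ∧ Z ≤ ⁅K, K⁆ ∧ Z ≤ Subgroup.centralizer (K : Set M) ∧ Z ⊓ W₂ = ⊥) ∨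
      ⁅K, K⁆ ⊓ Subgroup.centralizer (K : Set M) = W₂ := by
  classical
  haveI := d.prime.normal
  set Z₀ := ⁅K, K⁆ ⊓ Subgroup.centralizer (K : Set M) with hZ₀
  by_cases h0 : Z₀ ⊓ W₂ = ⊥
  · exact Or.inl ⟨Z₀, inferInstance, t.centre_ne_bot, inf_le_left, inf_le_right, h0⟩
  by_cases heq : Z₀ = W₂
  · exact Or.inr heq
  have hW : W₂ ≤ Z₀ := t.W₂_le_of_inter h0
  obtain ⟨w, hw, hw1⟩ := SetLike.exists_of_lt (bot_lt_iff_ne_bot.mpr d.prime.ne_bot₁)
  replace hw1 : w ≠ 1 := fun e => hw1 (Subgroup.mem_bot.mpr e)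
  have hn : Z₀.Normal := inferInstance
  have hK0 : Z₀ ≤ K := inf_le_left.trans (Subgroup.commutator_le_left K K)
  have hcom : ∀ z ∈ Z₀, ∀ k ∈ K, k * z = z * k := fun z hz k hk =>
    Subgroup.mem_centralizer_iff.mp hz.2 k hk
  have hmem : ∀ z ∈ Z₀, w * z * w⁻¹ * z⁻¹ ∈ Z₀ := fun z hz =>
    Z₀.mul_mem (hn.conj_mem z hz w) (Z₀.inv_mem hz)
  let φ : Z₀ →* M := MonoidHom.mk' (fun z => w * z * w⁻¹ * (z : M)⁻¹) fun a b => by
    show w * ((a : M) * b) * w⁻¹ * ((a : M) * b)⁻¹ = (w * a * w⁻¹ * (a : M)⁻¹) * (w * b * w⁻¹ * (b : M)⁻¹)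
    have e2 : (w * b * w⁻¹ * (b : M)⁻¹) * (a : M)⁻¹ = (a : M)⁻¹ * (w * b * w⁻¹ * (b : M)⁻¹) :=
      (hcom _ (hmem b b.2) _ (K.inv_mem (hK0 a.2))).symm
    calc w * ((a : M) * b) * w⁻¹ * ((a : M) * b)⁻¹
        = (w * a * w⁻¹) * ((w * b * w⁻¹ * (b : M)⁻¹) * (a : M)⁻¹) := by group
      _ = _ := by rw [e2]; group
  refine Or.inl ⟨φ.range, ?_, ?_, ?_, ?_, ?_⟩
  · refine ⟨?_⟩
    rintro _ ⟨z, rfl⟩ x
    obtain ⟨k, hk, a, ha, rfl⟩ : ∃ k ∈ K, ∃ a ∈ W₁, k * a = x :=
      Subgroup.mem_sup_of_normal_left.mp (by rw [d.prime.sup_eq_top]; exact Subgroup.mem_top x)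
    have hwa : a * w = w * a := congrArg Subtype.val (d.prime.comm₁ ⟨a, ha⟩ ⟨w, hw⟩)
    refine ⟨⟨a * z * a⁻¹, hn.conj_mem _ z.2 a⟩, ?_⟩
    show w * (a * z * a⁻¹) * w⁻¹ * (a * z * a⁻¹)⁻¹ = k * a * (w * z * w⁻¹ * (z : M)⁻¹) * (k * a)⁻¹
    have h1 : k * (a * (w * z * w⁻¹ * (z : M)⁻¹) * a⁻¹) = a * (w * z * w⁻¹ * (z : M)⁻¹) * a⁻¹ * k :=
      hcom _ (hn.conj_mem _ (hmem z z.2) a) k hk
    calc w * (a * z * a⁻¹) * w⁻¹ * (a * z * a⁻¹)⁻¹
        = (w * a) * z * (w * a)⁻¹ * (a * (z : M)⁻¹ * a⁻¹) := by group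
      _ = a * (w * z * w⁻¹ * (z : M)⁻¹) * a⁻¹ := by rw [← hwa]; group
      _ = a * (w * z * w⁻¹ * (z : M)⁻¹) * a⁻¹ * k * k⁻¹ := by group
      _ = _ := by rw [← h1]; group
  · intro e
    refine heq (le_antisymm (fun z hz => ?_) hW)
    have h1 : φ ⟨z, hz⟩ = 1 := by
      have : φ ⟨z, hz⟩ ∈ φ.range := ⟨_, rfl⟩
      rwa [e, Subgroup.mem_bot] at this
    rw [← d.prime.centralizer_eq w hw hw1]
    refine Subgroup.mem_inf.mpr ⟨hK0 hz, Subgroup.mem_centralizer_singleton_iff.mpr ?_⟩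
    have h2 : w * z * w⁻¹ = z := mul_inv_eq_one.mp h1
    exact (mul_inv_eq_iff_eq_mul.mp h2).symm
  · rintro _ ⟨z, rfl⟩
    exact (hmem z z.2).1
  · rintro _ ⟨z, rfl⟩
    exact (hmem z z.2).2
  · rw [eq_bot_iff]
    rintro c ⟨⟨z, rfl⟩, hc2⟩
    set c := φ z with hc
    have hcw : w * c = c * w := (d.prime.comm w hw c hc2)
    have hpow : ∀ i : ℕ, w ^ i * z * (w ^ i)⁻¹ = c ^ i * z := by
      intro i
      induction i with
      | zero => simp
      | succ i ih =>
        have h1 : w * (z : M) * w⁻¹ = c * z := by rw [hc]; show _ = w * z * w⁻¹ * (z : M)⁻¹ * z; group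
        have h2 : w * c ^ i = c ^ i * w := ((show Commute w c from hcw).pow_right i).eq
        calc w ^ (i + 1) * z * (w ^ (i + 1))⁻¹ = w * (w ^ i * z * (w ^ i)⁻¹) * w⁻¹ := by rw [pow_succ']; group
          _ = w * (c ^ i * z) * w⁻¹ := by rw [ih]
          _ = w * c ^ i * (z * w⁻¹) := by group
          _ = c ^ i * (w * z * w⁻¹) := by rw [h2]; group
          _ = c ^ (i + 1) * z := by rw [h1, pow_succ]; group
    have h3 := hpow (orderOf w)
    rw [pow_orderOf_eq_one, one_mul, inv_one, mul_one, eq_comm, mul_eq_right] at h3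
    have h4 : c ^ p = 1 := by
      have := congrArg Subtype.val (pow_card_eq_one' (x := (⟨c, hc2⟩ : W₂)))
      rwa [t.card₂] at this
    have hg : Nat.gcd (orderOf w) p = 1 :=
      Nat.Coprime.coprime_dvd_left (W₁.orderOf_dvd_natCard hw) t.coprime_w
    have h5 := pow_gcd_eq_one.mpr ⟨h3, h4⟩
    rw [hg, pow_one] at h5
    exact Subgroup.mem_bot.mpr h5

/-- A member with kernel missing a central subgroup that meets `W₂` trivially is irreducible. -/
theorem irr_of_not_kernel {Z : Subgroup M} [Z.Normal] (hZc : Z ≤ Subgroup.centralizer (K : Set M))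
    (hZK : Z ≤ K) (hZ2 : Z ⊓ W₂ = ⊥) {φ : M → ℂ}
    (hφ : φ ∈ inducedIrrAbove K (⊥ : Subgroup M)) (hnot : φ ∉ inducedIrrAbove K Z) : IsIrrCharacter M φ := by
  classical
  haveI := d.prime.normal
  haveI := Fintype.ofFinite K
  obtain ⟨θ, hθ, h1, -, rfl⟩ := hφ
  refine d.prime.isIrr_indFun_of_ne hθ fun b e => hnot ⟨θ, hθ, h1, fun a ha => ?_, rfl⟩
  obtain ⟨w, hw, hw1⟩ := SetLike.exists_of_lt (bot_lt_iff_ne_bot.mpr d.prime.ne_bot₁)
  replace hw1 : w ≠ 1 := fun e => hw1 (Subgroup.mem_bot.mpr e)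
  have hn : Z.Normal := inferInstance
  let f : Z → Z := fun z => ⟨w * z * w⁻¹ * (z : M)⁻¹, Z.mul_mem (hn.conj_mem z z.2 w) (Z.inv_mem z.2)⟩
  have hf : Function.Injective f := fun z z' ez => by
    have ez' : w * (z : M) * w⁻¹ * (z : M)⁻¹ = w * (z' : M) * w⁻¹ * (z' : M)⁻¹ := congrArg Subtype.val ez
    have hcz : (z : M)⁻¹ * z' = (z' : M) * (z : M)⁻¹ :=
      (Subgroup.mem_centralizer_iff.mp (hZc z'.2) (z : M)⁻¹ (hZK (Z.inv_mem z.2)))
    have hfix : w * ((z : M)⁻¹ * z') = (z : M)⁻¹ * z' * w := by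
      calc w * ((z : M)⁻¹ * z')
          = (w * (z : M) * w⁻¹ * (z : M)⁻¹ * z)⁻¹ * (w * (z' : M) * w⁻¹ * (z' : M)⁻¹ * z') * w := by group
        _ = _ := by rw [ez']; group
    have hin : (z : M)⁻¹ * z' ∈ Z ⊓ W₂ := by
      refine Subgroup.mem_inf.mpr ⟨Z.mul_mem (Z.inv_mem z.2) z'.2, ?_⟩
      rw [← d.prime.centralizer_eq w hw hw1]
      exact Subgroup.mem_inf.mpr ⟨hZK (Z.mul_mem (Z.inv_mem z.2) z'.2),
        Subgroup.mem_centralizer_singleton_iff.mpr hfix.symm⟩
    rw [hZ2, Subgroup.mem_bot, inv_mul_eq_one] at hin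
    exact Subtype.ext hin
  obtain ⟨z, hz⟩ := (Finite.injective_iff_surjective.mp hf) ⟨a, ha⟩
  have hz' : (a : M) * z = w * z * w⁻¹ := by
    rw [show (a : M) = w * z * w⁻¹ * (z : M)⁻¹ from (congrArg Subtype.val hz).symm]; group
  have hcen : ∀ x : K, (x : M) ∈ Z → ∀ y : K, y * x = x * y := fun x hx y =>
    Subtype.ext (Subgroup.mem_centralizer_iff.mp (hZc hx) y y.2)
  let zK : K := ⟨z, hZK z.2⟩
  have hinv : θ (a * zK) = θ zK := by
    have h := d.prime.colChar_invariant b w zK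
    rw [← e] at h
    refine Eq.trans (congrArg θ (Subtype.ext ?_)) h
    show (a : M) * z = _
    rw [hz']
  have hmul := irr_central_mul hθ (hcen a ha) zK
  rw [hinv] at hmul
  have hzK : θ zK ≠ 0 := fun e0 => by
    have h2 := irr_central_mul hθ (hcen zK z.2) zK⁻¹
    rw [mul_inv_cancel, e0, zero_mul] at h2
    exact irr_ne_zero hθ (mul_self_eq_zero.mp h2)
  exact (mul_right_cancel₀ hzK (by rw [← hmul]; ring)).symm

section Centre

variable (hZ : ⁅K, K⁆ ⊓ Subgroup.centralizer (K : Set M) = W₂)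
include hZ

theorem W₂_normal : W₂.Normal := by
  haveI := d.prime.normal
  exact hZ ▸ inferInstance

theorem W₂_central : ∀ z ∈ W₂, ∀ k ∈ K, k * z = z * k := fun z hz k hk =>
  Subgroup.mem_centralizer_iff.mp (hZ.ge hz).2 k hk

/-- The second central layer inside `K'`. -/
theorem exists_upper_layer : ∃ R : Subgroup M, R.Normal ∧ W₂ ≤ R ∧ R ≤ ⁅K, K⁆ ∧
    (∀ x ∈ R, ∀ y ∈ K, x * y * x⁻¹ * y⁻¹ ∈ W₂) ∧
    ∀ x ∈ ⁅K, K⁆, (∀ y ∈ K, x * y * x⁻¹ * y⁻¹ ∈ W₂) → x ∈ R := by
  haveI := d.prime.normal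
  haveI := t.W₂_normal hZ
  haveI : (K.map (QuotientGroup.mk' W₂)).Normal :=
    Subgroup.Normal.map inferInstance _ (QuotientGroup.mk'_surjective _)
  have hiff : ∀ x : M, x ∈ (Subgroup.centralizer ((K.map (QuotientGroup.mk' W₂) : Subgroup (M ⧸ W₂)) :
      Set (M ⧸ W₂))).comap (QuotientGroup.mk' W₂) ↔ ∀ y ∈ K, x * y * x⁻¹ * y⁻¹ ∈ W₂ := fun x => by
    rw [Subgroup.mem_comap, Subgroup.mem_centralizer_iff]
    constructor
    · intro h y hy
      have := h _ ⟨y, hy, rfl⟩
      rw [← QuotientGroup.eq_one_iff]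
      show QuotientGroup.mk' W₂ (x * y * x⁻¹ * y⁻¹) = 1
      rw [map_mul, map_mul, map_mul, map_inv, map_inv, ← this]
      group
    · rintro h _ ⟨y, hy, rfl⟩
      have := (QuotientGroup.eq_one_iff _).mpr (h y hy)
      change QuotientGroup.mk' W₂ (x * y * x⁻¹ * y⁻¹) = 1 at this
      rw [map_mul, map_mul, map_mul, map_inv, map_inv] at this
      rw [mul_inv_eq_one, mul_inv_eq_iff_eq_mul] at this
      exact this.symm
  refine ⟨⁅K, K⁆ ⊓ (Subgroup.centralizer ((K.map (QuotientGroup.mk' W₂) : Subgroup (M ⧸ W₂)) :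
    Set (M ⧸ W₂))).comap (QuotientGroup.mk' W₂), inferInstance, le_inf d.le_derived fun z hz => ?_,
    inf_le_left, fun x hx => (hiff x).mp hx.2, fun x hx h => ⟨hx, (hiff x).mpr h⟩⟩
  refine (hiff z).mpr fun y hy => ?_
  rw [show z * y * z⁻¹ * y⁻¹ = 1 by rw [← t.W₂_central hZ z hz y hy]; group]
  exact one_mem _

variable {R : Subgroup M} [R.Normal] (hR : R ≤ ⁅K, K⁆) (hW : W₂ ≤ R)
  (hcom : ∀ x ∈ R, ∀ y ∈ K, x * y * x⁻¹ * y⁻¹ ∈ W₂)
  (hmax : ∀ x ∈ ⁅K, K⁆, (∀ y ∈ K, x * y * x⁻¹ * y⁻¹ ∈ W₂) → x ∈ R)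
include hR hW hcom hmax

theorem upper_ne (hcl : ¬ ⁅K, K⁆ ≤ W₂) : R ≠ W₂ := by
  haveI := d.prime.normal
  haveI := t.W₂_normal hZ
  haveI := t.nilK
  intro e
  let π := QuotientGroup.mk' (W₂.subgroupOf K)
  have hne : commutator (K ⧸ W₂.subgroupOf K) ≠ ⊥ := fun e0 => hcl <| by
    rw [← Subgroup.map_subtype_commutator]
    rintro _ ⟨x, hx, rfl⟩
    have hπ : π x ∈ (commutator K).map π := Subgroup.mem_map_of_mem π hx
    rw [map_commutator_eq, MonoidHom.range_eq_top.mpr (QuotientGroup.mk'_surjective _), ← commutator_def, e0,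
      Subgroup.mem_bot] at hπ
    exact (QuotientGroup.eq_one_iff x).mp hπ
  obtain ⟨q, hq, hq1⟩ := SetLike.exists_of_lt (bot_lt_iff_ne_bot.mpr
    (CfsgLib.inf_center_ne_bot_of_nilpotent (N := commutator (K ⧸ W₂.subgroupOf K)) hne))
  obtain ⟨x, hx, hxq⟩ : q ∈ (commutator K).map π := by
    rw [map_commutator_eq, MonoidHom.range_eq_top.mpr (QuotientGroup.mk'_surjective _), ← commutator_def]
    exact hq.1
  subst hxq
  refine hq1 (Subgroup.mem_bot.mpr ((QuotientGroup.eq_one_iff x).mpr ?_))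
  show (x : M) ∈ W₂
  rw [← e]
  refine hmax _ (by rw [← Subgroup.map_subtype_commutator]; exact ⟨x, hx, rfl⟩) fun y hy => ?_
  have h := Subgroup.mem_center_iff.mp hq.2 (π ⟨y, hy⟩)
  have h' : π (x * ⟨y, hy⟩ * x⁻¹ * (⟨y, hy⟩ : K)⁻¹) = 1 := by
    rw [map_mul, map_mul, map_mul, map_inv, map_inv, ← h]
    group
  exact Subgroup.mem_subgroupOf.mp ((QuotientGroup.eq_one_iff _).mp h')

/-- **The pairing**: `R / W₂` has the order of `K / K'`. -/
theorem upper_relIndex (hne : R ≠ W₂) : W₂.relIndex R = ⁅K, K⁆.relIndex K := by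
  classical
  haveI := d.prime.normal
  haveI := t.W₂_normal hZ
  have hRK : R ≤ K := hR.trans (Subgroup.commutator_le_left K K)
  obtain ⟨b, hb⟩ : ∃ b : W₂ →* ℂˣ, b ≠ 1 := by
    haveI := Fintype.ofFinite (W₂ →* ℂˣ)
    exact Fintype.exists_ne_of_one_lt_card (by have := d.three_le_hom₂; omega) 1
  have hbinj : Function.Injective b := by
    haveI : Fact (Nat.card W₂).Prime := ⟨by rw [t.card₂]; exact t.hp⟩
    rw [← MonoidHom.ker_eq_bot_iff]
    rcases Subgroup.eq_bot_or_eq_top_of_prime_card b.ker with e | e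
    · exact e
    · exact absurd (MonoidHom.ext fun x => (MonoidHom.mem_ker.mp (e ▸ Subgroup.mem_top x))) hb
  let c : R → K → W₂ := fun x y => ⟨(x : M) * y * (x : M)⁻¹ * (y : M)⁻¹, hcom x x.2 y y.2⟩
  have hcK : ∀ x y, (c x y : M) ∈ Subgroup.centralizer (K : Set M) := fun x y => (hZ.ge (c x y).2).2
  have hyl : ∀ x (y y' : K), c x (y * y') = c x y * c x y' := fun x y y' => Subtype.ext <| by
    have h1 : (y : M) * (c x y' : M) = (c x y' : M) * y :=
      Subgroup.mem_centralizer_iff.mp (hcK x y') y y.2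
    show (x : M) * ((y : M) * y') * (x : M)⁻¹ * ((y : M) * y')⁻¹ = (c x y : M) * (c x y' : M)
    calc (x : M) * ((y : M) * y') * (x : M)⁻¹ * ((y : M) * y')⁻¹
        = (c x y : M) * ((y : M) * (c x y' : M) * (y : M)⁻¹) := by simp only [c]; group
      _ = _ := by rw [h1, mul_inv_cancel_right]
  have hxl : ∀ (x x' : R) y, c (x * x') y = c x y * c x' y := fun x x' y => Subtype.ext <| by
    have h1 : (x : M) * (c x' y : M) = (c x' y : M) * x :=
      Subgroup.mem_centralizer_iff.mp (hcK x' y) x (hRK x.2)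
    have h2 : (c x' y : M) * (c x y : M) = (c x y : M) * (c x' y : M) :=
      congrArg Subtype.val (d.prime.comm₂ (c x' y) (c x y))
    show (x : M) * x' * (y : M) * ((x : M) * x')⁻¹ * (y : M)⁻¹ = (c x y : M) * (c x' y : M)
    calc (x : M) * x' * (y : M) * ((x : M) * x')⁻¹ * (y : M)⁻¹
        = ((x : M) * (c x' y : M)) * ((y : M) * (x : M)⁻¹ * (y : M)⁻¹) := by simp only [c]; group
      _ = (c x' y : M) * (c x y : M) := by rw [h1]; simp only [c]; group
      _ = _ := h2
  refine le_antisymm ?_ ?_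
  · let F : R →* (K →* ℂˣ) := MonoidHom.mk'
      (fun x => MonoidHom.mk' (fun y => b (c x y)) fun y y' => by simp only [hyl, map_mul])
      fun x x' => MonoidHom.ext fun y => by simp [hxl]
    have hker : F.ker ≤ W₂.subgroupOf R := fun x hx => by
      rw [Subgroup.mem_subgroupOf, ← hZ]
      refine Subgroup.mem_inf.mpr ⟨hR x.2, Subgroup.mem_centralizer_iff.mpr fun y hy => ?_⟩
      have h := DFunLike.congr_fun (MonoidHom.mem_ker.mp hx) (⟨y, hy⟩ : K)
      have h' : c x ⟨y, hy⟩ = 1 := hbinj (h.trans (map_one b).symm)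
      exact (mul_inv_eq_iff_eq_mul.mp (mul_inv_eq_one.mp (congrArg Subtype.val h'))).symm
    haveI : Finite (K →* ℂˣ) := Nat.finite_of_card_ne_zero (by
      rw [Partition.natCard_hom]; exact Subgroup.index_ne_zero_of_finite)
    calc W₂.relIndex R = (W₂.subgroupOf R).index := rfl
      _ ≤ F.ker.index := Nat.le_of_dvd (Nat.pos_of_ne_zero Subgroup.index_ne_zero_of_finite)
          (Subgroup.index_dvd_of_le hker)
      _ ≤ Nat.card (K →* ℂˣ) := by rw [Subgroup.index_ker]; exact Subgroup.card_le_card_group _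
      _ = _ := by
        rw [Partition.natCard_hom, Subgroup.relIndex, ← Subgroup.map_subtype_commutator, Subgroup.subgroupOf,
          Subgroup.comap_map_eq_self_of_injective K.subtype_injective]
  · have hW' : ∀ (y : K), ∀ x ∈ W₂.subgroupOf R, c x y = 1 := fun y x hx => Subtype.ext <| by
      show (x : M) * y * (x : M)⁻¹ * (y : M)⁻¹ = 1
      rw [← t.W₂_central hZ x hx y y.2]
      group
    let F : K →* ((R ⧸ W₂.subgroupOf R) →* ℂˣ) := MonoidHom.mk'
      (fun y => QuotientGroup.lift (W₂.subgroupOf R)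
        (MonoidHom.mk' (fun x => b (c x y)) fun x x' => by simp only [hxl, map_mul])
        (fun x hx => by simp [MonoidHom.mem_ker, hW' y x hx]))
      fun y y' => by
        refine MonoidHom.ext fun q => ?_
        induction q using QuotientGroup.induction_on with
        | _ x => simp [hyl]
    set C := K ⊓ Subgroup.centralizer (R : Set M) with hC
    have hC1 : ⁅K, K⁆ ≤ C := by
      refine Subgroup.commutator_le.mpr fun y hy y' hy' => ?_
      refine Subgroup.mem_inf.mpr ⟨Subgroup.commutator_le_left K K (Subgroup.commutator_mem_commutator hy hy'),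
        Subgroup.mem_centralizer_iff.mpr fun x hx => ?_⟩
      let f : K →* W₂ := MonoidHom.mk' (c ⟨x, hx⟩) (hyl ⟨x, hx⟩)
      have h : f ⁅(⟨y, hy⟩ : K), ⟨y', hy'⟩⁆ = 1 := by
        rw [map_commutatorElement, commutatorElement_eq_one_iff_mul_comm]
        exact d.prime.comm₂ _ _
      exact mul_inv_eq_iff_eq_mul.mp (mul_inv_eq_one.mp (congrArg Subtype.val h))
    have hC2 : C ≠ K := fun e => by
      refine hne (le_antisymm (fun x hx => ?_) hW)
      rw [← hZ]
      refine Subgroup.mem_inf.mpr ⟨hR hx, Subgroup.mem_centralizer_iff.mpr fun y hy => ?_⟩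
      have hyC : y ∈ C := e.symm ▸ hy
      exact (Subgroup.mem_centralizer_iff.mp hyC.2 x hx).symm
    have hCeq : C = ⁅K, K⁆ := (t.chief C inferInstance hC1 inf_le_left).resolve_right hC2
    have hker : F.ker ≤ (⁅K, K⁆).subgroupOf K := fun y hy => by
      rw [Subgroup.mem_subgroupOf, ← hCeq]
      refine Subgroup.mem_inf.mpr ⟨y.2, Subgroup.mem_centralizer_iff.mpr fun x hx => ?_⟩
      have h := DFunLike.congr_fun (MonoidHom.mem_ker.mp hy) (QuotientGroup.mk (⟨x, hx⟩ : R))
      have h' : c ⟨x, hx⟩ y = 1 := hbinj (h.trans (map_one b).symm)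
      exact mul_inv_eq_iff_eq_mul.mp (mul_inv_eq_one.mp (congrArg Subtype.val h'))
    haveI : Finite ((R ⧸ W₂.subgroupOf R) →* ℂˣ) := Nat.finite_of_card_ne_zero (by
      rw [Partition.natCard_hom]; exact Subgroup.index_ne_zero_of_finite)
    calc ⁅K, K⁆.relIndex K = ((⁅K, K⁆).subgroupOf K).index := rfl
      _ ≤ F.ker.index := Nat.le_of_dvd (Nat.pos_of_ne_zero Subgroup.index_ne_zero_of_finite)
          (Subgroup.index_dvd_of_le hker)
      _ ≤ Nat.card ((R ⧸ W₂.subgroupOf R) →* ℂˣ) := by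
        rw [Subgroup.index_ker]; exact Subgroup.card_le_card_group _
      _ ≤ Nat.card (R ⧸ W₂.subgroupOf R) := natCard_hom_le _
      _ = _ := rfl

end Centre

end TypeVData

end CfsgLib.OddOrder.TypeV
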