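import Cfsg.Agent.Lib.OddOrder.S10.TypeV.Bridge
import Cfsg.Agent.Lib.OddOrder.S10.TypeV.Group
import Cfsg.Agent.Lib.CharTheory.Sibley

/-!
Peterfalvi (10.10), case (6.8 c2): the weights of the layers, `|K : K'| ≥ p³` in class at least three, the
columns that exhaust the characters nontrivial on `W₂`, and the adjunction of the remaining members.
-/

set_option autoImplicit false
set_option linter.unusedSectionVars false
set_option linter.style.haveILetI false

namespace CfsgLib.OddOrder.TypeV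

open Cfsg CfsgLib.CharTheory CfsgLib.Dade CfsgLib.OddOrder.Found CfsgLib.OddOrder.Ten
open scoped ComplexConjugate commutatorElement

universe u

variable {G : Type u} [Group G] [Fintype G] {M : Subgroup G} [Fintype M] {K W₁ W₂ : Subgroup M}
  {H : G → Subgroup G}

/-- The degree of a member of `S` divided by `|W₁|`. -/
noncomputable def degQ (W₁ : Subgroup M) (φ : M → ℂ) : ℕ := ⌊(φ 1).re / (Nat.card W₁ : ℝ)⌋₊

theorem degQ_eq {φ : M → ℂ} {k : ℕ} (h : φ 1 = ((Nat.card W₁ * k : ℕ) : ℂ)) : degQ W₁ φ = k := by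
  rw [degQ, h, Complex.natCast_re, Nat.cast_mul, mul_div_cancel_left₀ _ (Nat.cast_ne_zero.mpr Nat.card_pos.ne'),
    Nat.floor_natCast]

namespace TypeVData

variable {d : TenData M K W₁ W₂ H} {p : ℕ} (t : TypeVData d p)
include t

theorem degQ_spec {φ : M → ℂ} (hφ : φ ∈ inducedIrrAbove K (⊥ : Subgroup M)) :
    φ 1 = ((Nat.card W₁ * degQ W₁ φ : ℕ) : ℂ) ∧ ∃ m, degQ W₁ φ = p ^ m := by
  obtain ⟨m, hm⟩ := t.exists_deg hφ
  exact ⟨by rw [degQ_eq hm]; exact hm, m, degQ_eq hm⟩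

theorem degQ_pos {φ : M → ℂ} (hφ : φ ∈ inducedIrrAbove K (⊥ : Subgroup M)) : 0 < degQ W₁ φ := by
  obtain ⟨-, m, hm⟩ := t.degQ_spec hφ
  rw [hm]
  exact pow_pos t.hp.pos m

theorem degQ_indFun {θ : K → ℂ} {k : ℕ} (hk : θ 1 = k) : degQ W₁ (indFun K θ) = k := degQ_eq (t.indFun_deg hk)

theorem degQ_conj {φ : M → ℂ} (hφ : φ ∈ inducedIrrAbove K (⊥ : Subgroup M)) :
    degQ W₁ (conjFun φ) = degQ W₁ φ := by
  refine degQ_eq ?_
  show conj (φ 1) = _
  rw [(t.degQ_spec hφ).1, map_natCast]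

theorem degQ_muSum [Fintype (W₁ →* ℂˣ)] {b : W₂ →* ℂˣ} {k : ℕ} (hk : d.prime.colChar b 1 = k) :
    degQ W₁ (d.prime.muSum b) = k := by
  rw [← d.prime.indFun_colChar]
  exact t.degQ_indFun hk

theorem muCols_subset [Fintype (W₁ →* ℂˣ)] [Fintype (W₂ →* ℂˣ)] :
    (↑(muCols d) : Set (M → ℂ)) ⊆ inducedIrrAbove K (⊥ : Subgroup M) := fun φ hφ => by
  obtain ⟨b, hb, rfl⟩ := mem_muCols.mp hφ
  exact d.muSum_mem hb

theorem muCols_conj [Fintype (W₁ →* ℂˣ)] [Fintype (W₂ →* ℂˣ)] {φ : M → ℂ} (hφ : φ ∈ muCols d) :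
    conjFun φ ∈ muCols d := by
  obtain ⟨b, hb, rfl⟩ := mem_muCols.mp hφ
  refine mem_muCols.mpr ⟨b⁻¹, fun e => hb (MonoidHom.ext fun x => inv_eq_one.mp (DFunLike.congr_fun e x)), ?_⟩
  rw [← d.prime.indFun_colChar, ← d.prime.indFun_colChar, ← indFun_conjFun, d.prime.colChar_conj]

/-- The weight of a layer of irreducible members. -/
theorem layer_count (A B : Subgroup M) [A.Normal] [B.Normal] (hAB : A ≤ B) (hBK : B ≤ K)
    (hirr : ∀ φ ∈ layerFin K A B, IsIrrCharacter M φ) :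
    (∑ φ ∈ layerFin K A B, degQ W₁ φ ^ 2) * Nat.card W₁ + B.relIndex K = A.relIndex K := by
  haveI := d.prime.normal
  have h := layer_sum_sq K A B hAB hBK hirr (fun φ => Nat.card W₁ * degQ W₁ φ) fun φ hφ =>
    (t.degQ_spec (inducedIrrAbove_subset K A (mem_layerFin.mp hφ).1)).1
  rw [← Subgroup.relIndex_mul_index hBK, ← Subgroup.relIndex_mul_index (hAB.trans hBK), d.prime.index_eq] at h
  simp only [mul_pow, ← Finset.mul_sum] at h
  refine Nat.eq_of_mul_eq_mul_right (Nat.card_pos (α := W₁)) ?_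
  rw [← h]
  ring

theorem relIndex_pow (A : Subgroup M) : ∃ i, A.relIndex K = p ^ i := by
  obtain ⟨a, ha⟩ := t.exists_card
  obtain ⟨i, -, hi⟩ := (Nat.dvd_prime_pow t.hp).mp (show A.relIndex K ∣ p ^ a from ha ▸ Subgroup.index_dvd_card _)
  exact ⟨i, hi⟩

theorem irr_layer_of_W₂_le {A B : Subgroup M} (hA : W₂ ≤ A) : ∀ φ ∈ layerFin K A B, IsIrrCharacter M φ :=
  fun _ hφ => t.irr_of_W₂_le hA (mem_layerFin.mp hφ).1

/-- The linear family has `(|K : K'| - 1) / |W₁|` members. -/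
theorem linear_count : (layerFin K ⁅K, K⁆ K).card * Nat.card W₁ + 1 = ⁅K, K⁆.relIndex K := by
  haveI := d.prime.normal
  have h := t.layer_count ⁅K, K⁆ K t.derived_lt.le le_rfl (t.irr_layer_of_W₂_le d.le_derived)
  rw [Finset.sum_congr rfl fun φ hφ => show degQ W₁ φ ^ 2 = 1 by
    have hz := t.isTenZeta ((mem_layerFin_top).mp hφ)
    rw [degQ_eq (k := 1) (by rw [mul_one]; exact hz.deg), one_pow],
    Subgroup.relIndex_self, Finset.sum_const, smul_eq_mul, mul_one] at h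
  exact h

/-- In class at least three `|K : K'| ≥ p³`. -/
theorem three_le_exponent (hZ : ⁅K, K⁆ ⊓ Subgroup.centralizer (K : Set M) = W₂) (hcl : ¬ ⁅K, K⁆ ≤ W₂) {b : ℕ}
    (hb : ⁅K, K⁆.relIndex K = p ^ b) : 3 ≤ b := by
  classical
  haveI := d.prime.normal
  haveI := Fact.mk t.hp
  haveI := t.W₂_normal hZ
  have hdvd1 : ∀ {A : ℕ} {x : ℕ}, A * Nat.card W₁ + x = p * x → Nat.card W₁ ∣ (p - 1) * x := fun {A x} h =>
    ⟨A, by rw [Nat.sub_mul, one_mul, ← h, Nat.add_sub_cancel, mul_comm]⟩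
  have hy := t.linear_count
  rw [hb] at hy
  rcases Nat.lt_or_ge b 3 with hlt | hge
  swap
  · exact hge
  exfalso
  interval_cases b
  · rw [pow_zero] at hb
    exact t.derived_lt.not_ge (Subgroup.relIndex_eq_one.mp hb)
  · rw [pow_one] at hy
    exact t.notdvd ⟨(layerFin K ⁅K, K⁆ K).card, by rw [← hy, Nat.add_sub_cancel, mul_comm]⟩
  · -- `b = 2`
    have hK'K : ⁅K, K⁆ ≤ K := t.derived_lt.le
    set N := ⁅⁅K, K⁆, K⁆ with hN
    haveI : N.Normal := inferInstance
    have hNle : N ≤ ⁅K, K⁆ := Subgroup.commutator_mono hK'K le_rfl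
    have hNne : ¬ ⁅K, K⁆ ≤ N := fun e => t.derived_ne_bot (eq_bot_of_le_commutator t.nilK hK'K e)
    have hcube : N.relIndex K ∣ p ^ 3 := by
      haveI : (N.subgroupOf K).Normal := inferInstance
      refine card_dvd_cube (Q := K ⧸ N.subgroupOf K) (fun q hq => ?_) ?_
      · obtain ⟨x, hx, rfl⟩ : q ∈ (commutator K).map (QuotientGroup.mk' (N.subgroupOf K)) := by
          rw [map_commutator_eq, MonoidHom.range_eq_top.mpr (QuotientGroup.mk'_surjective _), ← commutator_def]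
          exact hq
        rw [Subgroup.mem_center_iff]
        intro y
        obtain ⟨y, rfl⟩ := QuotientGroup.mk'_surjective (N.subgroupOf K) y
        rw [← map_mul, ← map_mul, QuotientGroup.mk'_apply, QuotientGroup.mk'_apply, QuotientGroup.eq]
        have hmem : ⁅(x : M)⁻¹, (y : M)⁻¹⁆ ∈ N := by
          refine Subgroup.commutator_mem_commutator (Subgroup.inv_mem _ ?_) (K.inv_mem y.2)
          rw [← Subgroup.map_subtype_commutator]
          exact ⟨x, hx, rfl⟩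
        rw [Subgroup.mem_subgroupOf]
        simpa [commutatorElement_def, mul_assoc] using hmem
      · have h1 : commutator (K ⧸ N.subgroupOf K) =
            (commutator K).map (QuotientGroup.mk' (N.subgroupOf K)) := by
          rw [map_commutator_eq, MonoidHom.range_eq_top.mpr (QuotientGroup.mk'_surjective _), ← commutator_def]
        rw [h1, Subgroup.index_map_eq _ (QuotientGroup.mk'_surjective _), ← hb, Subgroup.relIndex,
          ← Subgroup.map_subtype_commutator, Subgroup.subgroupOf, Subgroup.comap_map_eq_self_of_injective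
            K.subtype_injective]
        rw [QuotientGroup.ker_mk']
        intro x hx
        have := hNle (Subgroup.mem_subgroupOf.mp hx)
        rw [← Subgroup.map_subtype_commutator] at this
        obtain ⟨y, hy, e⟩ := this
        exact Subtype.val_injective e ▸ hy
    have hNK : N.relIndex K = p ^ 3 := by
      have h1 := Subgroup.relIndex_mul_relIndex _ _ _ hNle hK'K
      obtain ⟨i, -, hi⟩ := (Nat.dvd_prime_pow t.hp).mp hcube
      rw [hb, hi] at h1
      have hi2 : 2 ≤ i := (Nat.pow_le_pow_iff_right t.hp.one_lt).mp (Nat.le_of_dvd (pow_pos t.hp.pos i)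
        ⟨_, (mul_comm _ _).trans h1 |>.symm⟩)
      have hi3 : i ≠ 2 := fun e => hNne (Subgroup.relIndex_eq_one.mp
        (Nat.eq_of_mul_eq_mul_right (pow_pos t.hp.pos 2) (by rw [e] at h1; rw [h1, one_mul])))
      have hi4 : i ≤ 3 := (Nat.pow_le_pow_iff_right t.hp.one_lt).mp
        (Nat.le_of_dvd (pow_pos t.hp.pos 3) (hi ▸ hcube))
      rw [hi, show i = 3 by omega]
    by_cases hW : W₂ ≤ N
    · have h := t.layer_count N ⁅K, K⁆ hNle hK'K (t.irr_layer_of_W₂_le hW)
      rw [hb, hNK, pow_succ' p 2] at h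
      exact t.notdvd ((t.coprime_w.pow_right 2).dvd_of_dvd_mul_right (hdvd1 h))
    · refine hcl ?_
      -- `K' = W₂ N`
      have hlt : N < W₂ ⊔ N := lt_of_le_of_ne le_sup_right fun e => hW (e ▸ le_sup_left)
      have hle : W₂ ⊔ N ≤ ⁅K, K⁆ := sup_le d.le_derived hNle
      have heq : W₂ ⊔ N = ⁅K, K⁆ := by
        refine le_antisymm hle ?_
        have h1 := Subgroup.relIndex_mul_relIndex _ _ _ hlt.le hle
        have h2 := Subgroup.relIndex_mul_relIndex _ _ _ hNle hK'K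
        rw [hb, hNK, pow_succ' p 2] at h2
        rw [Nat.eq_of_mul_eq_mul_right (pow_pos t.hp.pos 2) h2] at h1
        rcases (Nat.dvd_prime t.hp).mp ⟨_, h1.symm⟩ with e | e
        · exact absurd (Subgroup.relIndex_eq_one.mp e) hlt.not_ge
        · rw [e] at h1
          exact Subgroup.relIndex_eq_one.mp ((mul_eq_left₀ t.hp.ne_zero).mp h1)
      have hNN : N ≤ ⁅N, K⁆ := by
        rw [hN]
        refine Subgroup.commutator_le.mpr fun x hx y hy => ?_
        rw [← heq, Subgroup.mem_sup_of_normal_left] at hx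
        obtain ⟨z, hz, g, hg, rfl⟩ := hx
        have hzy : z * y = y * z := (t.W₂_central hZ z hz y hy).symm
        have e : ⁅z * g, y⁆ = z * ⁅g, y⁆ * z⁻¹ := by
          rw [commutatorElement_def, commutatorElement_def]
          calc z * g * y * (z * g)⁻¹ * y⁻¹ = z * (g * y * g⁻¹) * (z⁻¹ * y⁻¹) := by group
            _ = z * (g * y * g⁻¹) * (y⁻¹ * z⁻¹) := by rw [← mul_inv_rev, ← mul_inv_rev, hzy]
            _ = _ := by group
        rw [e]
        exact (inferInstance : (⁅N, K⁆).Normal).conj_mem _ (Subgroup.commutator_mem_commutator hg hy) z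
      have hbot := eq_bot_of_le_commutator t.nilK (hNle.trans hK'K) hNN
      rw [← heq, hbot, sup_bot_eq]

/-- If every column has full degree, the members nontrivial on `W₂` are the column sums. -/
theorem eq_muSum_of_full [Fintype (W₁ →* ℂˣ)] [Fintype (W₂ →* ℂˣ)] [W₂.Normal]
    (hfull : ∀ b : W₂ →* ℂˣ, b ≠ 1 → d.prime.colChar b 1 ^ 2 = (W₂.relIndex K : ℂ))
    {φ : M → ℂ} (hφ : φ ∈ inducedIrrAbove K (⊥ : Subgroup M)) :
    φ ∈ inducedIrrAbove K W₂ ∨ φ ∈ muCols d := by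
  classical
  haveI := d.prime.normal
  haveI := Fintype.ofFinite K
  obtain ⟨θ, hθ, h1, -, rfl⟩ := hφ
  by_cases hk : ∀ k : K, (k : M) ∈ W₂ → θ k = θ 1
  · exact Or.inl ⟨θ, hθ, h1, hk, rfl⟩
  right
  choose δ hδ0 hδ using fun η : IrrCharacter K => irr_degree_pos η.2
  have htot := sum_sq_nontrivial_on (L := K) (W₂.subgroupOf K) δ hδ
  set T := (Finset.univ : Finset (IrrCharacter K)).filter fun η : IrrCharacter K =>
    ∃ z ∈ W₂.subgroupOf K, (η : K → ℂ) z ≠ (η : K → ℂ) 1 with hT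
  set C := ((Finset.univ : Finset (W₂ →* ℂˣ)).filter (· ≠ 1)).image
    (fun b => (⟨d.prime.colChar b, d.prime.isIrr_colChar b⟩ : IrrCharacter K)) with hC
  have hCT : C ⊆ T := fun η hη => by
    obtain ⟨b, hb, rfl⟩ := Finset.mem_image.mp hη
    refine Finset.mem_filter.mpr ⟨Finset.mem_univ _, ?_⟩
    by_contra hno
    push Not at hno
    exact (Finset.mem_filter.mp hb).2 (d.prime.eq_one_of_kernel fun k hk => hno k hk)
  have hsumC : ∑ η ∈ C, δ η ^ 2 = (p - 1) * W₂.relIndex K := by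
    rw [hC, Finset.sum_image fun x _ y _ e => d.prime.colChar_injective (congrArg Subtype.val e),
      Finset.sum_congr rfl fun b hb => show δ ⟨d.prime.colChar b, d.prime.isIrr_colChar b⟩ ^ 2 = W₂.relIndex K by
        have h := hfull b (Finset.mem_filter.mp hb).2
        rw [show d.prime.colChar b 1 =
          ((⟨d.prime.colChar b, d.prime.isIrr_colChar b⟩ : IrrCharacter K) : K → ℂ) 1 from rfl, hδ] at h
        exact_mod_cast h,
      Finset.sum_const, smul_eq_mul, Finset.filter_ne' , Finset.card_erase_of_mem (Finset.mem_univ _),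
      Finset.card_univ, d.card_hom₂', t.card₂]
  have hsumT : ∑ η ∈ T, δ η ^ 2 = (p - 1) * W₂.relIndex K := by
    have hK : Nat.card K = p * W₂.relIndex K := by
      rw [← Subgroup.card_mul_index (W₂.subgroupOf K),
        Nat.card_congr (Subgroup.subgroupOfEquivOfLe d.prime.le_kernel).toEquiv, t.card₂]
      rfl
    have h : (∑ η ∈ T, δ η ^ 2) + W₂.relIndex K = Nat.card K := htot
    rw [hK] at h
    rw [Nat.sub_mul, one_mul, ← h, Nat.add_sub_cancel]
  have heq : C = T := by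
    refine Finset.Subset.antisymm hCT ?_
    intro η hη
    by_contra hno
    have h := Finset.sum_sdiff (f := fun η => δ η ^ 2) hCT
    rw [hsumC, hsumT] at h
    have hle : δ η ^ 2 ≤ ∑ ξ ∈ T \ C, δ ξ ^ 2 :=
      Finset.single_le_sum (fun ξ _ => Nat.zero_le (δ ξ ^ 2)) (Finset.mem_sdiff.mpr ⟨hη, hno⟩)
    have := pow_pos (hδ0 η) 2
    omega
  push Not at hk
  obtain ⟨z, hz, hne⟩ := hk
  have hmem : (⟨θ, hθ⟩ : IrrCharacter K) ∈ T := Finset.mem_filter.mpr ⟨Finset.mem_univ _, z, hz, hne⟩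
  rw [← heq, hC, Finset.mem_image] at hmem
  obtain ⟨b, hb, e⟩ := hmem
  exact mem_muCols.mpr ⟨b, (Finset.mem_filter.mp hb).2, by
    rw [← d.prime.indFun_colChar, show d.prime.colChar b = θ from congrArg Subtype.val e]⟩

/-- **Adjunction** of the members outside a coherent base, weighed by a part of constant norm. -/
theorem adjoin_rest {R : (M → ℂ) → Finset (G → ℂ)}
    (hR : IsCoherenceSystem (inducedIrrAbove K (⊥ : Subgroup M)) d.tau R)
    {T : Set (M → ℂ)} (hTS : T ⊆ inducedIrrAbove K (⊥ : Subgroup M)) (hTc : ∀ φ ∈ T, conjFun φ ∈ T)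
    (B : Finset (M → ℂ)) (hBT : ↑B ⊆ T) (hBc : ∀ φ ∈ B, conjFun φ ∈ B)
    (hcoh : IsCoherent (↑B : Set (M → ℂ)) {1}ᶜ d.tau) {ζ : M → ℂ} (hζB : ζ ∈ B) (hζ : IsTenZeta d ζ)
    (hstep : ∀ φ ∈ T, φ ∉ B → ∃ B' ⊆ B, ∃ c : ℕ, 0 < c ∧ (∀ ψ ∈ B', classInner ψ ψ = (c : ℂ)) ∧
      2 * degQ W₁ φ * c < ∑ ψ ∈ B', degQ W₁ ψ ^ 2) :
    IsCoherent T {1}ᶜ d.tau := by
  classical
  have hsys := coherenceSystem_subset hR hTS ⟨ζ, hBT hζB⟩ hTc
  choose! n hn using fun φ (hφ : φ ∈ T) =>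
    classInner_char_nat (hR.isCharacter φ (hTS hφ)) (hR.isCharacter φ (hTS hφ))
  have hfin : T.Finite := (inducedIrrAbove_finite K ⊥).subset hTS
  refine coherent_extend_all hsys (fun φ => Nat.card W₁ * degQ W₁ φ) n (fun φ hφ => (t.degQ_spec (hTS hφ)).1) hn
    hfin.toFinset (Set.Finite.coe_toFinset _) B hBT hBc hcoh hζB (fun φ _ _ => ?_) (fun φ hφ hnot => ?_)
  · rw [degQ_eq (φ := ζ) (k := 1) (by rw [mul_one]; exact hζ.deg), mul_one]
    exact dvd_mul_right _ _
  · obtain ⟨B', hB', c, hc, hnorm, hlt⟩ := hstep φ hφ hnot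
    refine lt_of_lt_of_le ?_ (Finset.sum_le_sum_of_subset_of_nonneg hB' fun i _ _ => by positivity)
    have hn' : ∀ ψ ∈ B', n ψ = c := fun ψ hψ => by
      have h := (hn ψ (hBT (hB' hψ))).symm.trans (hnorm ψ hψ)
      exact_mod_cast h
    rw [degQ_eq (φ := ζ) (k := 1) (by rw [mul_one]; exact hζ.deg), mul_one,
      Finset.sum_congr rfl fun ψ hψ => show ((Nat.card W₁ * degQ W₁ ψ : ℕ) : ℝ) ^ 2 / (n ψ : ℝ) =
        (Nat.card W₁ : ℝ) ^ 2 * (((degQ W₁ ψ ^ 2 : ℕ) : ℝ) / (c : ℝ)) by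
        rw [hn' ψ hψ]; push_cast; ring,
      ← Finset.mul_sum, ← Finset.sum_div, ← Nat.cast_sum]
    have hc' : (0 : ℝ) < c := by exact_mod_cast hc
    have hw : (0 : ℝ) < (Nat.card W₁ : ℝ) ^ 2 := by
      have : (0 : ℝ) < Nat.card W₁ := by exact_mod_cast Nat.card_pos
      positivity
    have hlt' : ((2 * degQ W₁ φ : ℕ) : ℝ) < ((∑ ψ ∈ B', degQ W₁ ψ ^ 2 : ℕ) : ℝ) / c := by
      rw [lt_div_iff₀ hc', ← Nat.cast_mul]
      exact_mod_cast hlt
    have := mul_lt_mul_of_pos_left hlt' hw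
    push_cast at this ⊢
    linarith

end TypeVData

end CfsgLib.OddOrder.TypeV
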