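import Cfsg.Agent.Lib.OddOrder.S10.TypeV.Restrict

/-!
Peterfalvi (10.10), case (6.8 c2) with `K' ∩ Z(K) = W₂`: characters of `K` that are not trivial on `W₂`.
-/

set_option autoImplicit false
set_option linter.unusedSectionVars false
set_option linter.style.haveILetI false

namespace CfsgLib.OddOrder.TypeV

open Cfsg CfsgLib.CharTheory CfsgLib.Dade CfsgLib.OddOrder.Found CfsgLib.OddOrder.Ten
open scoped ComplexConjugate commutatorElement

universe u

variable {G : Type u} [Group G] [Fintype G] {M : Subgroup G} [Fintype M] {K W₁ W₂ : Subgroup M}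
  {H : G → Subgroup G}

namespace TypeVData

variable {d : TenData M K W₁ W₂ H} {p : ℕ} (t : TypeVData d p)
include t

variable (hZ : ⁅K, K⁆ ⊓ Subgroup.centralizer (K : Set M) = W₂)
include hZ

theorem W₂_center {k : K} (hk : (k : M) ∈ W₂) (y : K) : y * k = k * y :=
  Subtype.ext (t.W₂_central hZ k hk y y.2)

/-- A character that is not trivial on `W₂` is nowhere trivial on `W₂ \ 1`. -/
theorem apply_ne_of_nontrivial {θ : K → ℂ} (hθ : IsIrrCharacter K θ)
    (hnt : ¬ ∀ k : K, (k : M) ∈ W₂ → θ k = θ 1) {z : K} (hz : (z : M) ∈ W₂) (hz1 : z ≠ 1) : θ z ≠ θ 1 := by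
  intro e
  refine hnt fun k hk => ?_
  haveI := Fintype.ofFinite K
  obtain ⟨n, ρ, -, rfl⟩ := hθ
  let N : Subgroup K :=
    { carrier := {x | ρ x = 1}
      one_mem' := map_one ρ
      mul_mem' := fun {a b} ha hb => by simp only [Set.mem_ofPred_eq] at *; rw [map_mul, ha, hb, one_mul]
      inv_mem' := fun {a} ha => by
        simp only [Set.mem_ofPred_eq] at *
        have h := map_mul ρ a a⁻¹
        rw [mul_inv_cancel, map_one, ha, one_mul] at h
        exact h.symm }
  have hle : W₂.subgroupOf K ≤ N := by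
    have hzN : z ∈ N := rep_apply_eq_one_of_char_eq ρ e
    haveI : Fact (Nat.card (W₂.subgroupOf K)).Prime := ⟨by
      rw [Nat.card_congr (Subgroup.subgroupOfEquivOfLe d.prime.le_kernel).toEquiv, t.card₂]; exact t.hp⟩
    rcases Subgroup.eq_bot_or_eq_top_of_prime_card (N.subgroupOf (W₂.subgroupOf K)) with h | h
    · exact absurd (Subgroup.eq_bot_iff_forall _ |>.mp h ⟨z, hz⟩ hzN) fun e => hz1 (congrArg Subtype.val e)
    · exact Subgroup.subgroupOf_eq_top.mp h
  have hkN : ρ k = 1 := hle hk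
  simp [Representation.character, hkN]

/-- A character that is not trivial on `W₂` vanishes at an element with a non-trivial commutator in `W₂`. -/
theorem vanish_of_mem_W₂ {θ : K → ℂ} (hθ : IsIrrCharacter K θ)
    (hnt : ¬ ∀ k : K, (k : M) ∈ W₂ → θ k = θ 1) {k y : K} (hmem : (y : M) * k * (y : M)⁻¹ * (k : M)⁻¹ ∈ W₂)
    (hne : y * k ≠ k * y) : θ k = 0 := by
  haveI := Fintype.ofFinite K
  refine vanish_of_commutator hθ (g := k) (h := y) (z := y * k * y⁻¹ * k⁻¹) (t.W₂_center hZ hmem) (by group)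
    (t.apply_ne_of_nontrivial hZ hθ hnt hmem fun e => hne ?_)
  exact mul_inv_eq_iff_eq_mul.mp (mul_inv_eq_one.mp e)

/-- The columns are not trivial on `W₂`. -/
theorem colChar_nontrivial {b : W₂ →* ℂˣ} (hb : b ≠ 1) :
    ¬ ∀ k : K, (k : M) ∈ W₂ → d.prime.colChar b k = d.prime.colChar b 1 :=
  fun h => hb (d.prime.eq_one_of_kernel h)

/-- A character vanishing outside the central subgroup `W₂` is fully ramified over it. -/
theorem sq_deg_of_vanish [Fintype K] {θ : K → ℂ} (hθ : IsIrrCharacter K θ)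
    (hvan : ∀ k : K, (k : M) ∉ W₂ → θ k = 0) : θ 1 ^ 2 = (W₂.relIndex K : ℂ) := by
  classical
  obtain ⟨m, -, hm⟩ := irr_degree_pos hθ
  have hz : ∀ k : K, (k : M) ∈ W₂ → θ k * conj (θ k) = θ 1 ^ 2 := fun k hk => by
    have h := irr_central_mul hθ (t.W₂_center hZ hk) k⁻¹
    rw [mul_inv_cancel, char_apply_inv (isCharacter_of_irr hθ)] at h
    rw [← h]; ring
  have h := classInner_irr_self hθ
  rw [classInner, ← Finset.sum_filter_add_sum_filter_not Finset.univ (fun k : K => (k : M) ∈ W₂),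
    Finset.sum_eq_zero (s := Finset.univ.filter fun k : K => ¬ (k : M) ∈ W₂)
      (fun k hk => by rw [hvan k (Finset.mem_filter.mp hk).2, zero_mul]), add_zero,
    Finset.sum_congr rfl fun k hk => hz k (Finset.mem_filter.mp hk).2, Finset.sum_const, nsmul_eq_mul,
    ← Fintype.card_subtype, ← Nat.card_eq_fintype_card, inv_mul_eq_iff_eq_mul₀ (Nat.cast_ne_zero.mpr Nat.card_pos.ne'),
    mul_one] at h
  have hK : Nat.card K = Nat.card {k : K // (k : M) ∈ W₂} * W₂.relIndex K :=
    (Subgroup.card_mul_index (W₂.subgroupOf K)).symm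
  rw [hK, Nat.cast_mul] at h
  haveI : Nonempty {k : K // (k : M) ∈ W₂} := ⟨⟨1, W₂.one_mem⟩⟩
  exact mul_left_cancel₀ (Nat.cast_ne_zero.mpr Nat.card_pos.ne') h

end TypeVData

end CfsgLib.OddOrder.TypeV
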