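import Cfsg.Agent.Lib.OddOrder.S10.TypeV.Numbers

/-!
Peterfalvi (10.10), case (6.8 c2): the restriction to `M` of a function orthogonal to the images of a layer,
and the least degree in a layer.
-/

set_option autoImplicit false
set_option linter.unusedSectionVars false
set_option linter.style.haveILetI false

namespace CfsgLib.OddOrder.TypeV

open Cfsg CfsgLib.CharTheory CfsgLib.Dade CfsgLib.OddOrder.Found CfsgLib.OddOrder.Ten
open scoped ComplexConjugate commutatorElement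

universe u

section General

variable {L : Type u} [Group L] [Fintype L] (K A B : Subgroup L) [K.Normal] [A.Normal] [B.Normal]

open Classical in
/-- A weighted sum of values that kills every character outside a layer, for a class function whose
coefficients on the layer are proportional to the degrees. -/
theorem layer_weighted (hAB : A ≤ B) (hBK : B ≤ K) (hirr : ∀ φ ∈ layerFin K A B, IsIrrCharacter L φ)
    {f : L → ℂ} (hf : IsClassFunction L f) (w : (L → ℂ) → ℕ) {N : ℂ} {n₀ : ℤ}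
    (hdeg : ∀ φ ∈ layerFin K A B, φ 1 = N * w φ)
    (hrel : ∀ φ ∈ layerFin K A B, classInner φ f = (w φ : ℂ) * n₀) (s : Finset L) (c : L → ℂ)
    (hc : ∀ θ : L → ℂ, IsIrrCharacter L θ → θ ∉ layerFin K A B → ∑ x ∈ s, c x * θ x = 0) :
    (∑ x ∈ s, c x * f x) * N =
      n₀ * ∑ x ∈ s, c x * ((if x ∈ A then (A.index : ℂ) else 0) - (if x ∈ B then (B.index : ℂ) else 0)) := by
  conv_rhs => rw [Finset.mul_sum]; arg 2; ext x; rw [← layer_sum_apply K A B hAB hBK hirr x, Finset.mul_sum,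
    Finset.mul_sum]
  rw [Finset.sum_comm, eq_sum_irr hf]
  simp only [Finset.sum_apply, Pi.smul_apply, smul_eq_mul, Finset.mul_sum]
  rw [Finset.sum_comm, Finset.sum_mul]
  rw [← Finset.sum_filter_add_sum_filter_not Finset.univ (fun θ : IrrCharacter L => (θ : L → ℂ) ∈ layerFin K A B),
    Finset.sum_eq_zero (s := Finset.univ.filter fun θ : IrrCharacter L => ¬ (θ : L → ℂ) ∈ layerFin K A B)
      (fun θ hθ => by
        have h := hc θ θ.2 (Finset.mem_filter.mp hθ).2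
        have e : ∑ x ∈ s, c x * (classInner f θ * (θ : L → ℂ) x) = classInner f θ * ∑ x ∈ s, c x * (θ : L → ℂ) x := by
          rw [Finset.mul_sum]; exact Finset.sum_congr rfl fun x _ => by ring
        rw [e, h, mul_zero, zero_mul]), add_zero]
  refine Finset.sum_bij (fun (θ : IrrCharacter L) _ => (θ : L → ℂ)) (fun θ hθ => (Finset.mem_filter.mp hθ).2)
    (fun θ _ η _ e => Subtype.ext e)
    (fun φ hφ => ⟨⟨φ, hirr φ hφ⟩, Finset.mem_filter.mpr ⟨Finset.mem_univ _, hφ⟩, rfl⟩) (fun θ hθ => ?_)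
  have hθX := (Finset.mem_filter.mp hθ).2
  rw [Finset.sum_mul]
  refine Finset.sum_congr rfl fun x _ => ?_
  rw [← classInner_comm, hrel _ hθX, hdeg _ hθX, map_mul, map_natCast, map_intCast]
  ring

end General

variable {G : Type u} [Group G] [Fintype G] {M : Subgroup G} [Fintype M] {K W₁ W₂ : Subgroup M}
  {H : G → Subgroup G}

namespace TypeVData

variable {d : TenData M K W₁ W₂ H} {p : ℕ} (t : TypeVData d p)
include t

/-- A function orthogonal to a coherent layer restricts to `M` with coefficients proportional to the degrees. -/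
theorem coeff_restrict {X : Finset (M → ℂ)} (hXS : ↑X ⊆ inducedIrrAbove K (⊥ : Subgroup M))
    {σ : (M → ℂ) → (G → ℂ)} (hσ : IsLinearIsometryOn (zspan ↑X) σ)
    (hσα : ∀ α ∈ zspanOn ↑X {1}ᶜ, σ α = d.tau α) (w : (M → ℂ) → ℕ) {N : ℂ}
    (hdeg : ∀ φ ∈ X, φ 1 = N * w φ) {χ : M → ℂ} (hχ : χ ∈ X) (hwχ : w χ = 1) {η : G → ℂ}
    (hη : IsClassFunction G η) (horth : ∀ φ ∈ X, classInner (σ φ) η = 0) {φ : M → ℂ} (hφ : φ ∈ X) :
    classInner φ (fun x : M => η x) = (w φ : ℂ) * classInner χ (fun x : M => η x) := by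
  have hmX : φ - (w φ : ℤ) • χ ∈ zspanOn ↑X {1}ᶜ :=
    ⟨Submodule.sub_mem _ (Submodule.subset_span hφ) (Submodule.smul_mem _ _ (Submodule.subset_span hχ)),
      fun x hx => by
        rw [show x = 1 by simpa using hx, Pi.sub_apply, Pi.smul_apply, hdeg φ hφ, hdeg χ hχ, hwχ, zsmul_eq_mul]
        push_cast; ring⟩
  have hmS : φ - (w φ : ℤ) • χ ∈ zspanOn (inducedIrrAbove K (⊥ : Subgroup M)) {1}ᶜ :=
    ⟨Submodule.span_mono hXS hmX.1, hmX.2⟩
  obtain ⟨hg, hz⟩ := d.span_zero_off hmS.1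
  have h := t.tau_reciprocity (isGenChar_iff_coeff_int.mp hg).1 hz (hmS.2 1 fun e => e rfl) hη
  rw [← hσα _ hmX, ← one_smul ℤ φ, li_comb hσ (Submodule.subset_span hφ) (Submodule.subset_span hχ), one_smul] at h
  simp only [classInner_sub_left, classInner_smul_left, horth φ hφ, horth χ hχ, mul_zero, sub_zero,
    ← Int.cast_smul_eq_zsmul ℂ, Int.cast_natCast] at h
  linear_combination -h

/-- A member of degree `|W₁|` has `K'` in its kernel. -/
theorem mem_derived_of_degQ_one {φ : M → ℂ} (hφ : φ ∈ inducedIrrAbove K (⊥ : Subgroup M))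
    (h1 : degQ W₁ φ = 1) : φ ∈ inducedIrrAbove K ⁅K, K⁆ := by
  haveI := d.prime.normal
  haveI := Fintype.ofFinite K
  obtain ⟨θ, hθ, hne, -, rfl⟩ := hφ
  obtain ⟨k, -, hk⟩ := irr_degree_pos hθ
  rw [t.degQ_indFun hk] at h1
  obtain ⟨f, hf⟩ := exists_hom_of_degree_one (isCharacter_of_irr hθ) (by rw [hk, h1, Nat.cast_one])
  refine ⟨θ, hθ, hne, fun b hb => ?_, rfl⟩
  have hker : ⁅K, K⁆ ≤ f.ker.map K.subtype := by
    refine Subgroup.commutator_le.mpr fun x hx y hy => ⟨⁅(⟨x, hx⟩ : K), ⟨y, hy⟩⁆, ?_, rfl⟩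
    rw [SetLike.mem_coe, MonoidHom.mem_ker, map_commutatorElement, commutatorElement_eq_one_iff_commute]
    exact Commute.all _ _
  obtain ⟨c, hc, hcb⟩ := hker hb
  obtain rfl : b = c := Subtype.ext hcb.symm
  rw [hf]
  show ((f b : ℂˣ) : ℂ) = ((f 1 : ℂˣ) : ℂ)
  rw [MonoidHom.mem_ker.mp hc, map_one]

/-- A member of least degree in a nonempty set of members. -/
theorem exists_least {X : Finset (M → ℂ)} (hXS : ↑X ⊆ inducedIrrAbove K (⊥ : Subgroup M)) (hne : X.Nonempty) :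
    ∃ χ ∈ X, ∃ w : (M → ℂ) → ℕ, 0 < degQ W₁ χ ∧ w χ = 1 ∧ ∀ φ ∈ X, 0 < w φ ∧
      degQ W₁ φ = degQ W₁ χ * w φ ∧ φ 1 = (Nat.card W₁ : ℂ) * (degQ W₁ χ : ℂ) * (w φ : ℂ) := by
  obtain ⟨χ, hχ, hmin⟩ := X.exists_min_image (degQ W₁) hne
  have hpos := t.degQ_pos (hXS hχ)
  refine ⟨χ, hχ, fun φ => degQ W₁ φ / degQ W₁ χ, hpos, Nat.div_self hpos, fun φ hφ => ?_⟩
  obtain ⟨-, m, hm⟩ := t.degQ_spec (hXS hφ)
  obtain ⟨-, m₀, hm₀⟩ := t.degQ_spec (hXS hχ)
  have hle := hmin φ hφ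
  have hdvd : degQ W₁ χ ∣ degQ W₁ φ := by
    rw [hm, hm₀] at hle ⊢
    exact pow_dvd_pow p ((Nat.pow_le_pow_iff_right t.hp.one_lt).mp hle)
  refine ⟨Nat.div_pos hle hpos, (Nat.mul_div_cancel' hdvd).symm, ?_⟩
  conv_lhs => rw [(t.degQ_spec (hXS hφ)).1, ← Nat.mul_div_cancel' hdvd]
  push_cast
  ring

end TypeVData

end CfsgLib.OddOrder.TypeV
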